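import Cfsg.Agent.OddCyclic.COneXL_m3
import Cfsg.Agent.LieClassical.PSLTwoSeven
import Cfsg.Agent.SmallSimple.S1000.PSLFacts
import Cfsg.Agent.OddCyclic.CompStandard
import Cfsg.Agent.OddCyclic.AOneSit_m3
import Mathlib.GroupTheory.GroupAction.CardCommute
import Mathlib
import Cfsg.Agent.OddCyclic.CompBasic
import Cfsg.Agent.OddCyclic.FFThree_m3
import Cfsg.Agent.S0495
import Cfsg.Agent.SporRec.J1.Main
import Cfsg.Agent.Lib.DivFast
import Cfsg.Agent.OddCyclic.CaseESz
import Cfsg.Agent.OddCyclic.A4ELayer_m3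
import Cfsg.Agent.StdSz.CoverC
import Cfsg.Agent.StdSz.CoverD
import Cfsg.Agent.StdSz.Reduce
import Cfsg.Agent.SignalizersComponents.PCompQuot
import Cfsg.Agent.OddCyclic.RedFFDefs_m3
import Cfsg.Agent.OddCyclic.CaseAEight_m3
import Cfsg.Agent.OddCyclic.L2Borel
import Cfsg.Agent.ZN.Block
import Cfsg.Agent.Lib.Cores
import Cfsg.Agent.WeakTI.PslTwo
import Cfsg.Agent.Lib.PermDec
import Cfsg.Agent.Lib.Refl
import Cfsg.Agent.FastGrp
import Cfsg.Agent.Prune
set_option linter.all false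

section
prune_inst 0x7ffcfcf8afb8addfffff7e7ffed9dffe39d4dfffffdffb43ffece3ff8fdf03063be5fbad9de058ff0ef662b630b87813f97e8e7dee6bdc7ffffd5ff45ffbee0fe5f7bd8851d688340fbc0fff63f07f8e7f3fffffffffffffffffffffffffffbeffffffffffff

-- part: OddCyclic/BTwoLin/SevenIso
section
set_option linter.all false
open scoped Cfsg.Agent.FastGrp

/-!
# `PSL₂(7) ≅ SL₃(2)`
-/

set_option autoImplicit false

namespace Cfsg.Agent.OddCyclic.BTwoLin

open Matrix

theorem center_S3 (g : S3) (hg : g ∈ Subgroup.center S3) : g = 1 := by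
  rw [Matrix.SpecialLinearGroup.mem_center_iff] at hg
  obtain ⟨r, hr, h⟩ := hg
  have h1 : ∀ r : ZMod 2, r ^ 3 = 1 → r = 1 := by decide
  have h2 : r = 1 := h1 r hr
  apply Subtype.ext
  rw [← h, h2]
  simp

theorem nonempty_psl_two_seven {F : Type*} [Field F] [Finite F] (hF : Nat.card F = 7) :
    Nonempty (ProjectiveSpecialLinearGroup (Fin 2) F ≃* S3) := by
  have : Fintype F := Fintype.ofFinite F
  rw [Nat.card_eq_fintype_card] at hF
  have hf : Fact (Nat.Prime 2) := ⟨Nat.prime_two⟩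
  obtain ⟨f, hf⟩ := Cfsg.Agent.LieClassical.PSLTwoSeven.exists_injective (K := ZMod 2) hF (ZMod.card 2)
  -- the quotient by the trivial centre
  have hc : Subgroup.center S3 = ⊥ := (Subgroup.eq_bot_iff_forall _).2 center_S3
  let q : S3 ≃* ProjectiveSpecialLinearGroup (Fin 3) (ZMod 2) :=
    MulEquiv.ofBijective (QuotientGroup.mk' (Subgroup.center S3))
      ⟨by rw [← MonoidHom.ker_eq_bot_iff, QuotientGroup.ker_mk', hc], QuotientGroup.mk'_surjective _⟩
  let φ : ProjectiveSpecialLinearGroup (Fin 2) F →* S3 := q.symm.toMonoidHom.comp f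
  have hφ : Function.Injective φ := q.symm.injective.comp hf
  have hcard : Nat.card (ProjectiveSpecialLinearGroup (Fin 2) F) = Nat.card S3 := by
    rw [card_S3, Cfsg.Agent.SmallSimple.PSLFacts.card_psl_two_seven hF]
  have hb : Function.Bijective φ := (Nat.bijective_iff_injective_and_card φ).2 ⟨hφ, hcard⟩
  exact ⟨MulEquiv.ofBijective φ hb⟩

end Cfsg.Agent.OddCyclic.BTwoLin
end

-- part: OddCyclic/RedFiveThree
section
prune_inst 0x30207104752000000018001260001c62a2000002004b800111c00702068f9c40a0412621ca600f1018108c4400340048151820100210000000000000411901a0802252029348a10427000980b007180c00000000000000000000000000041000000000000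
set_option linter.all false
open scoped Cfsg.Agent.FastGrp

/-!
# S0342, (C2), (5.3): two planes, `C(z₁)` of type `(L3a)`: the group theoretic core

`Dat z₁ z₂ s N V₁ V₂ L`: `C(z₁)` normalises the elementary abelian group `N` of order 8, transitively on `N#`,
`s` exchanges `z₁` and `z₂ ∈ V₂ ≤ N`, `z₁ ∈ V₁ ≤ sNs⁻¹`, `N` and `sNs⁻¹` commute, `L ≤ C(z₁)` normalises `V₂` and
`V₁V₂`, transitively on `V₂#`.
`Dat.exists_normal`: `⟨C(z₁), s⟩` normalises an elementary abelian 2-group `W ≥ N`.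
-/

set_option autoImplicit false

namespace Cfsg.Agent.OddCyclic.RedFiveThree

open Subgroup Cfsg.Agent.OddCyclic.CompStandard

variable {G : Type*} [Group G]

structure Dat (z₁ z₂ s : G) (N V₁ V₂ L : Subgroup G) : Prop where
  s1 : s * z₁ * s⁻¹ = z₂
  s2 : s * z₂ * s⁻¹ = z₁
  norm : centralizer ({z₁} : Set G) ≤ normalizer (N : Set G)
  card : Nat.card N = 8
  sq : ∀ x ∈ N, x * x = 1
  edge : ∀ x ∈ N, ∀ y ∈ cj s N, x * y = y * x
  trans : ∀ v ∈ N, v ≠ 1 → ∃ c ∈ centralizer ({z₁} : Set G), c * z₂ * c⁻¹ = v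
  V2N : V₂ ≤ N
  card2 : Nat.card V₂ = 4
  z2V : z₂ ∈ V₂
  V1N : V₁ ≤ cj s N
  card1 : Nat.card V₁ = 4
  Lle : L ≤ centralizer ({z₁} : Set G)
  LV : L ≤ normalizer (V₂ : Set G)
  LU : L ≤ normalizer ((V₁ ⊔ V₂ : Subgroup G) : Set G)
  Ltr : ∀ v ∈ V₂, v ≠ 1 → ∃ l ∈ L, l * z₂ * l⁻¹ = v
  move : ∃ x ∈ centralizer ({z₁} : Set G) ⊓ centralizer ({z₂} : Set G), x ∉ normalizer (V₁ : Set G)

theorem comm_of_sq {N : Subgroup G} (h : ∀ x ∈ N, x * x = 1) {x y : G} (hx : x ∈ N) (hy : y ∈ N) :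
    x * y = y * x := by
  have h1 : x⁻¹ = x := inv_eq_of_mul_eq_one_left (h x hx)
  have h2 : y⁻¹ = y := inv_eq_of_mul_eq_one_left (h y hy)
  have h3 : (x * y)⁻¹ = x * y := inv_eq_of_mul_eq_one_left (h _ (N.mul_mem hx hy))
  rw [← h3, mul_inv_rev, h1, h2]

theorem comm_conj {g x y : G} (h : x * y = y * x) : (g * x * g⁻¹) * (g * y * g⁻¹) = (g * y * g⁻¹) * (g * x * g⁻¹) := by
  calc (g * x * g⁻¹) * (g * y * g⁻¹) = g * (x * y) * g⁻¹ := by group
    _ = g * (y * x) * g⁻¹ := by rw [h]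
    _ = _ := by group

/-- `A` and `B` commute -/
def Cm (A B : Subgroup G) : Prop := ∀ x ∈ A, ∀ y ∈ B, x * y = y * x

theorem Cm.symm {A B : Subgroup G} (h : Cm A B) : Cm B A := fun x hx y hy => (h y hy x hx).symm

theorem Cm.cj {A B : Subgroup G} (h : Cm A B) (g : G) : Cm (cj g A) (cj g B) := by
  rintro _ ⟨x, hx, rfl⟩ _ ⟨y, hy, rfl⟩
  exact comm_conj (h x hx y hy)

theorem Cm.mono {A B C D : Subgroup G} (h : Cm A B) (hC : C ≤ A) (hD : D ≤ B) : Cm C D :=
  fun x hx y hy => h x (hC hx) y (hD hy)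

theorem cm_iff {A B : Subgroup G} : Cm A B ↔ A ≤ centralizer (B : Set G) := by
  constructor
  · intro h x hx
    rw [mem_centralizer_iff]
    exact fun y hy => (h x hx y hy).symm
  · intro h x hx y hy
    exact (mem_centralizer_iff.mp (h hx) y hy).symm

theorem Cm.sup {A B C : Subgroup G} (h : Cm A C) (h' : Cm B C) : Cm (A ⊔ B) C := by
  rw [cm_iff] at h h' ⊢
  exact sup_le h h'

theorem cj_mem_cj {g x : G} {H : Subgroup G} (h : x ∈ H) : g * x * g⁻¹ ∈ cj g H := conj_mem_cj h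

theorem cj_sup (g : G) (A B : Subgroup G) : cj g (A ⊔ B) = cj g A ⊔ cj g B := Subgroup.map_sup _ _ _

variable [Finite G] {z₁ z₂ s : G} {N V₁ V₂ L : Subgroup G}

namespace Dat

theorem cj_N (d : Dat z₁ z₂ s N V₁ V₂ L) {c : G} (hc : c ∈ centralizer ({z₁} : Set G)) : cj c N = N :=
  cj_eq_iff.mpr (d.norm hc)

omit [Finite G] in
theorem z2N (d : Dat z₁ z₂ s N V₁ V₂ L) : z₂ ∈ N := d.V2N d.z2V

/-- `C(z₂)` normalises `sNs⁻¹` -/
theorem norm2 (d : Dat z₁ z₂ s N V₁ V₂ L) : centralizer ({z₂} : Set G) ≤ normalizer (cj s N : Set G) := by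
  have h1 := cj_mono (g := s) d.norm
  rwa [cj_centralizer_singleton, d.s1, cj_normalizer] at h1

theorem cj_N2 (d : Dat z₁ z₂ s N V₁ V₂ L) {c : G} (hc : c ∈ centralizer ({z₂} : Set G)) :
    cj c (cj s N) = cj s N := cj_eq_iff.mpr (d.norm2 hc)

omit [Finite G] in
/-- `sNs⁻¹` is abelian -/
theorem comm2 (d : Dat z₁ z₂ s N V₁ V₂ L) : Cm (cj s N) (cj s N) :=
  Cm.cj (fun _ hx _ hy => comm_of_sq d.sq hx hy) s

/-- `N` commutes with the conjugates of `sNs⁻¹` under `C(z₁)` -/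
theorem edge' (d : Dat z₁ z₂ s N V₁ V₂ L) {c : G} (hc : c ∈ centralizer ({z₁} : Set G)) :
    Cm N (cj c (cj s N)) := by
  have h1 : Cm N (cj s N) := d.edge
  have h2 := h1.cj c
  rwa [d.cj_N hc] at h2

/-- `V₁ ≤ V₁^y N` for `y ∈ L` -/
theorem le_sup (d : Dat z₁ z₂ s N V₁ V₂ L) {y : G} (hy : y ∈ L) : V₁ ≤ cj y V₁ ⊔ N := by
  have h1 : cj y (V₁ ⊔ V₂) = V₁ ⊔ V₂ := cj_eq_iff.mpr (d.LU hy)
  have h2 : cj y V₂ = V₂ := cj_eq_iff.mpr (d.LV hy)
  rw [cj_sup, h2] at h1
  calc V₁ ≤ V₁ ⊔ V₂ := le_sup_left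
    _ = cj y V₁ ⊔ V₂ := h1.symm
    _ ≤ cj y V₁ ⊔ N := sup_le_sup_left d.V2N _

/-- two planes of `N` meet -/
theorem exists_mem (d : Dat z₁ z₂ s N V₁ V₂ L) {c : G} (hc : c ∈ centralizer ({z₁} : Set G)) :
    ∃ v ∈ V₂, c * v * c⁻¹ ∈ V₂ ∧ v ≠ 1 := by
  by_contra hno
  push Not at hno
  have hdis : Disjoint V₂ (cj c V₂) := by
    rw [Subgroup.disjoint_def]
    intro x hx hx'
    obtain ⟨v, hv, rfl⟩ := hx'
    have h1 := hno v hv hx
    rw [h1]
    exact map_one _
  have hinj := Subgroup.mul_injective_of_disjoint hdis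
  have hcN : cj c V₂ ≤ N := by
    have := cj_mono (g := c) d.V2N
    rwa [d.cj_N hc] at this
  have h1 : Nat.card (V₂ × cj c V₂) ≤ Nat.card N := by
    refine Nat.card_le_card_of_injective (fun g => (⟨g.1 * g.2, N.mul_mem (d.V2N g.1.2) (hcN g.2.2)⟩ : N)) ?_
    intro a b hab
    exact hinj (congrArg Subtype.val hab)
  rw [Nat.card_prod, card_cj, d.card2, d.card] at h1
  omega

/-- the conjugates of `V₁` under `C(z₁)` commute -/
theorem commV (d : Dat z₁ z₂ s N V₁ V₂ L) {c : G} (hc : c ∈ centralizer ({z₁} : Set G)) : Cm V₁ (cj c V₁) := by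
  obtain ⟨v, hv, hcv, hv1⟩ := d.exists_mem hc
  obtain ⟨y', hy', hy2⟩ := d.Ltr v hv hv1
  have hne : c * v * c⁻¹ ≠ 1 := by
    intro h1
    apply hv1
    have : v = c⁻¹ * (c * v * c⁻¹) * c := by group
    rw [this, h1]; group
  obtain ⟨y, hy, hy1⟩ := d.Ltr _ hcv hne
  have hyC := d.Lle hy
  have hyC' : c * y' ∈ centralizer ({z₁} : Set G) := Subgroup.mul_mem _ hc (d.Lle hy')
  -- `N_p`
  have hp : y⁻¹ * (c * y') ∈ centralizer ({z₂} : Set G) := by
    rw [mem_centralizer_singleton_iff]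
    have h1 : (c * y') * z₂ * (c * y')⁻¹ = y * z₂ * y⁻¹ := by
      rw [hy1, ← hy2]; group
    calc y⁻¹ * (c * y') * z₂ = y⁻¹ * ((c * y') * z₂ * (c * y')⁻¹) * (c * y') := by group
      _ = z₂ * (y⁻¹ * (c * y')) := by rw [h1]; group
  have hN : cj (c * y') (cj s N) = cj y (cj s N) := by
    have h1 : c * y' = y * (y⁻¹ * (c * y')) := by group
    rw [h1, cj_mul, d.cj_N2 hp]
  -- the two planes
  have hA : V₁ ≤ cj y V₁ ⊔ N := d.le_sup hy
  have hB : cj c V₁ ≤ cj (c * y') V₁ ⊔ N := by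
    have h1 := cj_mono (g := c) (d.le_sup hy')
    rwa [cj_sup, d.cj_N hc, ← cj_mul] at h1
  have hAN : cj y V₁ ≤ cj y (cj s N) := cj_mono d.V1N
  have hBN : cj (c * y') V₁ ≤ cj y (cj s N) := by rw [← hN]; exact cj_mono d.V1N
  have h1 : Cm (cj y V₁) (cj (c * y') V₁) := (d.comm2.cj y).mono hAN hBN
  have h2 : Cm N (cj y V₁) := (d.edge' hyC).mono le_rfl hAN
  have h3 : Cm N (cj (c * y') V₁) := (d.edge' hyC).mono le_rfl hBN
  have h4 : Cm N N := fun _ hx _ hy => comm_of_sq d.sq hx hy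
  exact ((((h1.sup h3).symm).sup ((h2.symm.sup h4).symm)).symm).mono hA hB

/-- `sNs⁻¹` commutes with its conjugates under `C(z₁)` -/
theorem commN (d : Dat z₁ z₂ s N V₁ V₂ L) {c : G} (hc : c ∈ centralizer ({z₁} : Set G)) :
    Cm (cj s N) (cj c (cj s N)) := by
  obtain ⟨x, hx, hxV⟩ := d.move
  have hx1 : x ∈ centralizer ({z₁} : Set G) := hx.1
  have hxN : cj x V₁ ≤ cj s N := by
    have := cj_mono (g := x) d.V1N
    rwa [d.cj_N2 hx.2] at this
  -- `sNs⁻¹ = V₁ V₁^x`
  have hsup : V₁ ⊔ cj x V₁ = cj s N := by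
    have hle : V₁ ⊔ cj x V₁ ≤ cj s N := sup_le d.V1N hxN
    refine Subgroup.eq_of_le_of_card_ge hle ?_
    rw [card_cj, d.card]
    have h1 : Nat.card V₁ ∣ Nat.card (V₁ ⊔ cj x V₁ : Subgroup G) := Subgroup.card_dvd_of_le le_sup_left
    rw [d.card1] at h1
    have h2 : Nat.card (V₁ ⊔ cj x V₁ : Subgroup G) ≠ 4 := by
      intro h3
      have h4 : V₁ = V₁ ⊔ cj x V₁ := Subgroup.eq_of_le_of_card_ge le_sup_left (by rw [h3, d.card1])
      apply hxV
      rw [← cj_eq_iff]
      refine Subgroup.eq_of_le_of_card_ge ?_ (by rw [card_cj])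
      exact (le_sup_right : cj x V₁ ≤ V₁ ⊔ cj x V₁).trans h4.symm.le
    have h3 : 0 < Nat.card (V₁ ⊔ cj x V₁ : Subgroup G) := Nat.card_pos
    obtain ⟨k, hk⟩ := h1
    have : k ≠ 0 := by rintro rfl; omega
    have : k ≠ 1 := by rintro rfl; omega
    omega
  have key : ∀ g ∈ centralizer ({z₁} : Set G), Cm (cj s N) (cj g V₁) := by
    intro g hg
    rw [← hsup]
    refine Cm.sup (d.commV hg) ?_
    have h1 := (d.commV (Subgroup.mul_mem _ (Subgroup.inv_mem _ hx1) hg)).cj x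
    rwa [← cj_mul, mul_inv_cancel_left] at h1
  have h1 : cj c (cj s N) = cj c V₁ ⊔ cj (c * x) V₁ := by
    rw [← hsup, cj_sup, ← cj_mul]
  rw [h1]
  exact ((key c hc).symm.sup (key (c * x) (Subgroup.mul_mem _ hc hx1)).symm).symm

/-- products of `n` elements of `C(z₁) s C(z₁)` -/
def Wd (z₁ s : G) : ℕ → G → Prop
  | 0, g => g ∈ centralizer ({z₁} : Set G)
  | n + 1, g => ∃ g' c : G, Wd z₁ s n g' ∧ c ∈ centralizer ({z₁} : Set G) ∧ g = g' * s * c

omit [Finite G] in
theorem wd_mul_right {n : ℕ} {g c : G} (h : Wd z₁ s n g) (hc : c ∈ centralizer ({z₁} : Set G)) :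
    Wd z₁ s n (g * c) := by
  cases n with
  | zero => exact Subgroup.mul_mem _ h hc
  | succ n =>
    obtain ⟨g', c', h1, h2, rfl⟩ := h
    exact ⟨g', c' * c, h1, Subgroup.mul_mem _ h2 hc, by group⟩

omit [Finite G] in
theorem wd_mul {m n : ℕ} {g h : G} (hg : Wd z₁ s m g) (hh : Wd z₁ s n h) : Wd z₁ s (m + n) (g * h) := by
  induction n generalizing h with
  | zero => exact wd_mul_right hg hh
  | succ n ih =>
    obtain ⟨h', c, h1, h2, rfl⟩ := hh
    exact ⟨g * h', c, ih h1, h2, by group⟩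

omit [Finite G] in
theorem ss_mem (d : Dat z₁ z₂ s N V₁ V₂ L) : s * s ∈ centralizer ({z₁} : Set G) := by
  rw [mem_centralizer_singleton_iff]
  have h1 : (s * s) * z₁ * (s * s)⁻¹ = z₁ := by
    calc (s * s) * z₁ * (s * s)⁻¹ = s * (s * z₁ * s⁻¹) * s⁻¹ := by group
      _ = z₁ := by rw [d.s1, d.s2]
  calc s * s * z₁ = ((s * s) * z₁ * (s * s)⁻¹) * (s * s) := by group
    _ = z₁ * (s * s) := by rw [h1]

omit [Finite G] in
theorem wd_inv (d : Dat z₁ z₂ s N V₁ V₂ L) {n : ℕ} {g : G} (h : Wd z₁ s n g) : Wd z₁ s n g⁻¹ := by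
  induction n generalizing g with
  | zero => exact Subgroup.inv_mem _ h
  | succ n ih =>
    obtain ⟨g', c, h1, h2, rfl⟩ := h
    have h3 : Wd z₁ s 1 (c⁻¹ * s⁻¹) := by
      refine ⟨c⁻¹ * (s * s)⁻¹, 1, Subgroup.mul_mem _ (Subgroup.inv_mem _ h2) (Subgroup.inv_mem _ d.ss_mem),
        Subgroup.one_mem _, by group⟩
    have h4 := wd_mul h3 (ih h1)
    rw [add_comm] at h4
    have h5 : (g' * s * c)⁻¹ = c⁻¹ * s⁻¹ * g'⁻¹ := by group
    rw [h5]
    exact h4

/-- `N` commutes with all its conjugates under `⟨C(z₁), s⟩` -/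
theorem comm_wd (d : Dat z₁ z₂ s N V₁ V₂ L) (n : ℕ) : ∀ g : G, Wd z₁ s n g → Cm N (cj g N) := by
  induction n with
  | zero =>
    intro g hg
    rw [d.cj_N hg]
    exact fun _ hx _ hy => comm_of_sq d.sq hx hy
  | succ n ih =>
    -- the point of `gNg⁻¹` is centralised by `N`
    have key : ∀ g : G, Wd z₁ s (n + 1) g → N ≤ centralizer ({g * z₁ * g⁻¹} : Set G) := by
      rintro g ⟨g', c, h1, h2, rfl⟩ x hx
      rw [mem_centralizer_singleton_iff]
      have h3 : (g' * s * c) * z₁ * (g' * s * c)⁻¹ = g' * z₂ * g'⁻¹ := by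
        have h4 : c * z₁ * c⁻¹ = z₁ := by rw [mem_centralizer_singleton_iff.mp h2]; group
        calc (g' * s * c) * z₁ * (g' * s * c)⁻¹ = g' * (s * (c * z₁ * c⁻¹) * s⁻¹) * g'⁻¹ := by group
          _ = g' * z₂ * g'⁻¹ := by rw [h4, d.s1]
      rw [h3]
      exact ih g' h1 x hx _ (conj_mem_cj d.z2N)
    intro g hg
    have hle : ∀ g : G, Wd z₁ s (n + 1) g → N ≤ normalizer (cj g N : Set G) := by
      intro g hg
      refine (key g hg).trans ?_
      have h1 := cj_mono (g := g) d.norm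
      rwa [cj_centralizer_singleton, cj_normalizer] at h1
    have h1 := hle g hg
    have h2 : cj g N ≤ normalizer (N : Set G) := by
      have h3 := cj_mono (g := g) (hle g⁻¹ (d.wd_inv hg))
      rwa [cj_normalizer, cj_cj_inv] at h3
    intro x hx y hy
    by_contra hne
    set r := x * y * x⁻¹ * y⁻¹ with hr
    have hr1 : r ≠ 1 := by
      intro h3
      apply hne
      have h4 : x * y = r * (y * x) := by rw [hr]; group
      rw [h4, h3, one_mul]
    have hrN : r ∈ N := by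
      have h3 : y * x⁻¹ * y⁻¹ ∈ N := forall_of_mem_normalizer (h2 hy) _ (N.inv_mem hx)
      have h4 : r = x * (y * x⁻¹ * y⁻¹) := by rw [hr]; group
      rw [h4]
      exact N.mul_mem hx h3
    have hrg : r ∈ cj g N := by
      have h3 : x * y * x⁻¹ ∈ cj g N := forall_of_mem_normalizer (h1 hx) _ hy
      exact (cj g N).mul_mem h3 ((cj g N).inv_mem hy)
    obtain ⟨c, hc, hcr⟩ := d.trans r hrN hr1
    have hrg' : g⁻¹ * r * g ∈ N := mem_cj.mp hrg
    obtain ⟨c', hc', hcr'⟩ := d.trans _ hrg' (by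
      intro h3
      apply hr1
      have : r = g * (g⁻¹ * r * g) * g⁻¹ := by group
      rw [this, h3]; group)
    -- `N = (cs) N₂`, `gNg⁻¹ = (gc's) N₂`
    have hss : ∀ u ∈ centralizer ({z₁} : Set G), cj (u * s) (cj s N) = N := by
      intro u hu
      rw [← cj_mul, mul_assoc]
      exact d.cj_N (Subgroup.mul_mem _ hu d.ss_mem)
    have e1 : (c * s) * z₁ * (c * s)⁻¹ = r := by
      calc (c * s) * z₁ * (c * s)⁻¹ = c * (s * z₁ * s⁻¹) * c⁻¹ := by group
        _ = r := by rw [d.s1, hcr]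
    have e2 : (g * c' * s) * z₁ * (g * c' * s)⁻¹ = r := by
      calc (g * c' * s) * z₁ * (g * c' * s)⁻¹ = g * (c' * (s * z₁ * s⁻¹) * c'⁻¹) * g⁻¹ := by group
        _ = g * (g⁻¹ * r * g) * g⁻¹ := by rw [d.s1, hcr']
        _ = r := by group
    have hd : (c * s)⁻¹ * (g * c' * s) ∈ centralizer ({z₁} : Set G) := by
      rw [mem_centralizer_singleton_iff]
      calc (c * s)⁻¹ * (g * c' * s) * z₁ = (c * s)⁻¹ * ((g * c' * s) * z₁ * (g * c' * s)⁻¹) * (g * c' * s) := by group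
        _ = (c * s)⁻¹ * ((c * s) * z₁ * (c * s)⁻¹) * (g * c' * s) := by rw [e1, e2]
        _ = z₁ * ((c * s)⁻¹ * (g * c' * s)) := by group
    have h3 := (d.commN hd).cj (c * s)
    rw [hss c hc, ← cj_mul, mul_inv_cancel_left] at h3
    have h4 : cj (g * c' * s) (cj s N) = cj g N := by
      rw [mul_assoc, cj_mul, hss c' hc']
    rw [h4] at h3
    exact hne (h3 x hx y hy)

/-- **(5.3)**, the core: `⟨C(z₁), s⟩` normalises an elementary abelian 2-group `W ≥ N`. -/
theorem exists_normal (d : Dat z₁ z₂ s N V₁ V₂ L) :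
    ∃ W : Subgroup G, N ≤ W ∧ (∀ w ∈ W, w * w = 1) ∧ centralizer ({z₁} : Set G) ≤ normalizer (W : Set G) ∧
      s ∈ normalizer (W : Set G) := by
  set H : Subgroup G := centralizer ({z₁} : Set G) ⊔ zpowers s with hH
  have hs : s ∈ H := mem_sup_right (mem_zpowers s)
  have hwd : ∀ g ∈ H, ∃ n, Wd z₁ s n g := by
    intro g hg
    rw [hH, ← Subgroup.closure_eq (centralizer ({z₁} : Set G)), Subgroup.zpowers_eq_closure,
      ← Subgroup.closure_union] at hg
    induction hg using Subgroup.closure_induction with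
    | mem x hx =>
      rcases hx with hx | hx
      · exact ⟨0, hx⟩
      · rw [Set.mem_singleton_iff] at hx
        rw [hx]
        exact ⟨1, 1, 1, Subgroup.one_mem _, Subgroup.one_mem _, by group⟩
    | one => exact ⟨0, Subgroup.one_mem _⟩
    | mul x y _ _ hx hy =>
      obtain ⟨m, hm⟩ := hx
      obtain ⟨n, hn⟩ := hy
      exact ⟨m + n, wd_mul hm hn⟩
    | inv x _ hx =>
      obtain ⟨m, hm⟩ := hx
      exact ⟨m, d.wd_inv hm⟩
  have hcm : ∀ g ∈ H, Cm N (cj g N) := by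
    intro g hg
    obtain ⟨n, hn⟩ := hwd g hg
    exact d.comm_wd n g hn
  set X : Set G := {x | ∃ g ∈ H, x ∈ cj g N} with hX
  have hXc : ∀ x ∈ X, ∀ y ∈ X, x * y = y * x := by
    rintro x ⟨g, hg, hx⟩ y ⟨g', hg', hy⟩
    have h1 := (hcm (g⁻¹ * g') (H.mul_mem (H.inv_mem hg) hg')).cj g
    rw [← cj_mul, mul_inv_cancel_left] at h1
    exact h1 x hx y hy
  have hWc : ∀ x ∈ closure X, ∀ y ∈ closure X, x * y = y * x := by
    have h1 : closure X ≤ centralizer (closure X : Set G) := by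
      rw [closure_le]
      intro x hx
      rw [SetLike.mem_coe, mem_centralizer_iff]
      intro y hy
      have h2 : closure X ≤ centralizer ({x} : Set G) := by
        rw [closure_le]
        intro z hz
        rw [SetLike.mem_coe, mem_centralizer_singleton_iff]
        exact hXc z hz x hx
      exact mem_centralizer_singleton_iff.mp (h2 hy)
    intro x hx y hy
    exact (mem_centralizer_iff.mp (h1 hx) y hy).symm
  have hHn : H ≤ normalizer ((closure X : Subgroup G) : Set G) := by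
    intro h hh
    refine mem_normalizer_of_forall fun x hx => ?_
    induction hx using Subgroup.closure_induction with
    | mem x hx =>
      obtain ⟨g, hg, hxg⟩ := hx
      refine subset_closure ⟨h * g, H.mul_mem hh hg, ?_⟩
      rw [cj_mul]
      exact conj_mem_cj hxg
    | one => rw [mul_one, mul_inv_cancel]; exact Subgroup.one_mem _
    | mul x y _ _ hx hy =>
      have : h * (x * y) * h⁻¹ = (h * x * h⁻¹) * (h * y * h⁻¹) := by group
      rw [this]
      exact Subgroup.mul_mem _ hx hy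
    | inv x _ hx =>
      have : h * x⁻¹ * h⁻¹ = (h * x * h⁻¹)⁻¹ := by group
      rw [this]
      exact Subgroup.inv_mem _ hx
  refine ⟨closure X, ?_, ?_, le_sup_left.trans hHn, hHn hs⟩
  · intro x hx
    refine subset_closure ⟨1, H.one_mem, ?_⟩
    rw [cj_one]
    exact hx
  · intro w hw
    induction hw using Subgroup.closure_induction with
    | mem x hx =>
      obtain ⟨g, hg, x, hx, rfl⟩ := hx
      show (g * x * g⁻¹) * (g * x * g⁻¹) = 1
      calc (g * x * g⁻¹) * (g * x * g⁻¹) = g * (x * x) * g⁻¹ := by group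
        _ = 1 := by rw [d.sq x hx]; group
    | one => rw [mul_one]
    | mul x y hx' hy' hx hy =>
      calc x * y * (x * y) = x * (y * x) * y := by group
        _ = x * (x * y) * y := by rw [hWc y hy' x hx']
        _ = (x * x) * (y * y) := by group
        _ = 1 := by rw [hx, hy, mul_one]
    | inv x _ hx => rw [← mul_inv_rev, hx, inv_one]

end Dat

end Cfsg.Agent.OddCyclic.RedFiveThree
end

-- part: OddCyclic/Eq/Line
section
prune_inst 0x20203004512200000018001260001c4292000002004b80013180070206ce9c4180412621f8000f1019108c64083e8008141820190010000020008200411901a0842272c21340b104270009c0f807180c00000000000000000000000000041000000000000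
set_option linter.all false
open scoped Cfsg.Agent.FastGrp

-- part: OddCyclic/Eq/Crit
section
/-!
# (E_q) of `T_cyc`: the critical pair

`V ≤ W`, `W` elementary abelian, `M` normalises `V`, `P` normalises `W`.  If no elementary abelian 2-subgroup
containing `V` is normalised by `M` and `P`, then some `g ∈ ⟨M,P⟩` satisfies `[W,W^g] ≠ 1`, `[W,V^g] = 1 = [W^g,V]`.
-/

set_option autoImplicit false

namespace Cfsg.Agent.OddCyclic.Eq.Crit

open Subgroup Cfsg.Agent.OddCyclic.CompStandard Cfsg.Agent.OddCyclic.RedFiveThree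

variable {G : Type*} [Group G]

/-- words `x₀ y₁ x₁ ⋯ yₙ xₙ` with `xᵢ ∈ P`, `yᵢ ∈ M` -/
def Wd (M P : Subgroup G) : ℕ → G → Prop
  | 0, g => g ∈ P
  | n + 1, g => ∃ h y x : G, Wd M P n h ∧ y ∈ M ∧ x ∈ P ∧ g = h * y * x

theorem wd_mul_right {M P : Subgroup G} {n : ℕ} {g c : G} (h : Wd M P n g) (hc : c ∈ P) : Wd M P n (g * c) := by
  cases n with
  | zero => exact P.mul_mem h hc
  | succ n =>
    obtain ⟨g', y, x, h1, h2, h3, rfl⟩ := h
    exact ⟨g', y, x * c, h1, h2, P.mul_mem h3 hc, by group⟩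

theorem wd_mul {M P : Subgroup G} {m n : ℕ} {g h : G} (hg : Wd M P m g) (hh : Wd M P n h) :
    Wd M P (m + n) (g * h) := by
  induction n generalizing h with
  | zero => exact wd_mul_right hg hh
  | succ n ih =>
    obtain ⟨h', y, x, h1, h2, h3, rfl⟩ := hh
    exact ⟨g * h', y, x, ih h1, h2, h3, by group⟩

theorem wd_inv {M P : Subgroup G} {n : ℕ} {g : G} (h : Wd M P n g) : Wd M P n g⁻¹ := by
  induction n generalizing g with
  | zero => exact P.inv_mem h
  | succ n ih =>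
    obtain ⟨g', y, x, h1, h2, h3, rfl⟩ := h
    have h4 : Wd M P 1 (x⁻¹ * y⁻¹) :=
      ⟨x⁻¹, y⁻¹, 1, P.inv_mem h3, M.inv_mem h2, P.one_mem, by group⟩
    have h5 := wd_mul h4 (ih h1)
    rw [add_comm] at h5
    have h6 : (g' * y * x)⁻¹ = x⁻¹ * y⁻¹ * g'⁻¹ := by group
    rw [h6]
    exact h5

theorem wd_mem {M P : Subgroup G} {n : ℕ} {g : G} (h : Wd M P n g) : g ∈ M ⊔ P := by
  induction n generalizing g with
  | zero => exact mem_sup_right h
  | succ n ih =>
    obtain ⟨g', y, x, h1, h2, h3, rfl⟩ := h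
    exact Subgroup.mul_mem _ (Subgroup.mul_mem _ (ih h1) (mem_sup_left h2)) (mem_sup_right h3)

theorem exists_wd {M P : Subgroup G} {g : G} (hg : g ∈ M ⊔ P) : ∃ n, Wd M P n g := by
  rw [← Subgroup.closure_eq M, ← Subgroup.closure_eq P, ← Subgroup.closure_union] at hg
  induction hg using Subgroup.closure_induction with
  | mem x hx =>
    rcases hx with hx | hx
    · exact ⟨1, 1, x, 1, P.one_mem, hx, P.one_mem, by group⟩
    · exact ⟨0, hx⟩
  | one => exact ⟨0, P.one_mem⟩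
  | mul x y _ _ hx hy =>
    obtain ⟨m, hm⟩ := hx
    obtain ⟨n, hn⟩ := hy
    exact ⟨m + n, wd_mul hm hn⟩
  | inv x _ hx =>
    obtain ⟨m, hm⟩ := hx
    exact ⟨m, wd_inv hm⟩

variable [Finite G]

/-- the conjugates of `W` under `H` commute: they generate an elementary abelian group normalised by `H`. -/
theorem exists_normal {H W : Subgroup G} (hcm : ∀ g ∈ H, Cm W (cj g W)) (hW2 : ∀ x ∈ W, x * x = 1) :
    ∃ R : Subgroup G, W ≤ R ∧ (∀ w ∈ R, w * w = 1) ∧ H ≤ normalizer (R : Set G) := by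
  set X : Set G := {x | ∃ g ∈ H, x ∈ cj g W} with hX
  have hXc : ∀ x ∈ X, ∀ y ∈ X, x * y = y * x := by
    rintro x ⟨g, hg, hx⟩ y ⟨g', hg', hy⟩
    have h1 := (hcm (g⁻¹ * g') (H.mul_mem (H.inv_mem hg) hg')).cj g
    rw [← cj_mul, mul_inv_cancel_left] at h1
    exact h1 x hx y hy
  have hWc : ∀ x ∈ closure X, ∀ y ∈ closure X, x * y = y * x := by
    have h1 : closure X ≤ centralizer (closure X : Set G) := by
      rw [closure_le]
      intro x hx
      rw [SetLike.mem_coe, mem_centralizer_iff]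
      intro y hy
      have h2 : closure X ≤ centralizer ({x} : Set G) := by
        rw [closure_le]
        intro z hz
        rw [SetLike.mem_coe, mem_centralizer_singleton_iff]
        exact hXc z hz x hx
      exact mem_centralizer_singleton_iff.mp (h2 hy)
    intro x hx y hy
    exact (mem_centralizer_iff.mp (h1 hx) y hy).symm
  have hHn : H ≤ normalizer ((closure X : Subgroup G) : Set G) := by
    intro h hh
    refine mem_normalizer_of_forall fun x hx => ?_
    induction hx using Subgroup.closure_induction with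
    | mem x hx =>
      obtain ⟨g, hg, hxg⟩ := hx
      refine subset_closure ⟨h * g, H.mul_mem hh hg, ?_⟩
      rw [cj_mul]
      exact conj_mem_cj hxg
    | one => rw [mul_one, mul_inv_cancel]; exact Subgroup.one_mem _
    | mul x y _ _ hx hy =>
      have : h * (x * y) * h⁻¹ = (h * x * h⁻¹) * (h * y * h⁻¹) := by group
      rw [this]
      exact Subgroup.mul_mem _ hx hy
    | inv x _ hx =>
      have : h * x⁻¹ * h⁻¹ = (h * x * h⁻¹)⁻¹ := by group
      rw [this]
      exact Subgroup.inv_mem _ hx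
  refine ⟨closure X, ?_, ?_, hHn⟩
  · intro x hx
    refine subset_closure ⟨1, H.one_mem, ?_⟩
    rw [cj_one]
    exact hx
  · intro w hw
    induction hw using Subgroup.closure_induction with
    | mem x hx =>
      obtain ⟨g, hg, x, hx, rfl⟩ := hx
      show (g * x * g⁻¹) * (g * x * g⁻¹) = 1
      calc (g * x * g⁻¹) * (g * x * g⁻¹) = g * (x * x) * g⁻¹ := by group
        _ = 1 := by rw [hW2 x hx]; group
    | one => rw [mul_one]
    | mul x y hx' hy' hx hy =>
      calc x * y * (x * y) = x * (y * x) * y := by group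
        _ = x * (x * y) * y := by rw [hWc y hy' x hx']
        _ = (x * x) * (y * y) := by group
        _ = 1 := by rw [hx, hy, mul_one]
    | inv x _ hx => rw [← mul_inv_rev, hx, inv_one]

/-- **the critical pair** -/
theorem exists_crit {M P V W : Subgroup G} (hM : M ≤ normalizer (V : Set G)) (hVW : V ≤ W)
    (hP : P ≤ normalizer (W : Set G)) (hW2 : ∀ x ∈ W, x * x = 1)
    (hno : ∀ R : Subgroup G, V ≤ R → (∀ x ∈ R, x * x = 1) → M ≤ normalizer (R : Set G) →
      P ≤ normalizer (R : Set G) → False) :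
    ∃ g ∈ M ⊔ P, ¬ Cm W (cj g W) ∧ Cm W (cj g V) ∧ Cm (cj g W) V := by
  classical
  have hWW : Cm W W := fun x hx y hy => comm_of_sq hW2 hx hy
  have hex : ∃ n, ∃ g, Wd M P n g ∧ ¬ Cm W (cj g W) := by
    by_contra hcon
    push Not at hcon
    obtain ⟨R, h1, h2, h3⟩ := exists_normal (H := M ⊔ P) (W := W) (fun g hg => by
      obtain ⟨n, hn⟩ := exists_wd hg
      exact hcon n g hn) hW2
    exact hno R (hVW.trans h1) h2 (le_sup_left.trans h3) (le_sup_right.trans h3)
  obtain ⟨g, hg, hng⟩ := Nat.find_spec hex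
  have hmin : ∀ m < Nat.find hex, ∀ h, Wd M P m h → Cm W (cj h W) := by
    intro m hm h hh
    by_contra hcon
    exact Nat.find_min hex hm ⟨h, hh, hcon⟩
  generalize Nat.find hex = n at hg hmin
  cases n with
  | zero =>
    exfalso
    apply hng
    rw [cj_eq_iff.mpr (hP hg)]
    exact hWW
  | succ n =>
    -- every word ending with an element of `M` moves `V` into the conjugate of `W` under a shorter word
    have key : ∀ h, Wd M P (n + 1) h → ∃ x ∈ P, Cm W (cj (h * x) V) := by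
      rintro h ⟨h', y, x, h1, h2, h3, rfl⟩
      refine ⟨x⁻¹, P.inv_mem h3, ?_⟩
      have h4 : cj (h' * y * x * x⁻¹) V = cj h' V := by
        rw [mul_inv_cancel_right, cj_mul, cj_eq_iff.mpr (hM h2)]
      rw [h4]
      exact (hmin n (Nat.lt_succ_self n) h' h1).mono le_rfl (cj_mono hVW)
    obtain ⟨x, hx, h1⟩ := key g hg
    obtain ⟨x', hx', h2⟩ := key g⁻¹ (wd_inv hg)
    have hxW : ∀ x ∈ P, cj x W = W := fun x hx => cj_eq_iff.mpr (hP hx)
    refine ⟨x'⁻¹ * g * x, ?_, ?_, ?_, ?_⟩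
    · exact Subgroup.mul_mem _ (Subgroup.mul_mem _ (mem_sup_right (P.inv_mem hx')) (wd_mem hg)) (mem_sup_right hx)
    · intro h
      apply hng
      have h3 := h.cj x'
      rw [← cj_mul, hxW x' hx'] at h3
      have h4 : x' * (x'⁻¹ * g * x) = g * x := by group
      rw [h4, cj_mul, hxW x hx] at h3
      exact h3
    · have h3 := h1.cj x'⁻¹
      rw [← cj_mul, hxW _ (P.inv_mem hx'), ← mul_assoc] at h3
      exact h3
    · have h3 := h2.cj (x'⁻¹ * g)
      have h4 : x'⁻¹ * g * (g⁻¹ * x') = 1 := by group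
      rw [← cj_mul, h4, cj_one] at h3
      have h5 : cj (x'⁻¹ * g * x) W = cj (x'⁻¹ * g) W := by
        rw [cj_mul (x'⁻¹ * g) x, hxW x hx]
      rw [h5]
      exact h3

end Cfsg.Agent.OddCyclic.Eq.Crit
end

-- part: OddCyclic/Eq/Line
section
/-!
# (E_q) of `T_cyc`, `Z_J` TI: the critical pair of points

`Fr q U V P`: a "point" `U` of order `q`, a "line" `V ≥ U` of order `q²`, `C_M(U) ≤ P ≤ C_G(U)` with `M = N_G(V)`.
`W = ⟨V^P⟩` is elementary abelian; `K` = kernel of `P` on the lines `V^x`, `x ∈ P`.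
`Fr.exists_off`: if no elementary abelian group containing `V` is normalised by `M` and `P`, then some elementary
abelian `A ≤ C(V)` acts quadratically on `W` and `|A : A ∩ K| ≥ q`.
-/

set_option autoImplicit false

namespace Cfsg.Agent.OddCyclic.Eq.Line

open Subgroup Cfsg.Agent.OddCyclic.CompStandard Cfsg.Agent.OddCyclic.RedFiveThree

variable {G : Type*} [Group G]

/-- the subgroup generated by the conjugates of `V` under `P` -/
def Wc (P V : Subgroup G) : Subgroup G := closure {w | ∃ x ∈ P, w ∈ cj x V}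

/-- the kernel of `P` on the conjugates of `V` under `P` -/
def Kc (P V : Subgroup G) : Subgroup G := P ⊓ ⨅ x : P, normalizer (cj (x : G) V : Set G)

theorem cj_le_Wc {P V : Subgroup G} {x : G} (hx : x ∈ P) : cj x V ≤ Wc P V :=
  fun _ hw => subset_closure ⟨x, hx, hw⟩

theorem le_Wc (P V : Subgroup G) : V ≤ Wc P V := by
  have h := cj_le_Wc (V := V) P.one_mem
  rwa [cj_one] at h

theorem Wc_le {P V R : Subgroup G} (h : ∀ x ∈ P, cj x V ≤ R) : Wc P V ≤ R := by
  refine (closure_le _).mpr ?_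
  rintro w ⟨x, hx, hw⟩
  exact h x hx hw

theorem cm_Wc {P V R : Subgroup G} (h : ∀ x ∈ P, Cm (cj x V) R) : Cm (Wc P V) R := by
  rw [cm_iff]
  exact Wc_le fun x hx => cm_iff.mp (h x hx)

theorem exists_not_cm {P V R : Subgroup G} (h : ¬ Cm (Wc P V) R) : ∃ x ∈ P, ¬ Cm (cj x V) R := by
  by_contra hcon
  push Not at hcon
  exact h (cm_Wc hcon)

variable [Finite G]

theorem norm_Wc (P V : Subgroup G) : P ≤ normalizer (Wc P V : Set G) := by
  intro h hh
  rw [← cj_eq_iff]
  refine Subgroup.eq_of_le_of_card_ge ?_ (card_cj h _).ge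
  show (Wc P V).map _ ≤ _
  rw [Subgroup.map_le_iff_le_comap]
  refine Wc_le fun x hx => ?_
  rw [← Subgroup.map_le_iff_le_comap]
  have h1 : cj h (cj x V) ≤ Wc P V := by
    rw [← cj_mul]
    exact cj_le_Wc (P.mul_mem hh hx)
  exact h1

theorem mem_Kc {P V : Subgroup G} {k : G} : k ∈ Kc P V ↔ k ∈ P ∧ ∀ x ∈ P, cj k (cj x V) = cj x V := by
  rw [Kc, mem_inf, mem_iInf]
  refine and_congr_right fun _ => ⟨fun h x hx => cj_eq_iff.mpr (h ⟨x, hx⟩), fun h x => cj_eq_iff.mp (h x x.2)⟩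

structure Fr (q : ℕ) (U V P : Subgroup G) : Prop where
  UV : U ≤ V
  sq : ∀ v ∈ V, v * v = 1
  cardU : Nat.card U = q
  cardV : Nat.card V = q * q
  PU : P ≤ centralizer (U : Set G)
  CP : normalizer (V : Set G) ⊓ centralizer (U : Set G) ≤ P
  act : ∀ c ∈ normalizer (V : Set G), c ∈ centralizer (U : Set G) → ∀ v ∈ V, c * v * c⁻¹ * v⁻¹ ∈ U
  free : ∀ c ∈ normalizer (V : Set G), c ∈ centralizer (U : Set G) → ∀ v ∈ V, v ∉ U → c * v = v * c →
    c ∈ centralizer (V : Set G)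
  ti : ∀ g : G, cj g U ≠ U → ∀ x ∈ U, x ∈ cj g U → x = 1
  cov : ∀ v ∈ V, ∃ m ∈ normalizer (V : Set G), v ∈ cj m U
  ab : ∀ x ∈ centralizer (U : Set G), Cm V (cj x V)
  nU : ∀ g : G, cj g U = U → ∃ c ∈ centralizer (U : Set G), ∃ m ∈ normalizer (V : Set G), g = c * m

theorem cj_eq_of_cent {U : Subgroup G} {x : G} (hx : x ∈ centralizer (U : Set G)) : cj x U = U :=
  cj_eq_iff.mpr (centralizer_le_normalizer _ hx)

namespace Fr

variable {q : ℕ} {U V P : Subgroup G}

omit [Finite G] in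
theorem ab' (h : Fr q U V P) {x y : G} (hx : x ∈ centralizer (U : Set G)) (hy : y ∈ centralizer (U : Set G)) :
    Cm (cj x V) (cj y V) := by
  have h1 := (h.ab (x⁻¹ * y) (Subgroup.mul_mem _ (Subgroup.inv_mem _ hx) hy)).cj x
  rwa [← cj_mul, mul_inv_cancel_left] at h1

omit [Finite G] in
theorem cm_WW (h : Fr q U V P) : Cm (Wc P V) (Wc P V) :=
  cm_Wc fun _ hx => (cm_Wc fun _ hy => (h.ab' (h.PU hy) (h.PU hx))).symm

theorem W_sq (h : Fr q U V P) : ∀ w ∈ Wc P V, w * w = 1 := by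
  intro w hw
  induction hw using Subgroup.closure_induction with
  | mem x hx =>
    obtain ⟨g, hg, x, hx, rfl⟩ := hx
    show (g * x * g⁻¹) * (g * x * g⁻¹) = 1
    calc (g * x * g⁻¹) * (g * x * g⁻¹) = g * (x * x) * g⁻¹ := by group
      _ = 1 := by rw [h.sq x hx]; group
  | one => rw [mul_one]
  | mul x y hx' hy' hx hy =>
    calc x * y * (x * y) = x * (y * x) * y := by group
      _ = x * (x * y) * y := by rw [h.cm_WW y hy' x hx']
      _ = (x * x) * (y * y) := by group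
      _ = 1 := by rw [hx, hy, mul_one]
  | inv x _ hx => rw [← mul_inv_rev, hx, inv_one]

/-- `cj x U = U ≤ cj x V` -/
theorem U_le (h : Fr q U V P) {x : G} (hx : x ∈ centralizer (U : Set G)) : U ≤ cj x V := by
  have h1 := cj_mono (g := x) h.UV
  rwa [cj_eq_of_cent hx] at h1

/-- two distinct lines meet in `U` -/
theorem inter (h : Fr q U V P) {x y : G} (hx : x ∈ centralizer (U : Set G)) (hy : y ∈ centralizer (U : Set G))
    (hne : cj x V ≠ cj y V) {v : G} (hvx : v ∈ cj x V) (hvy : v ∈ cj y V) : v ∈ U := by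
  by_contra hv
  apply hne
  have key : ∀ x : G, v ∈ cj x V → ∃ k, v ∈ cj k U ∧ cj k U ≤ cj x V := by
    intro x hvx
    obtain ⟨m, hm, hvm⟩ := h.cov _ (mem_cj.mp hvx)
    refine ⟨x * m, ?_, ?_⟩
    · rw [cj_mul, mem_cj]; exact hvm
    · rw [cj_mul]
      refine cj_mono ?_
      have := cj_mono (g := m) h.UV
      rwa [cj_eq_iff.mpr hm] at this
  obtain ⟨k, hk, hkx⟩ := key x hvx
  obtain ⟨l, hl, hly⟩ := key y hvy
  have hv1 : v ≠ 1 := fun h' => hv (h' ▸ U.one_mem)
  have hkl : cj k U = cj l U := by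
    by_contra hcon
    have h1 : cj (k⁻¹ * l) U ≠ U := by
      intro h2
      apply hcon
      have := congrArg (cj k) h2
      rw [← cj_mul, mul_inv_cancel_left] at this
      exact this.symm
    have h2 : k⁻¹ * v * k ∈ U := mem_cj.mp hk
    have h3 : k⁻¹ * v * k ∈ cj (k⁻¹ * l) U := by
      rw [mem_cj]
      have : (k⁻¹ * l)⁻¹ * (k⁻¹ * v * k) * (k⁻¹ * l) = l⁻¹ * v * l := by group
      rw [this]
      exact mem_cj.mp hl
    have h4 := h.ti _ h1 _ h2 h3
    apply hv1
    calc v = k * (k⁻¹ * v * k) * k⁻¹ := by group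
      _ = 1 := by rw [h4]; group
  have hkU : cj k U ≠ U := fun h' => hv (h' ▸ hk)
  -- `cj k U * U = cj x V`
  have hmul : ∀ w ∈ cj x V, ∃ a ∈ cj k U, ∃ b ∈ U, w = a * b := by
    let f : (cj k U) × U → cj x V := fun p => ⟨p.1 * p.2, mul_mem (hkx p.1.2) (h.U_le hx p.2.2)⟩
    have hinj : Function.Injective f := by
      rintro ⟨a, b⟩ ⟨a', b'⟩ hab
      have h1 : (a : G) * b = a' * b' := congrArg Subtype.val hab
      have h2 : (a' : G)⁻¹ * a = b' * (b : G)⁻¹ := by
        calc (a' : G)⁻¹ * a = (a' : G)⁻¹ * (a * b) * (b : G)⁻¹ := by group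
          _ = b' * (b : G)⁻¹ := by rw [h1]; group
      have h3 : (a' : G)⁻¹ * a ∈ cj k U := mul_mem (inv_mem a'.2) a.2
      have h4 : (a' : G)⁻¹ * a ∈ U := by rw [h2]; exact mul_mem b'.2 (inv_mem b.2)
      have h5 := h.ti k hkU _ h4 h3
      have h6 : (a : G) = a' := by
        calc (a : G) = a' * ((a' : G)⁻¹ * a) := by group
          _ = a' := by rw [h5, mul_one]
      have h7 : (b : G) = b' := by
        rw [h6] at h1
        exact mul_left_cancel h1
      exact Prod.ext (Subtype.ext h6) (Subtype.ext h7)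
    have hcard : Nat.card (cj x V) ≤ Nat.card ((cj k U) × U) := by
      rw [Nat.card_prod, card_cj, card_cj, h.cardU, h.cardV]
    have hbij := (Nat.bijective_iff_injective_and_card f).mpr
      ⟨hinj, le_antisymm (Nat.card_le_card_of_injective f hinj) hcard⟩
    intro w hw
    obtain ⟨⟨a, b⟩, hab⟩ := hbij.2 ⟨w, hw⟩
    exact ⟨a, a.2, b, b.2, (congrArg Subtype.val hab).symm⟩
  refine Subgroup.eq_of_le_of_card_ge ?_ (by rw [card_cj, card_cj])
  intro w hw
  obtain ⟨a, ha, b, hb, rfl⟩ := hmul w hw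
  refine mul_mem (hly (hkl ▸ ha)) (h.U_le hy hb)

/-- `g` is critical -/
structure Cr (P V : Subgroup G) (g : G) : Prop where
  not : ¬ Cm (Wc P V) (cj g (Wc P V))
  left : Cm (Wc P V) (cj g V)
  right : Cm (cj g (Wc P V)) V

omit [Finite G] in
theorem Cr.inv {g : G} (c : Cr P V g) : Cr P V g⁻¹ where
  not := by
    intro h
    apply c.not
    have := h.cj g
    rw [cj_cj_inv] at this
    exact this.symm
  left := by
    have := c.right.cj g⁻¹
    rwa [cj_inv_cj] at this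
  right := by
    have := c.left.cj g⁻¹
    rwa [cj_inv_cj] at this

omit [Finite G] in
theorem cent_le (h : Fr q U V P) : centralizer (V : Set G) ≤ P :=
  (le_inf (centralizer_le_normalizer _) (centralizer_le h.UV)).trans h.CP

/-- `U^g ≠ U` -/
theorem cj_ne (h : Fr q U V P) {g : G} (c : Cr P V g) : cj g U ≠ U := by
  intro hg
  obtain ⟨k, hk, m, hm, rfl⟩ := h.nU g hg
  apply c.not
  have hmU : cj m U = U := by
    have h1 := congrArg (cj k⁻¹) hg
    rwa [← cj_mul, inv_mul_cancel_left, cj_eq_of_cent (Subgroup.inv_mem _ hk)] at h1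
  have h2 : ∀ y ∈ P, ∃ c ∈ centralizer (U : Set G), cj (k * m) (cj y V) = cj c V := by
    intro y hy
    refine ⟨k * (m * y * m⁻¹), Subgroup.mul_mem _ hk ?_, ?_⟩
    · have h3 := conj_mem_cj (g := m) (h.PU hy)
      rwa [cj_centralizer, hmU] at h3
    · rw [← cj_mul]
      have h3 : k * m * y = k * (m * y * m⁻¹) * m := by group
      rw [h3, cj_mul _ m, cj_eq_iff.mpr hm]
  refine cm_Wc fun x hx => ?_
  have h3 : Cm (Wc P V) (cj (k * m)⁻¹ (cj x V)) := by
    refine cm_Wc fun y hy => ?_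
    obtain ⟨c', hc', h4⟩ := h2 y hy
    have h5 := (h.ab' (h.PU hx) hc').symm
    rw [← h4] at h5
    have h6 := h5.cj (k * m)⁻¹
    rwa [cj_inv_cj] at h6
  have h4 := h3.cj (k * m)
  rw [cj_cj_inv] at h4
  exact h4.symm

/-- elements of the kernel centralise `V^x/U` -/
theorem act' (h : Fr q U V P) {a d x : G} (ha : a ∈ Kc P V) (hx : x ∈ P) (hd : d ∈ cj x V) :
    a * d * a⁻¹ * d⁻¹ ∈ U := by
  rw [mem_Kc] at ha
  have h1 : x⁻¹ * a * x ∈ normalizer (V : Set G) := by
    rw [← cj_eq_iff, cj_mul, cj_mul, ha.2 x hx, cj_inv_cj]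
  have h2 : x⁻¹ * a * x ∈ centralizer (U : Set G) :=
    Subgroup.mul_mem _ (Subgroup.mul_mem _ (Subgroup.inv_mem _ (h.PU hx)) (h.PU ha.1)) (h.PU hx)
  have h3 := h.act _ h1 h2 _ (mem_cj.mp hd)
  have h4 : a * d * a⁻¹ * d⁻¹ = x * (x⁻¹ * a * x * (x⁻¹ * d * x) * (x⁻¹ * a * x)⁻¹ * (x⁻¹ * d * x)⁻¹) * x⁻¹ := by
    group
  rw [h4]
  have h5 := conj_mem_cj (g := x) h3
  rwa [cj_eq_of_cent (h.PU hx)] at h5

/-- an element of the kernel centralising some `d ∈ V^x ∖ U` centralises `V^x` -/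
theorem free' (h : Fr q U V P) {a d x : G} (ha : a ∈ Kc P V) (hx : x ∈ P) (hd : d ∈ cj x V) (hdU : d ∉ U)
    (had : a * d = d * a) : Cm (zpowers a) (cj x V) := by
  rw [mem_Kc] at ha
  have h1 : x⁻¹ * a * x ∈ normalizer (V : Set G) := by
    rw [← cj_eq_iff, cj_mul, cj_mul, ha.2 x hx, cj_inv_cj]
  have h2 : x⁻¹ * a * x ∈ centralizer (U : Set G) :=
    Subgroup.mul_mem _ (Subgroup.mul_mem _ (Subgroup.inv_mem _ (h.PU hx)) (h.PU ha.1)) (h.PU hx)
  have hxU : cj x U = U := cj_eq_of_cent (h.PU hx)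
  have h3 := h.free _ h1 h2 (x⁻¹ * d * x) (mem_cj.mp hd) (by
    intro h4
    apply hdU
    rw [← hxU, mem_cj]
    exact h4) (by
      calc x⁻¹ * a * x * (x⁻¹ * d * x) = x⁻¹ * (a * d) * x := by group
        _ = x⁻¹ * d * x * (x⁻¹ * a * x) := by rw [had]; group)
  rw [cm_iff, zpowers_le]
  have h4 := conj_mem_cj (g := x) h3
  rw [cj_centralizer] at h4
  have h5 : x * (x⁻¹ * a * x) * x⁻¹ = a := by group
  rwa [h5] at h4

/-- if `V^x ∩ K'` is not contained in `U`, then `V^{gy} ∩ K` centralises `V^x` -/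
theorem cent (h : Fr q U V P) {g : G} (c : Cr P V g) {x y : G} (hx : x ∈ P) (hy : y ∈ P)
    (hD : ∃ d ∈ cj x V, d ∈ cj g (Kc P V) ∧ d ∉ U) : Cm (Kc P V ⊓ cj g (cj y V)) (cj x V) := by
  obtain ⟨d, hdV, hdK, hdU⟩ := hD
  intro a ha w hw
  have had : a * d = d * a := by
    have h1 : a * d * a⁻¹ * d⁻¹ ∈ U := h.act' ha.1 hx hdV
    have h2 : d * a * d⁻¹ * a⁻¹ ∈ cj g U := by
      have h3 := h.act' (mem_cj.mp hdK) hy (mem_cj.mp ha.2)
      rw [mem_cj]
      have h4 : g⁻¹ * (d * a * d⁻¹ * a⁻¹) * g =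
        g⁻¹ * d * g * (g⁻¹ * a * g) * (g⁻¹ * d * g)⁻¹ * (g⁻¹ * a * g)⁻¹ := by group
      rw [h4]
      exact h3
    have h3 : a * d * a⁻¹ * d⁻¹ ∈ cj g U := by
      have h4 : a * d * a⁻¹ * d⁻¹ = (d * a * d⁻¹ * a⁻¹)⁻¹ := by group
      rw [h4]
      exact Subgroup.inv_mem _ h2
    have h4 := h.ti g (h.cj_ne c) _ h1 h3
    calc a * d = (a * d * a⁻¹ * d⁻¹) * (d * a) := by group
      _ = d * a := by rw [h4, one_mul]
  exact h.free' ha.1 hx hdV hdU had a (mem_zpowers a) w hw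

omit [Finite G] in
theorem cr_le (h : Fr q U V P) {g : G} (c : Cr P V g) : cj g (Wc P V) ≤ P :=
  (cm_iff.mp c.right).trans h.cent_le

omit [Finite G] in
theorem card_inf_gt (_h : Fr q U V P) {K A : Subgroup G} (hA : Nat.card A = q * q) (hK : K.relIndex A < q) :
    q < Nat.card (K ⊓ A : Subgroup G) := by
  have h1 : (K ⊓ A).relIndex A * Nat.card (K ⊓ A : Subgroup G) = Nat.card A := by
    have h2 := Subgroup.relIndex_mul_relIndex ⊥ (K ⊓ A) A bot_le inf_le_right
    rw [relIndex_bot_left, relIndex_bot_left] at h2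
    rw [mul_comm]
    exact h2
  rw [inf_relIndex_right, hA] at h1
  by_contra hcon
  push Not at hcon
  have h2 : 0 < q := by omega
  have h3 : K.relIndex A * Nat.card (K ⊓ A : Subgroup G) ≤ K.relIndex A * q := Nat.mul_le_mul_left _ hcon
  have h4 : K.relIndex A * q < q * q := Nat.mul_lt_mul_of_pos_right hK h2
  omega

theorem exists_not_mem (h : Fr q U V P) {A : Subgroup G} (hA : q < Nat.card A) : ∃ a ∈ A, a ∉ U := by
  by_contra hcon
  push Not at hcon
  have := Subgroup.card_le_of_le (H := A) (K := U) hcon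
  rw [h.cardU] at this
  omega

theorem card_big (h : Fr q U V P) {g x : G} (hlt : (Kc P V).relIndex (cj g⁻¹ (cj x V)) < q) :
    q < Nat.card (cj g (Kc P V) ⊓ cj x V : Subgroup G) := by
  have h1 := h.card_inf_gt (by rw [card_cj, card_cj, h.cardV]) hlt
  have h2 : cj g (Kc P V ⊓ cj g⁻¹ (cj x V)) = cj g (Kc P V) ⊓ cj x V := by
    rw [cj_inf, cj_cj_inv]
  rw [← h2, card_cj]
  exact h1

/-- **the points of a critical pair**: some line of one point is moved enough by the other -/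
theorem exists_line (h : Fr q U V P) {g : G} (c : Cr P V g) :
    (∃ x ∈ P, q ≤ (Kc P V).relIndex (cj g (cj x V))) ∨ ∃ x ∈ P, q ≤ (Kc P V).relIndex (cj g⁻¹ (cj x V)) := by
  by_contra hcon
  push Not at hcon
  obtain ⟨hA, hD⟩ := hcon
  have hD' : ∀ x ∈ P, ∃ d ∈ cj x V, d ∈ cj g (Kc P V) ∧ d ∉ U := by
    intro x hx
    obtain ⟨d, hd, hdU⟩ := h.exists_not_mem (h.card_big (hD x hx))
    exact ⟨d, hd.2, hd.1, hdU⟩
  have hA' : ∀ y ∈ P, ∃ d ∈ cj y V, d ∈ cj g⁻¹ (Kc P V) ∧ d ∉ U := by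
    intro y hy
    have h1 := hA y hy
    rw [← inv_inv g] at h1
    obtain ⟨d, hd, hdU⟩ := h.exists_not_mem (h.card_big h1)
    exact ⟨d, hd.2, hd.1, hdU⟩
  have hc1 : ∀ x ∈ P, ∀ y ∈ P, Cm (Kc P V ⊓ cj g (cj y V)) (cj x V) :=
    fun x hx y hy => h.cent c hx hy (hD' x hx)
  have hc2 : ∀ x ∈ P, ∀ y ∈ P, Cm (cj g (Kc P V) ⊓ cj x V) (cj g (cj y V)) := by
    intro x hx y hy
    have h1 := (h.cent c.inv hy hx (hA' y hy)).cj g
    rwa [cj_inf, cj_cj_inv] at h1
  -- a pair of lines which do not commute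
  obtain ⟨x, hx, h1⟩ := exists_not_cm c.not
  have h2 : ¬ Cm (Wc P V) (cj g⁻¹ (cj x V)) := by
    intro h3
    have h4 := h3.cj g
    rw [cj_cj_inv] at h4
    exact h1 h4.symm
  obtain ⟨y, hy, h3⟩ := exists_not_cm h2
  have h4 : ¬ Cm (cj g (cj y V)) (cj x V) := by
    intro h5
    have h6 := h5.cj g⁻¹
    rw [cj_inv_cj] at h6
    exact h3 h6
  have h5 : ¬ cj g (cj y V) ≤ Kc P V := by
    intro h6
    have h7 := hc1 x hx y hy
    rw [inf_eq_right.mpr h6] at h7
    exact h4 h7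
  obtain ⟨a, ha, haK⟩ := SetLike.not_le_iff_exists.mp h5
  have haP : a ∈ P := h.cr_le c (cj_mono (cj_le_Wc hy) ha)
  rw [mem_Kc] at haK
  push Not at haK
  obtain ⟨x', hx', hne⟩ := haK haP
  obtain ⟨d, hd, hdK, hdU⟩ := hD' x' hx'
  have had : a * d = d * a := (hc2 x' hx' y hy d ⟨hdK, hd⟩ a ha).symm
  apply hdU
  have h6 : d ∈ cj (a * x') V := by
    have h7 := conj_mem_cj (g := a) hd
    rw [had, mul_inv_cancel_right, ← cj_mul] at h7
    exact h7
  rw [← cj_mul] at hne
  exact h.inter (h.PU (P.mul_mem haP hx')) (h.PU hx') hne h6 hd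

/-- **the offender**: an elementary abelian subgroup of `C(V)`, quadratic on `W`, of order `≥ q` modulo `K` -/
theorem exists_off (h : Fr q U V P)
    (hno : ∀ R : Subgroup G, V ≤ R → (∀ x ∈ R, x * x = 1) → normalizer (V : Set G) ≤ normalizer (R : Set G) →
      P ≤ normalizer (R : Set G) → False) :
    ∃ A : Subgroup G, A ≤ centralizer (V : Set G) ∧ (∀ a ∈ A, a * a = 1) ∧
      (∀ a ∈ A, ∀ b ∈ A, ∀ w ∈ Wc P V, (a * w * a⁻¹ * w⁻¹) * b = b * (a * w * a⁻¹ * w⁻¹)) ∧
      q ≤ (Kc P V).relIndex A := by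
  have key : ∀ g : G, Cr P V g → (∃ x ∈ P, q ≤ (Kc P V).relIndex (cj g (cj x V))) →
      ∃ A : Subgroup G, A ≤ centralizer (V : Set G) ∧ (∀ a ∈ A, a * a = 1) ∧
      (∀ a ∈ A, ∀ b ∈ A, ∀ w ∈ Wc P V, (a * w * a⁻¹ * w⁻¹) * b = b * (a * w * a⁻¹ * w⁻¹)) ∧
      q ≤ (Kc P V).relIndex A := by
    rintro g c ⟨x, hx, hq⟩
    have hle : cj g (cj x V) ≤ cj g (Wc P V) := cj_mono (cj_le_Wc hx)
    refine ⟨cj g (cj x V), hle.trans (cm_iff.mp c.right), ?_, ?_, hq⟩
    · rintro _ ⟨_, ⟨v, hv, rfl⟩, rfl⟩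
      show (g * (x * v * x⁻¹) * g⁻¹) * (g * (x * v * x⁻¹) * g⁻¹) = 1
      calc (g * (x * v * x⁻¹) * g⁻¹) * (g * (x * v * x⁻¹) * g⁻¹) = g * x * (v * v) * x⁻¹ * g⁻¹ := by group
        _ = 1 := by rw [h.sq v hv]; group
    · intro a ha b hb w hw
      -- `W` normalises `W'`
      have h1 : Wc P V ≤ normalizer (cj g (Wc P V) : Set G) := by
        have h2 := h.cr_le c.inv
        have h3 := cj_mono (g := g) (h2.trans (norm_Wc P V))
        rwa [cj_cj_inv, cj_normalizer] at h3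
      have h2 : a * w * a⁻¹ * w⁻¹ ∈ cj g (Wc P V) := by
        have h3 : a * w * a⁻¹ * w⁻¹ = a * (w * a⁻¹ * w⁻¹) := by group
        rw [h3]
        exact mul_mem (hle ha) (forall_of_mem_normalizer (h1 hw) _ (inv_mem (hle ha)))
      exact h.cm_WW.cj g _ h2 _ (hle hb)
  obtain ⟨g, -, h1, h2, h3⟩ := Crit.exists_crit (M := normalizer (V : Set G)) (P := P) (V := V) (W := Wc P V)
    le_rfl (le_Wc P V) (norm_Wc P V) h.W_sq hno
  have c : Cr P V g := ⟨h1, h2, h3⟩
  rcases h.exists_line c with h4 | h4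
  · exact key g c h4
  · exact key g⁻¹ c.inv h4

end Fr

end Cfsg.Agent.OddCyclic.Eq.Line
end

private theorem dce_daa926409c50 : _root_.True := by
  try have : _root_.True := by simp only [_root_.Cfsg.Agent.OddCyclic.Eq.Line.Kc.eq_1]
  exact _root_.True.intro
end

-- part: OddCyclic/BTwoLin/EightMod
section
set_option linter.all false
open scoped Cfsg.Agent.FastGrp

/-!
# The module of the `³D₄(2)`-shape: nine points in a space of order `2 ^ 8`

`Ω` is a set of nine vectors with `q v = 0`, `f u v = 1` for `u ≠ v`. The vectors are the `∏_{v ∈ I} v`, `I ⊆ Ω`, and `I`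
is unique up to complement. An element of order three acting without fixed points on `Ω` has no fixed vector `x ≠ 1` with
`q x = 0`.
-/

set_option autoImplicit false
set_option linter.dupNamespace false
set_option linter.unusedSectionVars false

namespace Cfsg.Agent.OddCyclic.BTwoLin.EightMod

open Cfsg.Agent.OddCyclic.BTwoLin
open scoped symmDiff

variable {X M : Type*} [Group X] [CommGroup M] {ρ : X →* MulAut M} {f : M → M → ZMod 2} {q : M → ZMod 2}

theorem f_one (h : Form ρ f q) (x : M) : f 1 x = 0 := by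
  have := h.f_mul 1 1 x
  rw [one_mul] at this
  exact left_eq_add.1 this

theorem q_one (h : Form ρ f q) : q 1 = 0 := by
  have := h.q_mul 1 1
  rw [one_mul, f_one h, add_zero] at this
  exact left_eq_add.1 this

theorem f_self (h : Form ρ f q) (x : M) : f x x = 0 := by
  have h1 := h.q_mul x x
  rw [h.sq, q_one h] at h1
  have h2 : q x + q x = 0 := CharTwo.add_self_eq_zero _
  rw [h2, zero_add] at h1
  exact h1.symm

/-- the product of the elements of `I` -/
noncomputable def Ph (I : Finset M) : M := ∏ v ∈ I, v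

theorem Ph_empty : Ph (∅ : Finset M) = 1 := Finset.prod_empty

variable [DecidableEq M]

theorem Ph_insert {I : Finset M} {v : M} (hv : v ∉ I) : Ph (insert v I) = v * Ph I := Finset.prod_insert hv

theorem Ph_symmDiff (h : Form ρ f q) (I J : Finset M) : Ph (I ∆ J) = Ph I * Ph J := by
  have h1 : Ph I = Ph (I \ J) * Ph (I ∩ J) := by
    rw [Ph, Ph, Ph, ← Finset.prod_union (Finset.disjoint_sdiff_inter I J), Finset.sdiff_union_inter]
  have h2 : Ph J = Ph (J \ I) * Ph (I ∩ J) := by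
    rw [Ph, Ph, Ph, Finset.inter_comm, ← Finset.prod_union (Finset.disjoint_sdiff_inter J I), Finset.sdiff_union_inter]
  have h3 : Ph (I ∆ J) = Ph (I \ J) * Ph (J \ I) := by
    rw [Ph, Ph, Ph, symmDiff_def, Finset.sup_eq_union, Finset.prod_union disjoint_sdiff_sdiff]
  rw [h1, h2, h3]
  have h4 := h.sq (Ph (I ∩ J))
  calc Ph (I \ J) * Ph (J \ I) = Ph (I \ J) * Ph (J \ I) * (Ph (I ∩ J) * Ph (I ∩ J)) := by rw [h4, mul_one]
    _ = _ := by ac_rfl

/-- the nine vectors -/
structure Nine (ρ : X →* MulAut M) (f : M → M → ZMod 2) (q : M → ZMod 2) (Ω : Finset M) : Prop where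
  form : Form ρ f q
  card : Ω.card = 9
  cardM : Nat.card M = 2 ^ 8
  f_ne : ∀ u ∈ Ω, ∀ v ∈ Ω, u ≠ v → f u v = 1
  q_eq : ∀ u ∈ Ω, q u = 0

namespace Nine

variable {Ω : Finset M}

theorem f_Ph (h : Nine ρ f q Ω) {I : Finset M} (hI : I ⊆ Ω) {v : M} (hv : v ∈ Ω) :
    f (Ph I) v = ((I.erase v).card : ZMod 2) := by
  induction I using Finset.induction_on with
  | empty => rw [Ph_empty, f_one h.form]; simp
  | insert u I hu ih =>
    have hI' : I ⊆ Ω := fun x hx => hI (Finset.mem_insert_of_mem hx)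
    rw [Ph_insert hu, h.form.f_mul, ih hI']
    by_cases huv : u = v
    · subst huv
      rw [f_self h.form, zero_add, Finset.erase_insert hu, Finset.erase_eq_of_notMem hu]
    · rw [h.f_ne u (hI (Finset.mem_insert_self _ _)) v hv huv, Finset.erase_insert_of_ne huv,
        Finset.card_insert_of_notMem (fun h1 => hu (Finset.mem_of_mem_erase h1))]
      push_cast
      ring

theorem q_Ph (h : Nine ρ f q Ω) {I : Finset M} (hI : I ⊆ Ω) : q (Ph I) = (I.card.choose 2 : ZMod 2) := by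
  induction I using Finset.induction_on with
  | empty => rw [Ph_empty, q_one h.form]; simp
  | insert u I hu ih =>
    have hI' : I ⊆ Ω := fun x hx => hI (Finset.mem_insert_of_mem hx)
    have huΩ := hI (Finset.mem_insert_self _ _)
    rw [Ph_insert hu, h.form.q_mul, h.q_eq u huΩ, ih hI', h.form.f_symm, h.f_Ph hI' huΩ,
      Finset.erase_eq_of_notMem hu, Finset.card_insert_of_notMem hu, Nat.choose_succ_succ' I.card 1, Nat.choose_one_right]
    push_cast
    ring

theorem eq_or (h : Nine ρ f q Ω) {I : Finset M} (hI : I ⊆ Ω) (h1 : ∀ v ∈ Ω, f (Ph I) v = 0) :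
    I = ∅ ∨ I = Ω := by
  by_contra hcon
  push Not at hcon
  obtain ⟨hne, hne'⟩ := hcon
  obtain ⟨v, hv⟩ := hne
  obtain ⟨w, hw, hwI⟩ : ∃ w ∈ Ω, w ∉ I := by
    by_contra h2
    push Not at h2
    exact hne' (Finset.Subset.antisymm hI h2)
  have e1 := h1 v (hI hv)
  have e2 := h1 w hw
  rw [h.f_Ph hI (hI hv)] at e1
  rw [h.f_Ph hI hw, Finset.erase_eq_of_notMem hwI] at e2
  have h3 : I.card = (I.erase v).card + 1 := by
    rw [Finset.card_erase_of_mem hv]
    have := Finset.card_pos.2 ⟨v, hv⟩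
    omega
  rw [h3] at e2
  push_cast at e2
  rw [e1, zero_add] at e2
  exact one_ne_zero e2

/-- the fibres of `Ph` -/
theorem Ph_eq (h : Nine ρ f q Ω) {I J : Finset M} (hI : I ⊆ Ω) (hJ : J ⊆ Ω) (e : Ph I = Ph J) :
    I = J ∨ I = Ω \ J := by
  have hIJ : I ∆ J ⊆ Ω := by
    intro x hx
    rcases Finset.mem_symmDiff.1 hx with h1 | h1
    · exact hI h1.1
    · exact hJ h1.1
  have h1 : Ph (I ∆ J) = 1 := by rw [Ph_symmDiff h.form, e, h.form.sq]
  rcases h.eq_or hIJ (fun v _ => by rw [h1, f_one h.form]) with h2 | h2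
  · left
    exact symmDiff_eq_bot.1 h2
  · right
    ext x
    rw [Finset.mem_sdiff]
    constructor
    · intro hx
      refine ⟨hI hx, fun hxJ => ?_⟩
      have h3 : x ∈ I ∆ J := by rw [h2]; exact hI hx
      rcases Finset.mem_symmDiff.1 h3 with h4 | h4
      · exact h4.2 hxJ
      · exact h4.2 hx
    · rintro ⟨hx, hxJ⟩
      have h3 : x ∈ I ∆ J := by rw [h2]; exact hx
      rcases Finset.mem_symmDiff.1 h3 with h4 | h4
      · exact h4.1
      · exact absurd h4.1 hxJ

theorem finM (h : Nine ρ f q Ω) : Finite M := Nat.finite_of_card_ne_zero (by rw [h.cardM]; norm_num)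

/-- every vector is a `Ph I`, and the product of all nine vectors is `1` -/
theorem surj (h : Nine ρ f q Ω) : (∀ x : M, ∃ I ⊆ Ω, Ph I = x) ∧ Ph Ω = 1 := by
  have := h.finM
  have := Fintype.ofFinite M
  have hcard : Fintype.card M = 2 ^ 8 := by rw [← Nat.card_eq_fintype_card]; exact h.cardM
  set S := Ω.powerset with hS
  have hScard : S.card = 2 ^ 9 := by rw [hS, Finset.card_powerset, h.card]
  -- fibres
  have hfib : ∀ x : M, (S.filter fun I => Ph I = x).card ≤ 2 := by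
    intro x
    by_contra hcon
    push Not at hcon
    obtain ⟨I, hI⟩ : (S.filter fun I => Ph I = x).Nonempty := Finset.card_pos.1 (by omega)
    have hsub : (S.filter fun I => Ph I = x) ⊆ {I, Ω \ I} := by
      intro J hJ
      rw [Finset.mem_filter, hS, Finset.mem_powerset] at hI hJ
      rw [Finset.mem_insert, Finset.mem_singleton]
      exact h.Ph_eq hJ.1 hI.1 (hJ.2.trans hI.2.symm)
    have := (Finset.card_le_card hsub).trans Finset.card_le_two
    omega
  have hsum : S.card = ∑ x : M, (S.filter fun I => Ph I = x).card :=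
    Finset.card_eq_sum_card_fiberwise (f := fun I => Ph I) (t := Finset.univ) (fun _ _ => Finset.mem_univ _)
  have hle : ∀ x : M, (S.filter fun I => Ph I = x).card = 2 := by
    by_contra hcon
    push Not at hcon
    obtain ⟨x, hx⟩ := hcon
    have h1 : (S.filter fun I => Ph I = x).card < 2 := lt_of_le_of_ne (hfib x) hx
    have h2 : ∑ y : M, (S.filter fun I => Ph I = y).card < ∑ _y : M, 2 :=
      Finset.sum_lt_sum (fun y _ => hfib y) ⟨x, Finset.mem_univ _, h1⟩
    rw [← hsum, hScard, Finset.sum_const, Finset.card_univ, hcard] at h2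
    norm_num at h2
  refine ⟨fun x => ?_, ?_⟩
  · obtain ⟨I, hI⟩ : (S.filter fun I => Ph I = x).Nonempty := Finset.card_pos.1 (by rw [hle]; norm_num)
    rw [Finset.mem_filter, hS, Finset.mem_powerset] at hI
    exact ⟨I, hI.1, hI.2⟩
  · have h1 := hle 1
    obtain ⟨I, hI, hI0⟩ : ∃ I ∈ (S.filter fun I => Ph I = 1), I ≠ ∅ := by
      by_contra hcon
      push Not at hcon
      have : (S.filter fun I => Ph I = 1) ⊆ {∅} := fun I hI => Finset.mem_singleton.2 (hcon I hI)
      have := Finset.card_le_card this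
      rw [h1, Finset.card_singleton] at this
      omega
    rw [Finset.mem_filter, hS, Finset.mem_powerset] at hI
    rcases h.eq_or hI.1 (fun v _ => by rw [hI.2, f_one h.form]) with h2 | h2
    · exact absurd h2 hI0
    · rw [← h2]; exact hI.2

/-- the form is nondegenerate -/
theorem nondeg (h : Nine ρ f q Ω) {x : M} (hx : ∀ v ∈ Ω, f x v = 0) : x = 1 := by
  obtain ⟨I, hI, rfl⟩ := h.surj.1 x
  rcases h.eq_or hI hx with rfl | rfl
  · exact Ph_empty
  · exact h.surj.2

/-- **the fixed vectors of an element of order three** -/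
theorem fixed (h : Nine ρ f q Ω) {g : X} (hg : g ^ 3 = 1) (hinv : ∀ v ∈ Ω, ρ g v ∈ Ω)
    (hfree : ∀ v ∈ Ω, ρ g v ≠ v) {x : M} (hx : ρ g x = x) (hq : q x = 0) : x = 1 := by
  obtain ⟨I, hI, rfl⟩ := h.surj.1 x
  have himg : Ph (I.image (ρ g)) = Ph I := by
    rw [Ph, Finset.prod_image (fun a _ b _ e => (ρ g).injective e)]
    rw [← hx, Ph, map_prod]
  have hcard : (I.image (ρ g)).card = I.card := Finset.card_image_of_injective _ (ρ g).injective
  have hsub : I.image (ρ g) ⊆ Ω := by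
    intro y hy
    obtain ⟨v, hv, rfl⟩ := Finset.mem_image.1 hy
    exact hinv v (hI hv)
  have hinvI : I.image (ρ g) = I := by
    rcases h.Ph_eq hsub hI himg with e | e
    · exact e
    · exfalso
      rw [e, Finset.card_sdiff_of_subset hI, h.card] at hcard
      have : I.card ≤ 9 := by rw [← h.card]; exact Finset.card_le_card hI
      omega
  -- `3` divides the order of `I`
  have h3 : 3 ∣ I.card := by
    have : Fact (Nat.Prime 3) := ⟨Nat.prime_three⟩
    have hmem : ∀ v ∈ I, ρ g v ∈ I := fun v hv => hinvI ▸ Finset.mem_image_of_mem (ρ g) hv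
    let F : Function.End I := fun v => ⟨ρ g v, hmem v v.2⟩
    have hF : F ^ 3 ^ 1 = 1 := by
      funext v
      apply Subtype.ext
      rw [pow_one]
      change ρ g (ρ g (ρ g (v : M))) = v
      have e : ρ g (ρ g (ρ g (v : M))) = ρ (g ^ 3) v := by
        rw [pow_succ, pow_two, map_mul, map_mul]; rfl
      rw [e, hg, map_one]; rfl
    have h1 := Equiv.Perm.card_fixedPoints_modEq hF
    have h2 : Fintype.card F.fixedPoints = 0 := by
      rw [Fintype.card_eq_zero_iff]
      refine ⟨fun v => ?_⟩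
      obtain ⟨v, hv⟩ := v
      exact hfree v (hI v.2) (congrArg Subtype.val hv)
    rw [h2, Fintype.card_coe] at h1
    exact (Nat.modEq_zero_iff_dvd).1 h1
  have hle : I.card ≤ 9 := by rw [← h.card]; exact Finset.card_le_card hI
  rw [h.q_Ph hI] at hq
  obtain ⟨k, hk⟩ := h3
  have hk' : k = 0 ∨ k = 1 ∨ k = 2 ∨ k = 3 := by omega
  rcases hk' with rfl | rfl | rfl | rfl
  · rw [Finset.card_eq_zero.1 hk]; exact Ph_empty
  · rw [hk] at hq
    exact absurd hq (by decide)
  · rw [hk] at hq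
    exact absurd hq (by decide)
  · have : I = Ω := Finset.eq_of_subset_of_card_le hI (by rw [h.card, hk])
    rw [this]; exact h.surj.2

end Nine

end Cfsg.Agent.OddCyclic.BTwoLin.EightMod

private theorem dce_d1dac3f01962 : _root_.True := by
  try have : _root_.True := by simp only [_root_.Cfsg.Agent.OddCyclic.BTwoLin.EightMod.Ph.eq_1]
  exact _root_.True.intro
end

-- part: OddCyclic/BTwoLin/CaseOne
section
set_option linter.all false
open scoped Cfsg.Agent.FastGrp

/-!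
# `c = 1` implies `m = 0`

(f6) of blueprints/S0342-Ba-helper208.md.
-/

set_option autoImplicit false

namespace Cfsg.Agent.OddCyclic.BTwoLin.CaseOne

open Cfsg.Agent.LieExceptional.CITDefs Cfsg.Agent.OddCyclic.T1Defs Cfsg.Agent.OddCyclic.FFBasic
open Cfsg.Agent.OddCyclic.BTwoLin
open Cfsg.Agent.OddCyclic.FFSl2 (stb mem_stb)

variable {X M : Type*} [Group X] [CommGroup M] {ρ : X →* MulAut M}

section general

variable [Finite M]

/-- fixed points of an element of prime power order on an invariant set -/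
theorem card_mod {g : X} {p n : ℕ} (hp : p.Prime) (hg : g ^ p ^ n = 1) (Z : Set M) (hZ : ∀ x ∈ Z, ρ g x ∈ Z) :
    Nat.card Z ≡ Nat.card {x : M // x ∈ Z ∧ ρ g x = x} [MOD p] := by
  classical
  have : Fact p.Prime := ⟨hp⟩
  have : Fintype Z := Fintype.ofFinite Z
  let f : Function.End Z := fun x => ⟨ρ g x, hZ _ x.2⟩
  have hf : f ^ p ^ n = 1 := by
    have key : ∀ k : ℕ, ∀ x : Z, ((f ^ k) x : M) = ρ (g ^ k) x := by
      intro k
      induction k with
      | zero => intro x; rw [pow_zero, pow_zero, map_one]; rfl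
      | succ k ih =>
        intro x
        rw [pow_succ', pow_succ', map_mul, MulAut.mul_apply, ← ih x]
        rfl
    funext x
    apply Subtype.ext
    rw [key, hg, map_one]; rfl
  have h1 := Equiv.Perm.card_fixedPoints_modEq hf
  rw [Nat.card_eq_fintype_card]
  have h2 : Nat.card {x : M // x ∈ Z ∧ ρ g x = x} = Fintype.card f.fixedPoints := by
    rw [← Nat.card_eq_fintype_card]
    refine Nat.card_congr
      { toFun := fun x => ⟨⟨x.1, x.2.1⟩, Subtype.ext x.2.2⟩
        invFun := fun x => ⟨x.1.1, x.1.2, congrArg Subtype.val x.2⟩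
        left_inv := fun x => rfl
        right_inv := fun x => rfl }
  rw [h2]
  exact h1

theorem card_fx_mod {g : X} {p n : ℕ} (hp : p.Prime) (hg : g ^ p ^ n = 1) :
    Nat.card M ≡ Nat.card (fx ρ g) [MOD p] := by
  have h1 := card_mod (ρ := ρ) hp hg Set.univ (fun x _ => trivial)
  rw [Nat.card_congr (Equiv.Set.univ M)] at h1
  have h2 : Nat.card {x : M // x ∈ (Set.univ : Set M) ∧ ρ g x = x} = Nat.card (fx ρ g) :=
    Nat.card_congr
      { toFun := fun x => ⟨x.1, x.2.2⟩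
        invFun := fun x => ⟨x.1, trivial, x.2⟩
        left_inv := fun x => rfl
        right_inv := fun x => rfl }
  rwa [h2] at h1

theorem card_split (g : X) : Nat.card {x : M // ρ g x ≠ x} + Nat.card (fx ρ g) = Nat.card M := by
  classical
  have e : M ≃ {x : M // ρ g x ≠ x} ⊕ fx ρ g :=
    { toFun := fun x => if hx : ρ g x = x then Sum.inr ⟨x, hx⟩ else Sum.inl ⟨x, hx⟩
      invFun := fun s => match s with
        | Sum.inl s => s.1
        | Sum.inr s => s.1
      left_inv := fun x => by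
        by_cases hx : ρ g x = x
        · simp [hx]
        · simp [hx]
      right_inv := fun s => by
        rcases s with ⟨s, h1⟩ | ⟨s, h1⟩
        · simp [h1]
        · have h1' : ρ g s = s := h1
          simp [h1'] }
  rw [Nat.card_congr e, Nat.card_sum]

/-- an element of order 9 acting faithfully -/
theorem nine {g : X} (hg : orderOf g = 9) : 9 ∣ Nat.card {x : M // ρ (g ^ 3) x ≠ x} := by
  classical
  let α := {x : M // ρ (g ^ 3) x ≠ x}
  have hcomm : ∀ h : Subgroup.zpowers g, (h : X) * g ^ 3 = g ^ 3 * h := by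
    rintro ⟨_, k, rfl⟩
    change g ^ k * g ^ 3 = g ^ 3 * g ^ k
    rw [← zpow_natCast g 3, ← zpow_add, ← zpow_add, add_comm]
  have hact : ∀ (h : Subgroup.zpowers g) (x : α), ρ (g ^ 3) (ρ h x) ≠ ρ h x := by
    intro h x hx
    apply x.2
    have h1 : ρ (h : X) (ρ (g ^ 3) x) = ρ (h : X) x := by
      rw [← MulAut.mul_apply, ← map_mul, hcomm h, map_mul, MulAut.mul_apply]
      exact hx
    exact (ρ (h : X)).injective h1
  letI : MulAction (Subgroup.zpowers g) α :=
    { smul := fun h x => ⟨ρ h x, hact h x⟩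
      one_smul := fun x => Subtype.ext (by
        change ρ ((1 : Subgroup.zpowers g) : X) x = x
        rw [Subgroup.coe_one, map_one]; rfl)
      mul_smul := fun h k x => Subtype.ext (by
        change ρ ((h * k : Subgroup.zpowers g) : X) x = ρ h (ρ k x)
        rw [Subgroup.coe_mul, map_mul, MulAut.mul_apply]) }
  have hfree : ∀ x : α, MulAction.stabilizer (Subgroup.zpowers g) x = ⊥ := by
    intro x
    rw [eq_bot_iff]
    rintro ⟨_, k, rfl⟩ hk
    have hk' : ρ (g ^ k) x = x := congrArg Subtype.val hk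
    rw [Subgroup.mem_bot]
    by_contra hne
    have h9 : ¬ (9 : ℤ) ∣ k := by
      intro h9
      apply hne
      apply Subtype.ext
      change g ^ k = 1
      rw [← orderOf_dvd_iff_zpow_eq_one, hg]
      exact_mod_cast h9
    -- some multiple of `k` is `3` modulo `9`
    have h3 : ∃ j : ℤ, (9 : ℤ) ∣ k * j - 3 := by
      have h1 : k % 9 = 1 ∨ k % 9 = 2 ∨ k % 9 = 3 ∨ k % 9 = 4 ∨ k % 9 = 5 ∨ k % 9 = 6 ∨ k % 9 = 7 ∨ k % 9 = 8 := by
        omega
      rcases h1 with e | e | e | e | e | e | e | e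
      · exact ⟨3, by omega⟩
      · exact ⟨6, by omega⟩
      · exact ⟨1, by omega⟩
      · exact ⟨3, by omega⟩
      · exact ⟨6, by omega⟩
      · exact ⟨2, by omega⟩
      · exact ⟨3, by omega⟩
      · exact ⟨6, by omega⟩
    obtain ⟨j, hj⟩ := h3
    have h4 : g ^ (3 : ℕ) = (g ^ k) ^ j := by
      rw [← zpow_mul, ← zpow_natCast g 3]
      have h5 : g ^ (k * j - 3) = 1 := by
        rw [← orderOf_dvd_iff_zpow_eq_one, hg]
        exact_mod_cast hj
      rw [zpow_sub, mul_inv_eq_one] at h5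
      exact_mod_cast h5.symm
    apply x.2
    have h5 : ∀ j : ℤ, ρ ((g ^ k) ^ j) x = x := by
      intro j
      have h6 : (g ^ k) ^ j ∈ stb ρ (x : M) := Subgroup.zpow_mem _ (mem_stb.2 hk') j
      exact mem_stb.1 h6
    have h6 := h5 j
    rw [← h4] at h6
    exact h6
  have : Fintype α := Fintype.ofFinite α
  have : Finite (Subgroup.zpowers g) := by
    have : Nat.card (Subgroup.zpowers g) ≠ 0 := by rw [Nat.card_zpowers, hg]; norm_num
    exact Nat.finite_of_card_ne_zero this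
  have : Fintype (Subgroup.zpowers g) := Fintype.ofFinite _
  have h1 := MulAction.card_eq_sum_card_group_div_card_stabilizer (Subgroup.zpowers g) α
  rw [Nat.card_eq_fintype_card, h1]
  refine Finset.dvd_sum fun ω _ => ?_
  have h2 : Fintype.card (MulAction.stabilizer (Subgroup.zpowers g) (Quotient.out ω)) = 1 := by
    rw [← Nat.card_eq_fintype_card, hfree, Subgroup.card_bot]
  rw [h2, Nat.div_one, ← Nat.card_eq_fintype_card, Nat.card_zpowers, hg]

/-- if `M` is generated by the orbit of `l`, then `|M| ≤ 2 ^ |X : X_l|` -/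
theorem card_le [Finite X] (hsq : ∀ x : M, x * x = 1) {l : M}
    (gen : ∀ N : Subgroup M, (∀ g, ρ g l ∈ N) → N = ⊤) : Nat.card M ≤ 2 ^ (stb ρ l).index := by
  classical
  let Ω := X ⧸ stb ρ l
  have : Fintype Ω := Fintype.ofFinite Ω
  let e : Ω → M := fun i => Quotient.liftOn' i (fun g => ρ g l) (by
    intro a b hab
    rw [QuotientGroup.leftRel_apply, mem_stb] at hab
    change ρ a l = ρ b l
    rw [map_mul, MulAut.mul_apply, map_inv] at hab
    have h1 : ρ a ((ρ a)⁻¹ (ρ b l)) = ρ a l := by rw [hab]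
    rw [← h1, ← MulAut.mul_apply, mul_inv_cancel]; rfl)
  have step : ∀ (u : Finset Ω) (i : Ω), ∃ v : Finset Ω, (∏ j ∈ u, e j) * e i = ∏ j ∈ v, e j := by
    intro u i
    by_cases hi : i ∈ u
    · refine ⟨u.erase i, ?_⟩
      rw [← Finset.prod_erase_mul u e hi, mul_assoc, hsq, mul_one]
    · refine ⟨insert i u, ?_⟩
      rw [Finset.prod_insert hi, mul_comm]
  have hmul : ∀ (w u : Finset Ω), ∃ v : Finset Ω, (∏ j ∈ u, e j) * (∏ j ∈ w, e j) = ∏ j ∈ v, e j := by
    intro w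
    induction w using Finset.induction_on with
    | empty => intro u; exact ⟨u, by simp⟩
    | insert i w hi ih =>
      intro u
      obtain ⟨v, hv⟩ := ih u
      obtain ⟨v', hv'⟩ := step v i
      refine ⟨v', ?_⟩
      rw [Finset.prod_insert hi, ← hv', ← hv, mul_assoc, mul_comm (e i)]
  let N : Subgroup M :=
    { carrier := {x | ∃ v : Finset Ω, x = ∏ j ∈ v, e j}
      one_mem' := ⟨∅, by simp⟩
      mul_mem' := by
        rintro x y ⟨u, rfl⟩ ⟨w, rfl⟩
        exact hmul w u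
      inv_mem' := by
        rintro x ⟨u, rfl⟩
        exact ⟨u, inv_eq_of_mul_eq_one_right (hsq _)⟩ }
  have hN : N = ⊤ := gen N fun g => ⟨{(QuotientGroup.mk g : Ω)}, by rw [Finset.prod_singleton]; rfl⟩
  have hsurj : Function.Surjective (fun v : Finset Ω => ∏ j ∈ v, e j) := by
    intro x
    have hx : x ∈ N := by rw [hN]; trivial
    obtain ⟨v, hv⟩ := hx
    exact ⟨v, hv.symm⟩
  have h1 := Nat.card_le_card_of_surjective _ hsurj
  rw [Nat.card_eq_fintype_card (α := Finset Ω), Fintype.card_finset, ← Nat.card_eq_fintype_card] at h1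
  exact h1

end general

section count

variable {f : M → M → ZMod 2} {q : M → ZMod 2}

theorem half [Finite M] (P : Set M) (t : M) (ht : t * t = 1) (hP : ∀ x ∈ P, x * t ∈ P)
    (hq : ∀ x ∈ P, q (x * t) ≠ q x) : 2 * Nat.card {x : M // x ∈ P ∧ q x = 0} = Nat.card P := by
  classical
  have e1 : {x : M // x ∈ P ∧ q x = 0} ≃ {x : M // x ∈ P ∧ q x ≠ 0} :=
    { toFun := fun x => ⟨x.1 * t, hP _ x.2.1, by
        have := hq _ x.2.1
        rw [x.2.2] at this; exact this⟩
      invFun := fun x => ⟨x.1 * t, hP _ x.2.1, by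
        have := hq _ x.2.1
        rw [zmod_ne_zero.1 x.2.2] at this
        rcases zmod_cases (q (x.1 * t)) with h | h
        · exact h
        · exact absurd h this⟩
      left_inv := fun x => Subtype.ext (by change x.1 * t * t = x.1; rw [mul_assoc, ht, mul_one])
      right_inv := fun x => Subtype.ext (by change x.1 * t * t = x.1; rw [mul_assoc, ht, mul_one]) }
  have e2 : P ≃ {x : M // x ∈ P ∧ q x = 0} ⊕ {x : M // x ∈ P ∧ q x ≠ 0} :=
    { toFun := fun x => if h : q x = 0 then Sum.inl ⟨x, x.2, h⟩ else Sum.inr ⟨x, x.2, h⟩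
      invFun := fun s => match s with
        | Sum.inl s => ⟨s.1, s.2.1⟩
        | Sum.inr s => ⟨s.1, s.2.1⟩
      left_inv := fun x => by
        by_cases h : q x = 0
        · simp [h]
        · simp [h]
      right_inv := fun s => by
        rcases s with ⟨s, h1, h2⟩ | ⟨s, h1, h2⟩
        · simp [h2]
        · simp [h2] }
  rw [Nat.card_congr e2, Nat.card_sum, ← Nat.card_congr e1]
  ring

variable {A S : Subgroup X} {D : Subgroup M} {l : M}

theorem mem_D_of_perp [Finite M] (h : Lin1 ρ f q A S D l 1 1) {d x : M} (hd : d ∈ D) (hd1 : d ≠ 1) (hdl : d ≠ l)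
    (hx : f l x = 0) (hdx : f d x = 0) : x ∈ D := by
  have hcM : Nat.card M = 16 := h.card_M
  have hcD : Nat.card D = 4 := h.card_D
  have hcP : Nat.card (h.form.perp l) = 8 := by
    have := h.card_l_perp
    rw [hcM] at this; omega
  -- an element of `perp l` not in `perp d`
  obtain ⟨y, hy, hdy⟩ : ∃ y, f l y = 0 ∧ f d y ≠ 0 := by
    by_contra hcon
    push Not at hcon
    obtain ⟨y, hy⟩ : ∃ y, f d y ≠ 0 := by
      by_contra h1
      push Not at h1
      exact hd1 (h.rad_D d hd h1)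
    have hly : f l y ≠ 0 := fun e => hy (hcon y e)
    have h2 : l * d = 1 := by
      refine h.rad_D _ (mul_mem h.l_mem hd) fun w => ?_
      rw [h.form.f_mul]
      by_cases hw : f l w = 0
      · rw [hw, hcon w hw, add_zero]
      · have h3 : f d (y * w) = 0 := hcon _ (h.form.mul_mem_perp hly hw)
        rw [h.form.mul_right, zmod_ne_zero.1 hy] at h3
        rw [zmod_ne_zero.1 hw]
        exact h3
    apply hdl
    rw [← h.form.inv_eq l]
    exact (inv_eq_of_mul_eq_one_right h2).symm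
  have hrel : (h.form.perp d).relIndex (h.form.perp l) = 2 := by
    rw [Subgroup.relIndex_eq_two_iff]
    refine ⟨y, hy, fun w hw => ?_⟩
    by_cases hw' : f d w = 0
    · right
      refine ⟨hw', fun h1 => hdy ?_⟩
      have h2 : f d (w * y) = 0 := h1
      rwa [h.form.mul_right, hw', zero_add] at h2
    · left
      exact ⟨h.form.mul_mem_perp hw' hdy, hw'⟩
  have hE : Nat.card (h.form.perp d ⊓ h.form.perp l : Subgroup M) = 4 := by
    have h1 := Subgroup.card_mul_index ((h.form.perp d).subgroupOf (h.form.perp l))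
    rw [← Subgroup.relIndex, hrel, hcP] at h1
    have h2 : Nat.card ((h.form.perp d).subgroupOf (h.form.perp l)) =
        Nat.card (h.form.perp d ⊓ h.form.perp l : Subgroup M) := by
      rw [← Subgroup.inf_subgroupOf_right]
      exact Nat.card_congr (Subgroup.subgroupOfEquivOfLe inf_le_right).toEquiv
    omega
  have hDE : D ≤ h.form.perp d ⊓ h.form.perp l := le_inf (fun e he => h.D_iso hd he) h.D_le
  have heq : D = h.form.perp d ⊓ h.form.perp l := by
    refine SetLike.coe_injective (Set.eq_of_subset_of_ncard_le hDE ?_ (Set.toFinite _))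
    have h3 : (D : Set M).ncard = Nat.card D := rfl
    have h4 : ((h.form.perp d ⊓ h.form.perp l : Subgroup M) : Set M).ncard =
      Nat.card (h.form.perp d ⊓ h.form.perp l : Subgroup M) := rfl
    rw [h3, h4, hcD, hE]
  rw [heq]
  exact ⟨hdx, hx⟩

theorem count [Finite M] (h : Lin1 ρ f q A S D l 1 1) : Nat.card {x : M // q x = 0} = 10 := by
  classical
  have hcM : Nat.card M = 16 := h.card_M
  have hcD : Nat.card D = 4 := h.card_D
  have hcP : Nat.card (h.form.perp l) = 8 := by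
    have := h.card_l_perp
    rw [hcM] at this; omega
  obtain ⟨d, hd, hd1, hdl⟩ : ∃ d ∈ D, d ≠ 1 ∧ d ≠ l := by
    by_contra hcon
    push Not at hcon
    have h1 : (D : Set M) ⊆ {1, l} := by
      intro x hx
      by_cases hx1 : x = 1
      · left; exact hx1
      · right; exact hcon x hx hx1
    have h2 := Set.ncard_le_ncard h1 (Set.toFinite _)
    have h3 : (D : Set M).ncard = Nat.card D := rfl
    have h4 : ({1, l} : Set M).ncard ≤ 2 := by
      have := Set.ncard_insert_le (1 : M) {l}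
      rwa [Set.ncard_singleton] at this
    omega
  let P1 : Set M := {x | f l x ≠ 0}
  let P2 : Set M := {x | f l x = 0 ∧ x ∉ D}
  have hsplit1 : M ≃ P1 ⊕ h.form.perp l :=
    { toFun := fun x => if hx : f l x = 0 then Sum.inr ⟨x, hx⟩ else Sum.inl ⟨x, hx⟩
      invFun := fun s => match s with
        | Sum.inl s => s.1
        | Sum.inr s => s.1
      left_inv := fun x => by
        by_cases hx : f l x = 0
        · simp [hx]
        · simp [hx]
      right_inv := fun s => by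
        rcases s with ⟨s, h1⟩ | ⟨s, h1⟩
        · have h1' : ¬ f l s = 0 := h1
          simp [h1']
        · have h1' : f l s = 0 := h1
          simp [h1'] }
  have hP1 : Nat.card P1 = 8 := by
    have := Nat.card_congr hsplit1
    rw [Nat.card_sum, hcM, hcP] at this
    omega
  have hsplit2 : h.form.perp l ≃ P2 ⊕ D :=
    { toFun := fun x => if hx : (x : M) ∈ D then Sum.inr ⟨x, hx⟩ else Sum.inl ⟨x, x.2, hx⟩
      invFun := fun s => match s with
        | Sum.inl s => ⟨s.1, s.2.1⟩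
        | Sum.inr s => ⟨s.1, h.D_le s.2⟩
      left_inv := fun x => by
        by_cases hx : (x : M) ∈ D
        · simp [hx]
        · simp [hx]
      right_inv := fun s => by
        rcases s with ⟨s, h1, h2⟩ | ⟨s, h1⟩
        · simp [h2]
        · simp [h1] }
  have hP2 : Nat.card P2 = 4 := by
    have := Nat.card_congr hsplit2
    rw [Nat.card_sum, hcD, hcP] at this
    omega
  have h1 := half (q := q) P1 l (h.form.sq l)
    (fun x hx => by
      change f l (x * l) ≠ 0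
      rw [h.form.mul_right, h.form.self, add_zero]; exact hx)
    (fun x hx => by
      have hx' : f l x ≠ 0 := hx
      rw [h.form.q_mul, h.D_q l h.l_mem, h.form.f_symm x l, zmod_ne_zero.1 hx', add_zero]
      intro e
      have h2 : (1 : ZMod 2) = 0 := by
        have := e
        rwa [add_eq_left] at this
      exact absurd h2 (by decide))
  have h2 := half (q := q) P2 d (h.form.sq d)
    (fun x hx => by
      refine ⟨?_, fun hxd => hx.2 ?_⟩
      · rw [h.form.mul_right, hx.1, h.D_perp d hd, add_zero]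
      · have := mul_mem hxd hd
        rwa [mul_assoc, h.form.sq, mul_one] at this)
    (fun x hx => by
      have hx' : f d x ≠ 0 := fun e => hx.2 (mem_D_of_perp h hd hd1 hdl hx.1 e)
      rw [h.form.q_mul, h.D_q d hd, h.form.f_symm x d, zmod_ne_zero.1 hx', add_zero]
      intro e
      have h2 : (1 : ZMod 2) = 0 := by
        have := e
        rwa [add_eq_left] at this
      exact absurd h2 (by decide))
  have hsplit : {x : M // q x = 0} ≃ {x : M // x ∈ P1 ∧ q x = 0} ⊕ ({x : M // x ∈ P2 ∧ q x = 0} ⊕ D) :=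
    { toFun := fun x => if hx : f l x = 0 then
          (if hx2 : (x : M) ∈ D then Sum.inr (Sum.inr ⟨x, hx2⟩) else Sum.inr (Sum.inl ⟨x, ⟨hx, hx2⟩, x.2⟩))
        else Sum.inl ⟨x, hx, x.2⟩
      invFun := fun s => match s with
        | Sum.inl s => ⟨s.1, s.2.2⟩
        | Sum.inr (Sum.inl s) => ⟨s.1, s.2.2⟩
        | Sum.inr (Sum.inr s) => ⟨s.1, h.D_q _ s.2⟩
      left_inv := fun x => by
        by_cases hx : f l x = 0
        · by_cases hx2 : (x : M) ∈ D
          · simp [hx, hx2]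
          · simp [hx, hx2]
        · simp [hx]
      right_inv := fun s => by
        rcases s with ⟨s, h1, h2⟩ | ⟨s, ⟨h1, h3⟩, h2⟩ | ⟨s, h1⟩
        · have h1' : ¬ f l s = 0 := h1
          simp [h1']
        · simp [h1, h3]
        · simp [h1, h.D_perp s h1] }
  rw [Nat.card_congr hsplit, Nat.card_sum, Nat.card_sum, hcD]
  omega

end count

section final

variable [Finite X] [Finite M] {f : M → M → ZMod 2} {q : M → ZMod 2} {A S : Subgroup X} {D : Subgroup M} {l : M}

theorem card_fx_cases (h : Lin1 ρ f q A S D l 1 1) {g : X} (hg : g ≠ 1) :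
    Nat.card (fx ρ g) = 1 ∨ Nat.card (fx ρ g) = 2 ∨ Nat.card (fx ρ g) = 4 ∨ Nat.card (fx ρ g) = 8 := by
  have hcM : Nat.card M = 16 := h.card_M
  have h1 : Nat.card (fx ρ g) ∣ 2 ^ 4 := by
    have := Subgroup.card_subgroup_dvd_card (fx ρ g)
    rw [hcM] at this
    exact this
  obtain ⟨k, hk, e⟩ := (Nat.dvd_prime_pow Nat.prime_two).1 h1
  have h2 : Nat.card (fx ρ g) ≠ 16 := by
    intro h3
    apply hg
    apply h.faith
    intro x
    have h4 : fx ρ g = ⊤ := Subgroup.eq_top_of_card_eq _ (by rw [h3, hcM])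
    have : x ∈ fx ρ g := by rw [h4]; trivial
    exact this
  interval_cases k
  · left; exact e
  · right; left; exact e
  · right; right; left; exact e
  · right; right; right; exact e
  · exact absurd e h2

theorem prime_eq (h : Lin1 ρ f q A S D l 1 1) {p : ℕ} (hp : p.Prime) (hp2 : p ≠ 2) (hd : p ∣ Nat.card X) : p = 3 := by
  have hcM : Nat.card M = 16 := h.card_M
  have : Fact p.Prime := ⟨hp⟩
  obtain ⟨g, hg⟩ := exists_prime_orderOf_dvd_card' p hd
  have hg1 : g ≠ 1 := by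
    rintro rfl
    rw [orderOf_one] at hg
    exact hp.one_lt.ne hg
  have hgp : g ^ p ^ 1 = 1 := by rw [pow_one, ← hg]; exact pow_orderOf_eq_one g
  have h1 := card_fx_mod (ρ := ρ) hp hgp
  rw [hcM] at h1
  have h2 : p ∣ 16 - Nat.card (fx ρ g) := by
    refine (Nat.modEq_iff_dvd' ?_).1 h1.symm
    rcases card_fx_cases h hg1 with e | e | e | e <;> omega
  have hZ := card_mod (ρ := ρ) hp hgp {x : M | q x = 0} (fun x hx => by
    change q (ρ g x) = 0
    rw [h.form.q_inv]; exact hx)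
  have hZ0 : Nat.card {x : M | q x = 0} = 10 := count h
  rw [hZ0] at hZ
  have hle : Nat.card {x : M // x ∈ {x : M | q x = 0} ∧ ρ g x = x} ≤ Nat.card (fx ρ g) := by
    refine Nat.card_le_card_of_injective (fun x => (⟨x.1, x.2.2⟩ : fx ρ g)) ?_
    intro a b hab
    have h0 : (a : M) = b := congrArg (fun t : fx ρ g => (t : M)) hab
    exact Subtype.ext h0
  have hpos : 0 < Nat.card {x : M // x ∈ {x : M | q x = 0} ∧ ρ g x = x} := by
    have : Nonempty {x : M // x ∈ {x : M | q x = 0} ∧ ρ g x = x} := ⟨⟨1, h.form.q_one, map_one _⟩⟩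
    exact Nat.card_pos
  set w := Nat.card {x : M // x ∈ {x : M | q x = 0} ∧ ρ g x = x} with hw
  have hpdvd : p ∣ 15 ∨ p ∣ 14 ∨ p ∣ 12 ∨ p ∣ 8 := by
    rcases card_fx_cases h hg1 with e | e | e | e
    · rw [e] at h2; left; exact h2
    · rw [e] at h2; right; left; exact h2
    · rw [e] at h2; right; right; left; exact h2
    · rw [e] at h2; right; right; right; exact h2
  have hp15 : p = 3 ∨ p = 5 ∨ p = 7 := by
    have hle : p ≤ 15 := by
      rcases hpdvd with e | e | e | e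
      · exact Nat.le_of_dvd (by norm_num) e
      · exact (Nat.le_of_dvd (by norm_num) e).trans (by norm_num)
      · exact (Nat.le_of_dvd (by norm_num) e).trans (by norm_num)
      · exact (Nat.le_of_dvd (by norm_num) e).trans (by norm_num)
    interval_cases p
    all_goals first
      | omega
      | (exfalso; revert hp; decide)
      | (exfalso; rcases hpdvd with e | e | e | e <;> revert e <;> decide)
  rcases hp15 with e | e | e
  · exact e
  · exfalso
    subst e
    rcases card_fx_cases h hg1 with e | e | e | e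
    · rw [e] at hle
      have : w = 1 := by omega
      rw [this] at hZ
      revert hZ; decide
    · rw [e] at h2; revert h2; decide
    · rw [e] at h2; revert h2; decide
    · rw [e] at h2; revert h2; decide
  · exfalso
    subst e
    rcases card_fx_cases h hg1 with e | e | e | e
    · rw [e] at h2; revert h2; decide
    · rw [e] at hle
      have : w = 1 ∨ w = 2 := by omega
      rcases this with e' | e'
      · rw [e'] at hZ; revert hZ; decide
      · rw [e'] at hZ; revert hZ; decide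
    · rw [e] at h2; revert h2; decide
    · rw [e] at h2; revert h2; decide

theorem not_nine (h : Lin1 ρ f q A S D l 1 1) : ¬ 9 ∣ Nat.card X := by
  intro h9
  have hcM : Nat.card M = 16 := h.card_M
  have : Fact (Nat.Prime 3) := ⟨Nat.prime_three⟩
  obtain ⟨P⟩ : Nonempty (Sylow 3 X) := inferInstance
  have hcyc := h.cyc 3 P Nat.prime_three (by norm_num)
  have h1 : 3 ^ 2 ∣ Nat.card P := by
    exact P.pow_dvd_card_of_pow_dvd_card (by norm_num; exact h9)
  obtain ⟨y, hy⟩ := hcyc.exists_generator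
  have hord : orderOf y = Nat.card P := by
    rw [← Nat.card_zpowers]
    have : Subgroup.zpowers y = ⊤ := by
      rw [Subgroup.eq_top_iff']; exact hy
    rw [this, Subgroup.card_top]
  obtain ⟨k, hk⟩ := h1
  have hk0 : k ≠ 0 := by
    rintro rfl
    rw [mul_zero] at hk
    exact Nat.card_pos.ne' hk
  have h3 : orderOf (y ^ k) = 9 := by
    rw [orderOf_pow' _ hk0, hord, hk, Nat.gcd_eq_right (dvd_mul_left k _)]
    rw [Nat.mul_div_cancel _ (Nat.pos_of_ne_zero hk0)]
    norm_num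
  set g : X := ((y ^ k : P) : X) with hg
  have hg9 : orderOf g = 9 := by
    rw [hg]
    rw [Subgroup.orderOf_coe]; exact h3
  have h4 := nine (ρ := ρ) hg9
  have hg3 : g ^ 3 ≠ 1 := by
    intro e
    have := orderOf_dvd_of_pow_eq_one e
    rw [hg9] at this
    omega
  have hg33 : (g ^ 3) ^ 3 ^ 1 = 1 := by
    rw [pow_one, ← pow_mul]
    change g ^ 9 = 1
    rw [← hg9]; exact pow_orderOf_eq_one g
  have h5 := card_fx_mod (ρ := ρ) Nat.prime_three hg33
  rw [hcM] at h5
  have h6 := card_split (ρ := ρ) (g ^ 3)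
  rw [hcM] at h6
  rcases card_fx_cases h hg3 with e | e | e | e
  · rw [e] at h6
    have : Nat.card {x : M // ρ (g ^ 3) x ≠ x} = 15 := by omega
    rw [this] at h4; omega
  · rw [e] at h5; revert h5; decide
  · rw [e] at h6
    have : Nat.card {x : M // ρ (g ^ 3) x ≠ x} = 12 := by omega
    rw [this] at h4; omega
  · rw [e] at h5; revert h5; decide

/-- **(f6)** -/
theorem false_of_one_one (h : Lin1 ρ f q A S D l 1 1) : False := by
  have hcM : Nat.card M = 16 := h.card_M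
  have : Fact (Nat.Prime 2) := ⟨Nat.prime_two⟩
  have hSl : S ≤ stb ρ l := fun g hg => mem_stb.2 (h.S_fix hg)
  have hodd : ¬ 2 ∣ (stb ρ l).index := by
    intro h2
    have h3 : (stb ρ l).index ∣ S.index := Subgroup.index_dvd_of_le hSl
    have h4 : ¬ 2 ∣ S.index := by
      let P : Sylow 2 X := ⟨S, h.sylS.two, fun {Q} hQ hSQ => h.sylS.max Q le_top hQ hSQ⟩
      exact Sylow.not_dvd_index P
    exact h4 (h2.trans h3)
  have hdvd : (stb ρ l).index ∣ Nat.card X := Subgroup.index_dvd_card _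
  have hne : (stb ρ l).index ≠ 0 := Subgroup.index_ne_zero_of_finite
  have h3 : (stb ρ l).index = 3 ^ (stb ρ l).index.primeFactorsList.length := by
    refine Nat.eq_prime_pow_of_unique_prime_dvd hne fun {p} hp hpd => ?_
    refine prime_eq h hp ?_ (hpd.trans hdvd)
    rintro rfl
    exact hodd hpd
  set k := (stb ρ l).index.primeFactorsList.length with hk
  have hk1 : k ≤ 1 := by
    by_contra hcon
    push Not at hcon
    apply not_nine h
    refine dvd_trans ?_ hdvd
    rw [h3]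
    exact pow_dvd_pow 3 hcon
  have h4 : (stb ρ l).index ≤ 3 := by
    rw [h3]
    calc 3 ^ k ≤ 3 ^ 1 := Nat.pow_le_pow_right (by norm_num) hk1
      _ = 3 := by norm_num
  have h5 := card_le (ρ := ρ) h.form.sq h.gen
  rw [hcM] at h5
  have h6 : 2 ^ (stb ρ l).index ≤ 2 ^ 3 := Nat.pow_le_pow_right (by norm_num) h4
  omega

end final

end Cfsg.Agent.OddCyclic.BTwoLin.CaseOne
end

-- part: OddCyclic/EmpF/Cyc
section
set_option linter.all false
open scoped Cfsg.Agent.FastGrp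

/-!
# (CYC)

`mem_of_perfect`: all odd Sylow subgroups of `X` cyclic, `N` a perfect normal subgroup of `X`, `r` an odd prime dividing
`|N|`: every `r`-element of `X` lies in `N`.
-/

set_option autoImplicit false

namespace Cfsg.Agent.OddCyclic.EmpF

open Subgroup
open Cfsg.Agent.OddCyclic.T1Defs (OddCyc)

theorem mem_of_perfect {X : Type*} [Group X] [Finite X] (hc : OddCyc X) {N : Subgroup X} (hn : N.Normal)
    (hN : ⁅N, N⁆ = N) {r : ℕ} (hr : r.Prime) (hr2 : r ≠ 2) (hrN : r ∣ Nat.card N) {x : X} (hx : ∃ k : ℕ, x ^ r ^ k = 1) :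
    x ∈ N := by
  have hrf : Fact r.Prime := ⟨hr⟩
  obtain ⟨X₁, hX₁⟩ : ∃ X₁, X₁ = N ⊔ zpowers x := ⟨_, rfl⟩
  have hNX : N ≤ X₁ := by rw [hX₁]; exact le_sup_left
  have hxX : x ∈ X₁ := by rw [hX₁]; exact mem_sup_right (mem_zpowers x)
  have hc₁ := CompBasic.oddCyc_subgroup hc X₁
  -- the commutator subgroup of `X₁`
  have h1 : ∀ a ∈ X₁, ∃ i : ℤ, (QuotientGroup.mk a : X ⧸ N) = (QuotientGroup.mk x) ^ i := by
    intro a ha
    rw [hX₁, Subgroup.mem_sup_of_normal_left] at ha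
    obtain ⟨n, hn', b, ⟨i, rfl⟩, rfl⟩ := ha
    refine ⟨i, ?_⟩
    rw [QuotientGroup.mk_mul, (QuotientGroup.eq_one_iff n).2 hn', one_mul]
    rfl
  have h2 : (commutator X₁).map X₁.subtype = N := by
    refine le_antisymm ?_ ?_
    · rw [map_le_iff_le_comap, commutator_def, Subgroup.commutator_le]
      rintro ⟨a, ha⟩ - ⟨b, hb⟩ -
      show a * b * a⁻¹ * b⁻¹ ∈ N
      rw [← QuotientGroup.eq_one_iff]
      obtain ⟨i, hi⟩ := h1 a ha
      obtain ⟨j, hj⟩ := h1 b hb
      rw [QuotientGroup.mk_mul, QuotientGroup.mk_mul, QuotientGroup.mk_mul, QuotientGroup.mk_inv,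
        QuotientGroup.mk_inv, hi, hj]
      group
    · rw [commutator_def, Subgroup.map_commutator, ← MonoidHom.range_eq_map, Subgroup.range_subtype]
      rw [← hN]
      exact Subgroup.commutator_mono hNX hNX
  obtain ⟨P⟩ : Nonempty (Sylow r X₁) := inferInstance
  have hPc : IsCyclic P := hc₁ r P hr hr2
  have h3 : Nat.card (commutator X₁) = Nat.card N := by
    conv_rhs => rw [← h2]
    exact (Subgroup.card_map_of_injective X₁.subtype_injective).symm
  have h4 : ¬ r ∣ (commutator X₁).index :=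
    (Sylow.not_dvd_card_commutator_or_not_dvd_index_commutator P).resolve_left (by rw [h3]; exact fun h => h hrN)
  -- the image of `x` in `X₁/X₁'`
  obtain ⟨k, hk⟩ := hx
  have h5 : (QuotientGroup.mk (⟨x, hxX⟩ : X₁) : X₁ ⧸ commutator X₁) = 1 := by
    rw [← orderOf_eq_one_iff]
    have h6 : orderOf (QuotientGroup.mk (⟨x, hxX⟩ : X₁) : X₁ ⧸ commutator X₁) ∣ r ^ k := by
      apply orderOf_dvd_of_pow_eq_one
      rw [← QuotientGroup.mk_pow]
      have h7 : (⟨x, hxX⟩ : X₁) ^ r ^ k = 1 := Subtype.ext hk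
      rw [h7]; rfl
    have h7 : orderOf (QuotientGroup.mk (⟨x, hxX⟩ : X₁) : X₁ ⧸ commutator X₁) ∣ (commutator X₁).index := by
      rw [Subgroup.index]
      exact orderOf_dvd_natCard _
    obtain ⟨j, -, hj⟩ := (Nat.dvd_prime_pow hr).1 h6
    rcases Nat.eq_zero_or_pos j with h8 | h8
    · rw [hj, h8, pow_zero]
    · exfalso
      apply h4
      rw [hj] at h7
      exact (dvd_pow_self r h8.ne').trans h7
  rw [QuotientGroup.eq_one_iff] at h5
  rw [← h2]
  exact ⟨_, h5, rfl⟩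

end Cfsg.Agent.OddCyclic.EmpF
end

-- part: OddCyclic/Emp3/End168
section
prune_inst 0x207004000000000018001260001c4292000002004880011080030006c69c4020002021f8000d10000088c4403800281708201000100000000000000119008080235202837ca904260009800004000000000000000000000000000000041000000000000
set_option linter.all false
open scoped Cfsg.Agent.FastGrp

/-!
# S0342, case (III), (6.6): `L₃(2)`

`card_le_four`: `H` acts on the elementary abelian 2-group `V`, `L ⊴ H` is simple of order 168, `C_H(L) = 1`, `S` is a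
Sylow 2-subgroup of `H` which centralises `F ≤ V`, `F ∩ C_V(L) = 1`, `1 ≠ A ≤ S` is elementary abelian and
`|V : C_V(A)| ≤ |A|`. Then `|F| ≤ 4`. (Shortcut by helper148: `L = ⟨s, w⟩`, `s ∈ S`, `w` an involution.)
-/

set_option autoImplicit false
set_option linter.unusedSectionVars false

namespace Cfsg.Agent.OddCyclic.Emp3.End168

open Matrix Cfsg.Agent.Lib.SL2Mat Cfsg.Agent.GH.L2Aut Cfsg.Agent.Lib.PSL2Torus
open Cfsg.Agent.OddCyclic.T1Module Cfsg.Agent.OddCyclic.FFBasic Cfsg.Agent.OddCyclic.FFThree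
  Cfsg.Agent.OddCyclic.FFRed Cfsg.Agent.OddCyclic.FFSl2

/-! ### Facts on `L₃(2)` -/

/-- the facts on `L₃(2)` used below -/
structure Facts (L : Type*) [Group L] : Prop where
  l32 : L32 L
  two : ∃ r w : L, r ^ 4 = 1 ∧ w * w = 1 ∧ Subgroup.closure {r, w} = ⊤
  aut : ∀ a b : L, Four a b → ∀ α : MulAut L, α a = a → α b = b →
    ∃ u : L, (u = 1 ∨ u = a ∨ u = b ∨ u = a * b) ∧ α = MulAut.conj u

section facts

variable {F : Type*} [Field F] [Finite F] {L : Type*} [Group L] (R : Cfsg.Agent.GH.L2Aut.Rep F L)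

include R in
theorem aut_four (hF : Nat.card F = 7) {a b : L} (h : Four a b) {α : MulAut L} (ha : α a = a) (hb : α b = b) :
    ∃ u : L, (u = 1 ∨ u = a ∨ u = b ∨ u = a * b) ∧ α = MulAut.conj u := by
  have hsub : ∀ σ τ : F ≃+* F, σ = τ := by
    intro σ τ
    ext t
    obtain ⟨n, rfl⟩ := exists_cast hF t
    rw [map_natCast, map_natCast]
  obtain ⟨Φ, y, δ, -, -, -, -, -, -, -, -, -, -, -, -, -, h1, -⟩ := R.exists_frame h
  obtain ⟨u, hu, hu'⟩ := h1 α ha hb
  have h2 : Φ (R.fld α) = 1 := by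
    rw [hsub (R.fld α) 1, map_one]
  rw [h2, mul_one] at hu'
  exact ⟨u, hu, hu'⟩

include R in
theorem exists_two (hF : Nat.card F = 7) : ∃ r w : L, r ^ 4 = 1 ∧ w * w = 1 ∧ Subgroup.closure {r, w} = ⊤ := by
  have hF7 := cast_seven hF
  have hjj : jm F * jm F = -1 := by
    refine ext_ent ?_ ?_ ?_ ?_
    · rw [ent_mul]; show 0 * 0 + (-1) * 1 = -(1 : F); ring
    · rw [ent_mul]; show 0 * (-1) + (-1) * 0 = -(0 : F); ring
    · rw [ent_mul]; show 1 * 0 + 0 * 1 = -(0 : F); ring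
    · rw [ent_mul]; show 1 * (-1) + 0 * 0 = -(1 : F); ring
  set Q : SpecialLinearGroup (Fin 2) F := up 3 * jm F with hQ
  have q00 : ent Q 0 0 = 3 := by rw [hQ, ent_mul]; show 1 * 0 + 3 * 1 = (3 : F); ring
  have q01 : ent Q 0 1 = -1 := by rw [hQ, ent_mul]; show 1 * (-1) + 3 * 0 = -(1 : F); ring
  have q10 : ent Q 1 0 = 1 := by rw [hQ, ent_mul]; show 0 * 0 + 1 * 1 = (1 : F); ring
  have q11 : ent Q 1 1 = 0 := by rw [hQ, ent_mul]; show 0 * (-1) + 1 * 0 = (0 : F); ring
  have s00 : ent (Q * Q) 0 0 = 1 := by rw [ent_mul, q00, q01, q10]; linear_combination hF7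
  have s01 : ent (Q * Q) 0 1 = -3 := by rw [ent_mul, q00, q01, q11]; ring
  have s10 : ent (Q * Q) 1 0 = 3 := by rw [ent_mul, q00, q10, q11]; ring
  have s11 : ent (Q * Q) 1 1 = -1 := by rw [ent_mul, q01, q10, q11]; ring
  have hQ4 : (Q * Q) * (Q * Q) = -1 := by
    refine ext_ent ?_ ?_ ?_ ?_
    · rw [ent_mul, s00, s01, s10]; show 1 * 1 + (-3) * 3 = -(1 : F); linear_combination -hF7
    · rw [ent_mul, s00, s01, s11]; show 1 * (-3) + (-3) * (-1) = -(0 : F); ring
    · rw [ent_mul, s00, s10, s11]; show 3 * 1 + (-1) * 3 = -(0 : F); ring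
    · rw [ent_mul, s01, s10, s11]; show 3 * (-3) + (-1) * (-1) = -(1 : F); linear_combination -hF7
  refine ⟨R.π Q, R.π (jm F), ?_, ?_, ?_⟩
  · rw [← map_pow, R.ker]
    right
    rw [← hQ4]
    simp only [pow_succ, pow_zero, one_mul, mul_assoc]
  · rw [← map_mul, hjj, R.ker]; exact Or.inr rfl
  · rw [eq_top_iff]
    intro x _
    obtain ⟨X, rfl⟩ := R.surj x
    set S := Subgroup.closure ({R.π Q, R.π (jm F)} : Set L) with hS
    have hj : R.π (jm F) ∈ S := Subgroup.subset_closure (Or.inr rfl)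
    have hq : R.π Q ∈ S := Subgroup.subset_closure (Or.inl rfl)
    have hu3 : R.π (up 3) ∈ S := by
      have h1 := mul_mem hq hj
      rw [← map_mul, hQ, mul_assoc, hjj] at h1
      have h2 : (up 3 : SpecialLinearGroup (Fin 2) F) * -1 = -(up 3) := by rw [mul_neg, mul_one]
      rw [h2, R.π_neg] at h1
      exact h1
    have hu1 : R.π (up 1) ∈ S := by
      have h1 := pow_mem hu3 5
      have h2 : (up (3 : F)) ^ 5 = up 1 := by
        have h3 : up (3 : F) = (up 1) ^ 3 := by rw [FFPsl.up_pow]; norm_num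
        rw [h3, ← pow_mul, FFPsl.up_pow]
        congr 1
        push_cast
        linear_combination 2 * hF7
      rwa [← map_pow, h2] at h1
    have hu : ∀ t : F, R.π (up t) ∈ S := by
      intro t
      obtain ⟨n, rfl⟩ := exists_cast hF t
      rw [← FFPsl.up_pow, map_pow]
      exact pow_mem hu1 n
    have hl : ∀ t : F, R.π (lo t) ∈ S := by
      intro t
      have h1 : lo t = -(jm F * up (-t) * jm F) := by
        refine ext_ent ?_ ?_ ?_ ?_
        · show 1 = -(ent (jm F * up (-t) * jm F) 0 0)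
          rw [ent_mul, ent_mul, ent_mul]
          show (1 : F) = -((0 * 1 + (-1) * 0) * 0 + (0 * (-t) + (-1) * 1) * 1); ring
        · show 0 = -(ent (jm F * up (-t) * jm F) 0 1)
          rw [ent_mul, ent_mul, ent_mul]
          show (0 : F) = -((0 * 1 + (-1) * 0) * (-1) + (0 * (-t) + (-1) * 1) * 0); ring
        · show t = -(ent (jm F * up (-t) * jm F) 1 0)
          rw [ent_mul, ent_mul, ent_mul]
          show (t : F) = -((1 * 1 + 0 * 0) * 0 + (1 * (-t) + 0 * 1) * 1); ring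
        · show 1 = -(ent (jm F * up (-t) * jm F) 1 1)
          rw [ent_mul, ent_mul, ent_mul]
          show (1 : F) = -((1 * 1 + 0 * 0) * (-1) + (1 * (-t) + 0 * 1) * 0); ring
      rw [h1, R.π_neg, map_mul, map_mul]
      exact mul_mem (mul_mem hj (hu _)) hj
    obtain ⟨a, b, c, d, rfl⟩ := exists_up_lo X
    rw [map_mul, map_mul, map_mul]
    exact mul_mem (mul_mem (mul_mem (hu a) (hl b)) (hu c)) (hl d)

end facts

theorem two_ne : (2 : ZMod 7) ≠ 0 := by decide

theorem facts {L : Type*} [Group L] [Finite L] (hs : IsSimpleGroup L) (hc : Nat.card L = 168) : Facts L := by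
  have : Fact (Nat.Prime 7) := ⟨by norm_num⟩
  obtain ⟨e⟩ := Cfsg.Agent.S0495.result (G := L) hc (F := ZMod 7) (ZMod.card 7)
  have R := Cfsg.Agent.GH.L2Aut.Rep.ofEquiv (F := ZMod 7) two_ne e
  have h7 : Nat.card (ZMod 7) = 7 := by simp
  exact ⟨l32_of R h7, exists_two R h7, fun a b h α ha hb => aut_four R h7 h ha hb⟩

/-- `L₃(2)` is generated by an element of a given Sylow 2-subgroup and an involution -/
theorem Facts.exists_conj {L : Type*} [Group L] [Finite L] (h : Facts L) (T : Sylow 2 L) :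
    ∃ s ∈ T, ∃ w : L, w ≠ 1 ∧ w * w = 1 ∧ Subgroup.closure {s, w} = ⊤ := by
  obtain ⟨r, w, hr, hw, hgen⟩ := h.two
  have h1 : IsPGroup 2 (Subgroup.zpowers r) := by
    intro y
    refine ⟨2, ?_⟩
    obtain ⟨j, hj⟩ := Subgroup.mem_zpowers_iff.1 y.2
    apply Subtype.ext
    show (y : L) ^ 2 ^ 2 = 1
    have h4 : r ^ 2 ^ 2 = 1 := by norm_num; exact hr
    rw [← hj, ← zpow_natCast, ← _root_.zpow_mul, mul_comm, _root_.zpow_mul, zpow_natCast, h4, _root_.one_zpow]
  obtain ⟨S, hS⟩ := h1.exists_le_sylow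
  obtain ⟨k, hk⟩ := MulAction.exists_smul_eq L S T
  have h2 : k * r * k⁻¹ ∈ T := by
    rw [← hk]
    exact Subgroup.smul_mem_pointwise_smul _ _ _ (hS (Subgroup.mem_zpowers r))
  have hgen' : Subgroup.closure {k * r * k⁻¹, k * w * k⁻¹} = ⊤ := by
    rw [eq_top_iff]
    intro x _
    have h5 : (⊤ : Subgroup L) ≤
        (Subgroup.closure {k * r * k⁻¹, k * w * k⁻¹}).comap (MulAut.conj k).toMonoidHom := by
      rw [← hgen, Subgroup.closure_le]
      rintro x (rfl | rfl)
      · exact Subgroup.subset_closure (Or.inl rfl)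
      · exact Subgroup.subset_closure (Or.inr rfl)
    have h6 := h5 (Subgroup.mem_top (k⁻¹ * x * k))
    have e2 : k * (k⁻¹ * x * k) * k⁻¹ = x := by group
    rw [← e2]
    exact h6
  refine ⟨_, h2, k * w * k⁻¹, ?_, ?_, hgen'⟩
  · intro h3
    have hw1 : w = 1 := by
      have := congrArg (fun t => k⁻¹ * t * k) h3
      simpa [mul_assoc] using this
    -- `L` would be a 2-group
    have h4 : (⊤ : Subgroup L) ≤ T := by
      rw [← hgen', Subgroup.closure_le]
      rintro x (rfl | rfl)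
      · exact h2
      · rw [h3]; exact one_mem _
    have h5 := Subgroup.card_le_of_le h4
    rw [Subgroup.card_top, h.l32.card] at h5
    have h6 := card_sylow h.l32 T
    change Nat.card (T : Subgroup L) = 8 at h6
    omega
  · have e : k * w * k⁻¹ * (k * w * k⁻¹) = k * (w * w) * k⁻¹ := by group
    rw [e, hw, mul_one, mul_inv_cancel]

/-! ### Involutions of `L` with few nonfixed points -/

/-- the stabiliser of `v` -/
def stabV {X V : Type*} [Group X] [CommGroup V] (ρ : X →* MulAut V) (v : V) : Subgroup X where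
  carrier := {b | ρ b v = v}
  mul_mem' := by
    intro b c hb hc
    show ρ (b * c) v = v
    rw [map_mul, MulAut.mul_apply, show ρ c v = v from hc, show ρ b v = v from hb]
  one_mem' := by
    show ρ 1 v = v
    rw [map_one]; rfl
  inv_mem' := by
    intro b hb
    have h1 : v ∈ fx ρ b := hb
    exact fx_inv ρ h1

section main

variable {H : Type*} [Group H] [Finite H]

theorem isFour_map {L : Type*} [Group L] (α : MulAut L) {C : Subgroup L} (hC : IsFour C) :
    IsFour (C.map α.toMonoidHom) := by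
  refine ⟨?_, ?_⟩
  · rw [Subgroup.card_map_of_injective (f := α.toMonoidHom) α.injective]
    exact hC.card
  · rintro _ ⟨c, hc, rfl⟩
    have h1 := congrArg α (hC.sq c hc)
    rw [map_mul, map_one] at h1
    exact h1

theorem exists_sylow (S : Sylow 2 H) {L : Subgroup H} (hL : L.Normal) :
    ∃ T : Sylow 2 L, (T : Subgroup L) = (S : Subgroup H).subgroupOf L := by
  have : Fact (Nat.Prime 2) := ⟨Nat.prime_two⟩
  have h1 : IsPGroup 2 ((S : Subgroup H).subgroupOf L) :=
    S.isPGroup'.comap_of_injective _ L.subtype_injective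
  obtain ⟨T, hT⟩ := h1.exists_le_sylow
  refine ⟨T, (Subgroup.eq_of_le_of_card_ge hT ?_).symm⟩
  obtain ⟨P, hP⟩ := (T.isPGroup'.map L.subtype).exists_le_sylow
  obtain ⟨g, hg⟩ := MulAction.exists_smul_eq H P S
  let f : ↥(T : Subgroup L) → ↥((S : Subgroup H).subgroupOf L) := fun y =>
    ⟨⟨g * ((y : L) : H) * g⁻¹, hL.conj_mem _ (y : L).2 g⟩, by
    rw [Subgroup.mem_subgroupOf, ← hg]
    exact ⟨_, hP (Subgroup.mem_map_of_mem _ y.2), rfl⟩⟩
  apply Nat.card_le_card_of_injective f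
  intro a b hab
  have h1 : g * ((a : L) : H) * g⁻¹ = g * ((b : L) : H) * g⁻¹ := congrArg (fun t => ((t.1 : L) : H)) hab
  exact Subtype.ext (Subtype.ext (mul_left_cancel (mul_right_cancel h1)))

variable {L : Subgroup H} [hL : L.Normal]

/-- an automorphism `x` with `x ∈ S` which normalises a four-group of `S ∩ L` is in `L` -/
theorem mem_of_four (h : Facts L) (hC : Subgroup.centralizer (L : Set H) = ⊥) (S : Sylow 2 H) (T : Sylow 2 L)
    (hT : (T : Subgroup L) = (S : Subgroup H).subgroupOf L) {z a b : L} (hza : Four z a) (hzb : Four z b)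
    (hB : hzb.sub ≤ T) (hA : hza.sub ≤ T) (hab : a * b * a⁻¹ = z * b) (hne : hza.sub ≠ hzb.sub)
    (honly : ∀ C : Subgroup L, IsFour C → C ≤ T → C = hza.sub ∨ C = hzb.sub)
    {x : H} (hx : x ∈ S) (hn : ∀ c ∈ hza.sub, MulAut.conjNormal x c ∈ hza.sub) : x ∈ L := by
  set α : MulAut L := MulAut.conjNormal x with hα
  -- `α` normalises `T`
  have hαT : ∀ t ∈ T, α t ∈ T := by
    intro t ht
    have h1 : t ∈ (S : Subgroup H).subgroupOf L := hT ▸ ht
    show α t ∈ (T : Subgroup L)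
    rw [hT, Subgroup.mem_subgroupOf]
    rw [hα, MulAut.conjNormal_apply]
    exact mul_mem (mul_mem hx (Subgroup.mem_subgroupOf.1 h1)) (inv_mem hx)
  have hcard : ∀ C : Subgroup L, IsFour C → IsFour (C.map α.toMonoidHom) := fun C hC4 => isFour_map α hC4
  have hmapT : ∀ C : Subgroup L, C ≤ T → C.map α.toMonoidHom ≤ T := by
    intro C hC
    rintro _ ⟨c, hc, rfl⟩
    exact hαT c (hC hc)
  have h1 : hza.sub.map α.toMonoidHom = hza.sub := by
    apply (hcard _ (isFour_sub hza)).eq_of_le (isFour_sub hza)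
    rintro _ ⟨c, hc, rfl⟩
    exact hn c hc
  have h2 : hzb.sub.map α.toMonoidHom = hzb.sub := by
    rcases honly _ (hcard _ (isFour_sub hzb)) (hmapT _ hB) with h3 | h3
    · exfalso
      apply hne
      rw [← h1] at h3
      exact (Subgroup.map_injective α.injective h3).symm
    · exact h3
  have hzz : α z ∈ hza.sub := hn z (Or.inr (Or.inl rfl))
  have hzz' : α z ∈ hzb.sub := by
    rw [← h2]
    exact ⟨z, Or.inr (Or.inl rfl), rfl⟩
  have hab' : b * a * b⁻¹ = z * a := by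
    have e1 : a * b = z * b * a := by rw [← hab]; group
    have hbi : b⁻¹ = b := inv_eq_of_mul_eq_one_left hzb.bb
    calc b * a * b⁻¹ = b * (a * b) := by rw [hbi, mul_assoc]
      _ = b * (z * b * a) := by rw [e1]
      _ = (b * z) * b * a := by group
      _ = z * (b * b) * a := by rw [← hzb.comm]; group
      _ = z * a := by rw [hzb.bb, mul_one]
  have haB : a ∉ hzb.sub := by
    intro haB
    apply hne
    apply (isFour_sub hza).eq_of_le (isFour_sub hzb)
    rintro c (rfl | rfl | rfl | rfl)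
    · exact one_mem _
    · exact Or.inr (Or.inl rfl)
    · exact haB
    · exact mul_mem (Or.inr (Or.inl rfl)) haB
  have hz1 : α z ≠ 1 := fun h3 => hza.a1 (α.injective (by rw [h3, map_one]))
  have hαz : α z = z := by
    rcases hzz with h3 | h3 | h3 | h3
    · exact absurd h3 hz1
    · exact h3
    · rw [h3] at hzz'
      exact absurd hzz' haB
    · rw [h3] at hzz'
      have h4 := mul_mem (inv_mem (Or.inr (Or.inl rfl) : z ∈ hzb.sub)) hzz'
      rw [inv_mul_cancel_left] at h4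
      exact absurd h4 haB
  have hαa : α a = a ∨ α a = z * a := by
    rcases hn a (Or.inr (Or.inr (Or.inl rfl))) with h3 | h3 | h3 | h3
    · exact absurd (α.injective (by rw [h3, map_one])) hza.b1
    · exact absurd (α.injective (h3.trans hαz.symm)) hza.ne.symm
    · exact Or.inl h3
    · exact Or.inr h3
  -- `α` is inner
  obtain ⟨u, hu⟩ : ∃ u : L, α = MulAut.conj u := by
    rcases hαa with h3 | h3
    · obtain ⟨u, -, hu⟩ := h.aut z a hza α hαz h3
      exact ⟨u, hu⟩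
    · obtain ⟨u, -, hu⟩ := h.aut z a hza (MulAut.conj b * α) (by
        rw [MulAut.mul_apply, hαz, MulAut.conj_apply, ← hzb.comm, mul_inv_cancel_right]) (by
        rw [MulAut.mul_apply, h3, map_mul, MulAut.conj_apply, MulAut.conj_apply, ← hzb.comm, mul_inv_cancel_right,
          hab', ← mul_assoc, hza.aa, one_mul])
      refine ⟨b⁻¹ * u, ?_⟩
      rw [map_mul, ← hu, map_inv, inv_mul_cancel_left]
  have h3 : (u : H)⁻¹ * x ∈ Subgroup.centralizer (L : Set H) := by
    rw [Subgroup.mem_centralizer_iff]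
    intro l hl
    have h4 := congrArg (fun β : MulAut L => ((β ⟨l, hl⟩ : L) : H)) hu
    simp only [hα, MulAut.conjNormal_apply, MulAut.conj_apply, Subgroup.coe_mul, Subgroup.coe_inv] at h4
    -- `x l x⁻¹ = u l u⁻¹`
    have h5 : x * l = (u : H) * l * (u : H)⁻¹ * x := by rw [← h4]; group
    calc l * ((u : H)⁻¹ * x) = (u : H)⁻¹ * ((u : H) * l * (u : H)⁻¹ * x) := by group
      _ = (u : H)⁻¹ * (x * l) := by rw [h5]
      _ = (u : H)⁻¹ * x * l := by group
  rw [hC, Subgroup.mem_bot] at h3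
  have h4 : x = u := by
    have := congrArg (fun t => (u : H) * t) h3
    simpa using this
  rw [h4]
  exact u.2

variable {V : Type*} [CommGroup V] [Finite V] (ρ : H →* MulAut V)

theorem index_le {x : H} {A : Subgroup H} (hx : x ∈ A) : (fx ρ x).index ≤ (CS ρ A).index :=
  index_le_of_le (CS_le_fx hx)

/-- some involution of `L` has at most four nontrivial commutators -/
theorem exists_involution (h : Facts L) (hC : Subgroup.centralizer (L : Set H) = ⊥) (S : Sylow 2 H)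
    {A : Subgroup H} (hA2 : ∀ a ∈ A, a * a = 1) (hAS : A ≤ S) (hA1 : A ≠ ⊥) (hi : (CS ρ A).index ≤ Nat.card A) :
    ∃ u : L, u ≠ 1 ∧ u * u = 1 ∧ (fx ρ (u : H)).index ≤ 4 := by
  obtain ⟨T, hT⟩ := exists_sylow S hL
  -- a four-group in `T`
  obtain ⟨C, hC4, hCT⟩ : ∃ C : Subgroup L, IsFour C ∧ C ≤ T := by
    obtain ⟨a, b, hab⟩ := h.l32.four
    have h1 : IsPGroup 2 hab.sub := IsPGroup.of_card (n := 2) (by rw [card_sub]; norm_num)
    obtain ⟨P, hP⟩ := h1.exists_le_sylow
    obtain ⟨g, hg⟩ := MulAction.exists_smul_eq L P T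
    refine ⟨hab.sub.map (MulAut.conj g).toMonoidHom, isFour_map _ (isFour_sub hab), ?_⟩
    · rintro _ ⟨c, hc, rfl⟩
      rw [← hg]
      exact ⟨c, hP hc, rfl⟩
  obtain ⟨z, a, b, hza, hzb, hCeq, hBT, hab, hne, hsup, honly, -⟩ := exists_other h.l32 T hC4 hCT
  rw [hCeq] at hne hsup honly hCT
  have hin := fun {x : H} => mem_of_four h hC S T hT hza hzb hBT hCT hab hne honly (x := x)
  -- `z` is central in `T`
  have hzT : ∀ t ∈ T, z * t = t * z := by
    have h1 : (T : Subgroup L) ≤ Subgroup.centralizer {z} := by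
      rw [← hsup]
      refine sup_le ?_ ?_
      · rintro c (rfl | rfl | rfl | rfl)
        · exact one_mem _
        · exact Subgroup.mem_centralizer_singleton_iff.2 rfl
        · exact Subgroup.mem_centralizer_singleton_iff.2 hza.comm.symm
        · refine Subgroup.mem_centralizer_singleton_iff.2 ?_
          rw [mul_assoc, ← hza.comm]
      · rintro c (rfl | rfl | rfl | rfl)
        · exact one_mem _
        · exact Subgroup.mem_centralizer_singleton_iff.2 rfl
        · exact Subgroup.mem_centralizer_singleton_iff.2 hzb.comm.symm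
        · refine Subgroup.mem_centralizer_singleton_iff.2 ?_
          rw [mul_assoc, ← hzb.comm]
    intro t ht
    exact (Subgroup.mem_centralizer_singleton_iff.1 (h1 ht)).symm
  have haB : a ∉ hzb.sub := by
    intro haB
    apply hne
    apply (isFour_sub hza).eq_of_le (isFour_sub hzb)
    rintro c (rfl | rfl | rfl | rfl)
    · exact one_mem _
    · exact Or.inr (Or.inl rfl)
    · exact haB
    · exact mul_mem (Or.inr (Or.inl rfl)) haB
  have hinter : ∀ c ∈ hza.sub, c ∈ hzb.sub → c = 1 ∨ c = z := by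
    rintro c (rfl | rfl | rfl | rfl) hc
    · exact Or.inl rfl
    · exact Or.inr rfl
    · exact absurd hc haB
    · have h4 := mul_mem (inv_mem (Or.inr (Or.inl rfl) : z ∈ hzb.sub)) hc
      rw [inv_mul_cancel_left] at h4
      exact absurd h4 haB
  by_cases hcase : ∀ x ∈ A, ∀ c ∈ hza.sub, MulAut.conjNormal x c ∈ hza.sub
  · -- `A ≤ L`
    have hAL : A ≤ L := fun x hx => hin (hAS hx) (hcase x hx)
    have h4 : Nat.card (A.subgroupOf L) ≤ 4 :=
      FFThree.card_le_four h.l32 fun x hx => Subtype.ext (hA2 _ (Subgroup.mem_subgroupOf.1 hx))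
    rw [Nat.card_congr (Subgroup.subgroupOfEquivOfLe hAL).toEquiv] at h4
    obtain ⟨⟨u, hu⟩, hu1⟩ := Subgroup.ne_bot_iff_exists_ne_one.1 hA1
    refine ⟨⟨u, hAL hu⟩, fun h1 => hu1 (Subtype.ext ?_), Subtype.ext (hA2 u hu),
      (index_le ρ hu).trans (hi.trans h4)⟩
    exact congrArg (fun t : L => (t : H)) h1
  · push Not at hcase
    obtain ⟨x, hx, c, hc, hcx⟩ := hcase
    set α : MulAut L := MulAut.conjNormal x with hα
    have hαT : ∀ y ∈ S, ∀ t ∈ T, MulAut.conjNormal y t ∈ T := by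
      intro y hy t ht
      have h1 : t ∈ (S : Subgroup H).subgroupOf L := hT ▸ ht
      show _ ∈ (T : Subgroup L)
      rw [hT, Subgroup.mem_subgroupOf]
      rw [MulAut.conjNormal_apply]
      exact mul_mem (mul_mem hy (Subgroup.mem_subgroupOf.1 h1)) (inv_mem hy)
    -- an element of `S` which does not normalise `hza.sub` maps it to `hzb.sub`
    have hsw : ∀ y ∈ S, (∃ c ∈ hza.sub, MulAut.conjNormal y c ∉ hza.sub) →
        ∀ c ∈ hza.sub, MulAut.conjNormal y c ∈ hzb.sub := by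
      rintro y hy ⟨c, hc, hcy⟩ d hd
      set β : MulAut L := MulAut.conjNormal y with hβ
      have h1 : IsFour (hza.sub.map β.toMonoidHom) := isFour_map β (isFour_sub hza)
      have h2 : hza.sub.map β.toMonoidHom ≤ T := by
        rintro _ ⟨e, he, rfl⟩
        exact hαT y hy e (hCT he)
      rcases honly _ h1 h2 with h3 | h3
      · exfalso
        apply hcy
        rw [← h3]
        exact ⟨c, hc, rfl⟩
      · rw [← h3]
        exact ⟨d, hd, rfl⟩
    have hx2 : ∀ d : L, α (α d) = d := by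
      intro d
      rw [hα, ← MulAut.mul_apply, ← map_mul, hA2 x hx, map_one]
      rfl
    -- `x` maps `hzb.sub` to `hza.sub`
    have hswx := hsw x (hAS hx) ⟨c, hc, hcx⟩
    have hxb : ∀ d ∈ hzb.sub, α d ∈ hza.sub := by
      intro d hd
      have h1 : hza.sub.map α.toMonoidHom = hzb.sub := by
        have h1 : IsFour (hza.sub.map α.toMonoidHom) := isFour_map α (isFour_sub hza)
        apply h1.eq_of_le (isFour_sub hzb)
        rintro _ ⟨e, he, rfl⟩
        exact hswx e he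
      rw [← h1] at hd
      obtain ⟨e, he, rfl⟩ := hd
      have h2 : α (α e) = e := hx2 e
      show α (α e) ∈ _
      rw [h2]
      exact he
    -- `A ∩ L ≤ ⟨z⟩`
    have hAL : ∀ y ∈ A, y ∈ L → y = 1 ∨ y = z := by
      intro y hy hyL
      by_cases hy1 : y = 1
      · exact Or.inl hy1
      by_cases hyz : y = z
      · exact Or.inr hyz
      exfalso
      set y' : L := ⟨y, hyL⟩ with hy'
      have hyT : y' ∈ (T : Subgroup L) := by
        rw [hT, Subgroup.mem_subgroupOf]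
        exact hAS hy
      have hf : Four z y' := ⟨hza.aa, Subtype.ext (hA2 y hy), hza.a1, fun h1 => hy1 (congrArg Subtype.val h1),
        fun h1 => hyz (congrArg Subtype.val h1).symm, hzT y' hyT⟩
      have hfT : hf.sub ≤ T := by
        rintro d (rfl | rfl | rfl | rfl)
        · exact one_mem _
        · exact hCT (Or.inr (Or.inl rfl))
        · exact hyT
        · exact mul_mem (hCT (Or.inr (Or.inl rfl))) hyT
      have hαy : α y' = y' := by
        apply Subtype.ext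
        rw [hα, MulAut.conjNormal_apply]
        show x * y * x⁻¹ = y
        have h1 := comm_of_sq hA2 hx hy
        rw [h1, mul_inv_cancel_right]
      have hmem : y' ∈ hf.sub := Or.inr (Or.inr (Or.inl rfl))
      have h2 : y' ∈ hza.sub ∧ y' ∈ hzb.sub := by
        rcases honly _ (isFour_sub hf) hfT with h1 | h1
        · rw [h1] at hmem
          refine ⟨hmem, ?_⟩
          rw [← hαy]
          exact hswx _ hmem
        · rw [h1] at hmem
          refine ⟨?_, hmem⟩
          rw [← hαy]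
          exact hxb _ hmem
      rcases hinter y' h2.1 h2.2 with h1 | h1
      · exact hy1 (congrArg Subtype.val h1)
      · exact hyz (congrArg Subtype.val h1)
    have hcov : ∀ y ∈ A, y ∈ L ∨ x * y ∈ L := by
      intro y hy
      by_cases h1 : ∀ c ∈ hza.sub, MulAut.conjNormal y c ∈ hza.sub
      · exact Or.inl (hin (hAS hy) h1)
      · right
        push Not at h1
        have h2 := hsw y (hAS hy) h1
        apply hin (mul_mem (hAS hx) (hAS hy))
        intro c hc
        rw [map_mul, MulAut.mul_apply]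
        exact hxb _ (h2 c hc)
    have hlist : ∀ y ∈ A, y = 1 ∨ y = z ∨ y = x ∨ y = x * z := by
      intro y hy
      rcases hcov y hy with h1 | h1
      · rcases hAL y hy h1 with h2 | h2
        · exact Or.inl h2
        · exact Or.inr (Or.inl h2)
      · have e : y = x * (x * y) := by rw [← mul_assoc, hA2 x hx, one_mul]
        rcases hAL _ (mul_mem hx hy) h1 with h2 | h2
        · rw [h2, mul_one] at e
          exact Or.inr (Or.inr (Or.inl e))
        · rw [h2] at e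
          exact Or.inr (Or.inr (Or.inr e))
    by_cases hzA : (z : H) ∈ A
    · refine ⟨z, hza.a1, hza.aa, (index_le ρ hzA).trans (hi.trans ?_)⟩
      by_contra hcon
      push Not at hcon
      obtain ⟨y, hy, h1, h2, h3, h4⟩ := JInner.exists_notin A hcon 1 z x (x * z)
      rcases hlist y hy with h5 | h5 | h5 | h5
      · exact h1 h5
      · exact h2 h5
      · exact h3 h5
      · exact h4 h5
    · have hA2' : Nat.card A ≤ 2 := by
        apply FFPsl.card_le_two_of (a := x)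
        intro y hy
        rcases hlist y hy with h5 | h5 | h5 | h5
        · exact Or.inl h5
        · rw [h5] at hy
          exact absurd hy hzA
        · exact Or.inr h5
        · exfalso
          rw [h5] at hy
          have h6 := mul_mem (inv_mem hx) hy
          rw [inv_mul_cancel_left] at h6
          exact hzA h6
      have hix : (fx ρ x).index ≤ 2 := (index_le ρ hx).trans (hi.trans hA2')
      -- the commutator `[x, a]`
      have haA : a ∈ hza.sub := Or.inr (Or.inr (Or.inl rfl))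
      set d : L := α a * a⁻¹ with hd
      have hdT : d ∈ (T : Subgroup L) := mul_mem (hαT x (hAS hx) a (hCT haA)) (inv_mem (hCT haA))
      have hd1 : d ≠ 1 := by
        intro h1
        rw [hd, mul_inv_eq_one] at h1
        apply haB
        rw [← h1]
        exact hswx a haA
      have hdH : (d : H) = x * ((a : H) * x * (a : H)⁻¹) := by
        rw [hd, Subgroup.coe_mul, hα, MulAut.conjNormal_apply, Subgroup.coe_inv]
        have hxi : x⁻¹ = x := inv_eq_of_mul_eq_one_left (hA2 x hx)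
        rw [hxi]
        group
      have hdi : (fx ρ (d : H)).index ≤ 4 := by
        have h1 : fx ρ x ⊓ fx ρ ((a : H) * x * (a : H)⁻¹) ≤ fx ρ (d : H) := by
          intro v hv
          rw [hdH]
          exact fx_mul ρ hv.1 hv.2
        refine (index_le_of_le h1).trans (Subgroup.index_inf_le.trans ?_)
        rw [index_fx_conj]
        calc _ ≤ 2 * 2 := Nat.mul_le_mul hix hix
          _ = 4 := by norm_num
      -- a power of `d` is an involution
      obtain ⟨k, hk⟩ := T.isPGroup' ⟨d, hdT⟩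
      have hk' : d ^ 2 ^ k = 1 := congrArg Subtype.val hk
      have hex : ∃ k, d ^ 2 ^ k = 1 := ⟨k, hk'⟩
      classical
      have h1 := Nat.find_spec hex
      have h2 : Nat.find hex ≠ 0 := by
        intro h3
        rw [h3, pow_zero, pow_one] at h1
        exact hd1 h1
      obtain ⟨m, hm⟩ := Nat.exists_eq_succ_of_ne_zero h2
      have h3 : d ^ 2 ^ m ≠ 1 := Nat.find_min hex (by omega)
      refine ⟨d ^ 2 ^ m, h3, ?_, ?_⟩
      · rw [hm, Nat.succ_eq_add_one, pow_succ, pow_mul, pow_two] at h1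
        exact h1
      · refine (index_le_of_le ?_).trans hdi
        intro v hv
        rw [Subgroup.coe_pow]
        exact fx_pow ρ hv _

end main

/-- **(6.6), the end.** -/
theorem card_le_four {H V : Type*} [Group H] [Finite H] [CommGroup V] [Finite V] (_hV : ∀ v : V, v * v = 1)
    (ρ : H →* MulAut V) {L : Subgroup H} (hL : L.Normal) (hs : IsSimpleGroup L) (hc : Nat.card L = 168)
    (hC : Subgroup.centralizer (L : Set H) = ⊥) (S : Sylow 2 H) {F : Subgroup V} (hF : F ≤ CS ρ S)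
    (hF1 : F ⊓ CS ρ L = ⊥) {A : Subgroup H} (hA2 : ∀ a ∈ A, a * a = 1) (hAS : A ≤ S) (hA1 : A ≠ ⊥)
    (hi : (CS ρ A).index ≤ Nat.card A) : Nat.card F ≤ 4 := by
  have h := facts hs hc
  obtain ⟨u, hu1, hu, hi4⟩ := exists_involution ρ h hC S hA2 hAS hA1 hi
  obtain ⟨T, hT⟩ := exists_sylow S hL
  obtain ⟨s, hs', w, hw1, hw, hgen⟩ := h.exists_conj T
  obtain ⟨g, hg⟩ := h.l32.conj u w hu1 hu hw1 hw
  have hiw : (fx ρ (w : H)).index ≤ 4 := by
    rw [← hg, Subgroup.coe_mul, Subgroup.coe_mul, Subgroup.coe_inv, index_fx_conj]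
    exact hi4
  have h1 : F ⊓ fx ρ (w : H) = ⊥ := by
    rw [eq_bot_iff, ← hF1]
    refine le_inf inf_le_left ?_
    rintro v ⟨hv, hvw⟩
    have h2 : (⊤ : Subgroup L) ≤ (stabV ρ v).subgroupOf L := by
      rw [← hgen, Subgroup.closure_le]
      rintro x (rfl | rfl)
      · refine hF hv _ ?_
        have h3 : x ∈ (T : Subgroup L) := hs'
        rw [hT] at h3
        exact h3
      · exact hvw
    intro b hb
    exact h2 (Subgroup.mem_top ⟨b, hb⟩)
  have h2 : (fx ρ (w : H)).relIndex F = Nat.card F := by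
    rw [← Subgroup.inf_relIndex_left, h1, Subgroup.relIndex_bot_left]
  rw [← h2]
  refine le_trans ?_ hiw
  exact Nat.le_of_dvd (Nat.pos_of_ne_zero Subgroup.index_ne_zero_of_finite) (Subgroup.relIndex_dvd_index_of_normal _ _)

end Cfsg.Agent.OddCyclic.Emp3.End168
end

-- part: OddCyclic/KZJOne
section
set_option linter.all false
open scoped Cfsg.Agent.FastGrp

/-!
# `J₁`: commuting elements of odd prime orders `r < s` have `r = 3`, `s = 5`
-/

set_option autoImplicit false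

namespace Cfsg.Agent.OddCyclic.KZJOne

open Subgroup Cfsg.Agent.SporRec.J1.Defs

variable {B : Type*} [Group B] [Finite B]

theorem card_eq (h : Local B) {k : B} (hk : orderOf k = 2) : Nat.card B = 175560 := by
  obtain ⟨e⟩ := SporRec.J1.Main.iso_of_local h k hk
  rw [Nat.card_congr e.toEquiv]
  exact SporRec.J1.Words.card_J1

end Cfsg.Agent.OddCyclic.KZJOne
end

-- part: OddCyclic/CompSzR_mg
section
prune_inst 0x2010000100000000000000000000000000000000008000004000000000000000000000080000001800000000040020060020100000000000000000000001000020000090080000000000000000000000000000000000000000000000000000000000000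
set_option linter.all false
open scoped Cfsg.Agent.FastGrp

-- part: OddCyclic/CompSzDefs
section
/-!
# S0342, component type, case E: `K ≅ Sz(q)`, `C(K)` with noncyclic Sylow 2-subgroups: the situation
-/

set_option autoImplicit false

namespace Cfsg.Agent.OddCyclic.CompSzDefs

open Subgroup
open Cfsg.Agent.LieExceptional.CITDefs
open Cfsg.Agent.OddCyclic.CompStandard Cfsg.Agent.OddCyclic.CaseESz

/-- The situation of case E with noncyclic `R ∈ Syl₂(C(K))`: `K ≅ Sz(q)`, `Q ∈ Syl₂(K)`, `E = Z(Q)`, `H` a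
complement of `Q` in `N_K(Q)`, `S = RQ ∈ Syl₂(N(K))`. -/
structure Sit {G : Type*} [Group G] (p : ℕ) (K R Q E H S : Subgroup G) (q : ℕ) : Prop where
  std : Std p K
  sz : SzK K q
  szb : SzB K Q E H q
  sylQ : IsSyl2 K Q
  sylR : IsSyl2 (centralizer (K : Set G)) R
  sylS : IsSyl2 (normalizer (K : Set G)) S
  mem_S : ∀ x : G, x ∈ S ↔ ∃ r ∈ R, ∃ k ∈ Q, x = r * k
  elemR : ∀ r ∈ R, r * r = 1
  four : 4 ≤ Nat.card R
  move : ∃ n : G, (∀ s ∈ S, n * s * n⁻¹ ∈ S) ∧ n ∉ normalizer (K : Set G)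

end Cfsg.Agent.OddCyclic.CompSzDefs
end

-- part: OddCyclic/CompSzR
section
/-!
# S0342, component type, case E: [E-R]

`K ≅ Sz(q)`; `g ∉ M = N(K)`, `Y = C(K)`, `Y^g ∩ M` of even order. Then a Sylow 2-subgroup `R` of `Y` is
elementary abelian and some `n ∉ M` normalizes a Sylow 2-subgroup `S = R × Q` of `M`.
-/

set_option autoImplicit false

namespace Cfsg.Agent.OddCyclic.CompSzR

open Subgroup
open Cfsg.Agent.LieExceptional Cfsg.Agent.LieExceptional.CITDefs
open Cfsg.Agent.LieExceptional.CITBasic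
open Cfsg.Agent.OddCyclic.T1Tools
open Cfsg.Agent.OddCyclic.CompBasic Cfsg.Agent.OddCyclic.CompStandard
open Cfsg.Agent.OddCyclic.CaseABase Cfsg.Agent.OddCyclic.CaseESz
open Cfsg.Agent.OddCyclic.CompSzDefs

variable {G : Type*} [Group G] [Finite G] {p : ℕ} {K : Subgroup G} {q : ℕ} {g : G}

omit [Finite G] in
theorem even_q (hL : SzK K q) : Even q := by
  obtain ⟨m, hm, rfl⟩ := hL.pow
  exact (Nat.even_pow.mpr ⟨even_two, by omega⟩)

omit [Finite G] in
theorem odd_card_H (hL : SzK K q) : Odd (q - 1) := by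
  have h4 := hL.eight
  obtain ⟨m, hm⟩ := even_q hL
  exact ⟨m - 1, by omega⟩

omit [Finite G] in
theorem H_inf {Q E H : Subgroup G} (hB : SzB K Q E H q)
    {h : G} (hh : h ∈ H) (he : h ∈ Q) : h = 1 := by
  rcases hB.fpf h hh h he rfl with h1 | h1 <;> exact h1

omit [Finite G] in
/-- commutators of elements of `Q` lie in `E` -/
theorem comm_mem {Q E H : Subgroup G} (hB : SzB K Q E H q) {u v : G} (hu : u ∈ Q) (hv : v ∈ Q) :
    u * v * u⁻¹ * v⁻¹ ∈ E := by
  rw [← hB.comm]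
  exact Subgroup.commutator_mem_commutator hu hv

omit [Finite G] in
/-- the commutator with `k` is a homomorphism -/
theorem comm_mul {Q E H : Subgroup G} (hB : SzB K Q E H q) {u v k : G} (hu : u ∈ Q) (hv : v ∈ Q)
    (hk : k ∈ Q) : (u * v) * k * (u * v)⁻¹ * k⁻¹ =
      (u * k * u⁻¹ * k⁻¹) * (v * k * v⁻¹ * k⁻¹) := by
  have h1 := hB.central _ (comm_mem hB hv hk) u hu
  calc (u * v) * k * (u * v)⁻¹ * k⁻¹ = u * (v * k * v⁻¹ * k⁻¹) * (k * u⁻¹ * k⁻¹) := by group
    _ = (v * k * v⁻¹ * k⁻¹) * u * (k * u⁻¹ * k⁻¹) := by rw [h1]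
    _ = (v * k * v⁻¹ * k⁻¹) * (u * k * u⁻¹ * k⁻¹) := by group
    _ = (u * k * u⁻¹ * k⁻¹) * (v * k * v⁻¹ * k⁻¹) := by
        rw [hB.central _ (comm_mem hB hv hk) _ (hB.leZ.trans le_rfl (comm_mem hB hu hk))]

/-- the commutator map -/
def cmap {Q E H : Subgroup G} (hB : SzB K Q E H q) {k : G} (hk : k ∈ Q) : Q →* G where
  toFun u := (u : G) * k * (u : G)⁻¹ * k⁻¹
  map_one' := by simp
  map_mul' u v := comm_mul hB u.2 v.2 hk

/-- In `Q` the commutators with a noncentral element do not lie in a group of order `≤ 2`. -/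
theorem exists_comm_notMem {Q E H : Subgroup G} (hB : SzB K Q E H q) (h8 : 8 ≤ q) {k : G}
    (hk : k ∈ Q) (hkE : k ∉ E) {E0 : Subgroup G} (h0 : Nat.card E0 ≤ 2) :
    ∃ u ∈ Q, u * k * u⁻¹ * k⁻¹ ∉ E0 := by
  by_contra hno
  push Not at hno
  -- a second element not commuting with `k`
  obtain ⟨v, hv, hvk⟩ : ∃ v ∈ Q, v * k ≠ k * v := by
    by_contra hc
    push Not at hc
    -- all elements are central
    have hall : ∀ x ∈ Q, ∀ u ∈ Q, u * x = x * u := by
      intro x hx u hu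
      by_cases hxE : x ∈ E
      · exact (hB.central x hxE u hu).symm
      · obtain ⟨h, hh, z, hz, hhz⟩ := hB.trans' k hk x hx hkE hxE
        have h1 : x = h * k * h⁻¹ * z⁻¹ := by rw [hhz]; group
        have h2 : (h⁻¹ * u * h) * k = k * (h⁻¹ * u * h) := by
          refine hc _ ?_
          have := hB.norm h⁻¹ (H.inv_mem hh) u hu
          rwa [inv_inv] at this
        have h3 : u * (h * k * h⁻¹) = (h * k * h⁻¹) * u := by
          calc u * (h * k * h⁻¹) = h * ((h⁻¹ * u * h) * k) * h⁻¹ := by group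
            _ = h * (k * (h⁻¹ * u * h)) * h⁻¹ := by rw [h2]
            _ = (h * k * h⁻¹) * u := by group
        have h4 : z⁻¹ * u = u * z⁻¹ := hB.central _ (E.inv_mem hz) u hu
        rw [h1]
        calc u * (h * k * h⁻¹ * z⁻¹) = (u * (h * k * h⁻¹)) * z⁻¹ := by group
          _ = (h * k * h⁻¹) * (u * z⁻¹) := by rw [h3]; group
          _ = (h * k * h⁻¹ * z⁻¹) * u := by rw [← h4]; group
    have h5 : ⁅Q, Q⁆ = ⊥ := by
      rw [commutator_eq_bot_iff_le_centralizer]
      intro x hx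
      rw [mem_centralizer_iff]
      intro u hu
      exact hall x hx u hu
    rw [hB.comm] at h5
    have h6 := hB.cardZ
    rw [h5, Subgroup.card_bot] at h6
    omega
  have hvE : v ∉ E := fun h => hvk (hB.central v h k hk)
  -- the commutators with `v` also lie in a group of order `≤ 2`
  obtain ⟨h, hh, z, hz, hhz⟩ := hB.trans' k hk v hv hkE hvE
  have hv' : ∀ u ∈ Q, u * v * u⁻¹ * v⁻¹ ∈ cj h E0 := by
    intro u hu
    rw [mem_cj]
    have h1 : v = h * k * h⁻¹ * z⁻¹ := by rw [hhz]; group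
    have h2 := hno (h⁻¹ * u * h) (by
      have := hB.norm h⁻¹ (H.inv_mem hh) u hu
      rwa [inv_inv] at this)
    have h4 : z⁻¹ * u⁻¹ = u⁻¹ * z⁻¹ := hB.central _ (E.inv_mem hz) _ (Q.inv_mem hu)
    have e : h⁻¹ * (u * v * u⁻¹ * v⁻¹) * h =
        h⁻¹ * u * h * k * (h⁻¹ * u * h)⁻¹ * k⁻¹ := by
      rw [h1]
      calc h⁻¹ * (u * (h * k * h⁻¹ * z⁻¹) * u⁻¹ * (h * k * h⁻¹ * z⁻¹)⁻¹) * h
          = h⁻¹ * u * h * k * h⁻¹ * (z⁻¹ * u⁻¹) * z * h * k⁻¹ := by group
        _ = h⁻¹ * u * h * k * h⁻¹ * (u⁻¹ * z⁻¹) * z * h * k⁻¹ := by rw [h4]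
        _ = h⁻¹ * u * h * k * (h⁻¹ * u * h)⁻¹ * k⁻¹ := by group
    rw [e]; exact h2
  -- the map to the product
  let φ : Q →* G × G := (cmap hB hk).prod (cmap hB hv)
  have hker : Nat.card φ.ker ≤ Nat.card E := by
    refine Nat.card_le_card_of_injective (fun y : φ.ker => (⟨((y : Q) : G), ?_⟩ : E)) ?_
    · by_contra hy
      have h1 : ((y : Q) : G) * k * ((y : Q) : G)⁻¹ * k⁻¹ = 1 :=
        congrArg Prod.fst (MonoidHom.mem_ker.mp y.2)
      have h2 : ((y : Q) : G) * v * ((y : Q) : G)⁻¹ * v⁻¹ = 1 :=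
        congrArg Prod.snd (MonoidHom.mem_ker.mp y.2)
      have h3 : ((y : Q) : G) * k = k * (y : Q) := mul_inv_eq_iff_eq_mul.mp (mul_inv_eq_one.mp h1)
      have h4 : ((y : Q) : G) * v = v * (y : Q) := mul_inv_eq_iff_eq_mul.mp (mul_inv_eq_one.mp h2)
      exact hvk (hB.abel _ (y : Q).2 hy v hv k hk h4.symm h3.symm)
    · intro y y' hyy
      have h1 : ((y : Q) : G) = ((y' : Q) : G) := (congrArg (fun w : E => (w : G)) hyy :)
      exact Subtype.ext (Subtype.ext h1)
  have hran : Nat.card φ.range ≤ 4 := by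
    have h1 : φ.range ≤ (E0.prod (cj h E0)) := by
      rintro _ ⟨u, rfl⟩
      exact ⟨hno u u.2, hv' u u.2⟩
    refine (Subgroup.card_le_of_le h1).trans ?_
    rw [Nat.card_congr (Subgroup.prodEquiv E0 (cj h E0)).toEquiv, Nat.card_prod, card_cj]
    nlinarith only [h0]
  have hc : Nat.card Q = Nat.card φ.range * Nat.card φ.ker := by
    have h2 := Subgroup.card_eq_card_quotient_mul_card_subgroup φ.ker
    rw [h2, Nat.card_congr (QuotientGroup.quotientKerEquivRange φ).toEquiv]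
  rw [hB.cardZ] at hker
  rw [hB.cardQ] at hc
  have h9 : q ^ 2 ≤ 4 * q := by rw [hc]; exact Nat.mul_le_mul hran hker
  nlinarith only [h8, h9]

/-- The centralizer in `K` of an involution is a Sylow 2-subgroup. -/
theorem exists_sylow (hL : SzK K q) {k : G} (hk : k ∈ K) (hk2 : orderOf k = 2) :
    ∃ Q E H : Subgroup G, IsSyl2 K Q ∧ SzB K Q E H q ∧ k ∈ E ∧
      ∀ x ∈ K, x * k = k * x ↔ x ∈ Q := by
  obtain ⟨Q, hQ, hkQ⟩ := exists_isSyl2 K (zpowers k) (zpowers_le.mpr hk) (isPGroup_zpowers hk2)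
  obtain ⟨E, H, hB⟩ := hL.borel Q hQ
  have hkQ' : k ∈ Q := hkQ (mem_zpowers k)
  have hkE : k ∈ E := (hB.mem_Z k hkQ').mpr (sq_of_orderOf hk2)
  refine ⟨Q, E, H, hQ, hB, hkE, fun x hx => ⟨fun h => ?_, fun h => ?_⟩⟩
  · exact hB.cent k hkQ' (ne_one_of_orderOf hk2) x hx h
  · exact (hB.central k hkE x h).symm

/-- (c) For an involution `a` of `Y^g ∩ M`: `Q = C_K(a)` is a Sylow 2-subgroup of `K` and
`K ∩ M^g = Q`. -/
theorem exists_Q (h : Std p K) (hL : SzK K q) (hg : g ∉ normalizer (K : Set G)) {a : G}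
    (haY : a ∈ cj g (centralizer (K : Set G))) (haM : a ∈ normalizer (K : Set G))
    (ha2 : orderOf a = 2) :
    ∃ Q E H : Subgroup G, IsSyl2 K Q ∧ SzB K Q E H q ∧
      K ⊓ cj g (normalizer (K : Set G)) = Q := by
  have haK : a ∈ K ⊔ centralizer (K : Set G) :=
    hL.inner a haM ⟨1, by rw [pow_one, pow_two]; exact sq_of_orderOf ha2⟩
  obtain ⟨k, hk, y, hy, rfl⟩ := mem_KY.mp haK
  have h1 : (k * y) ^ 2 = 1 := by rw [← ha2, pow_orderOf_eq_one]
  obtain ⟨hk2, hy2⟩ := pow_eq_one_KY hL.inf hk hy h1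
  have hk1 : k ≠ 1 := by
    rintro rfl
    rw [one_mul] at haY ha2
    exact hg (h.mem_of_involution ha2 hy haY)
  have hko : orderOf k = 2 := orderOf_eq_prime hk2 hk1
  obtain ⟨Q, E, H, hQ, hB, hkE, hcent⟩ := exists_sylow hL hk hko
  have hca : ∀ x ∈ K, x * (k * y) = (k * y) * x ↔ x ∈ Q := by
    intro x hx
    rw [← hcent x hx]
    have hxy : x * y = y * x := comm_KY x hx y hy
    constructor
    · intro h2
      have : x * k * y = k * x * y := by
        calc x * k * y = x * (k * y) := by group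
          _ = k * y * x := h2
          _ = k * (y * x) := by group
          _ = k * (x * y) := by rw [hxy]
          _ = k * x * y := by group
      exact mul_right_cancel this
    · intro h2
      calc x * (k * y) = (x * k) * y := by group
        _ = k * x * y := by rw [h2]
        _ = k * (x * y) := by group
        _ = k * (y * x) := by rw [hxy]
        _ = k * y * x := by group
  have hQle : Q ≤ cj g (normalizer (K : Set G)) := by
    intro e he
    refine h.centralizer_le_cj ha2 haY ?_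
    rw [mem_centralizer_singleton_iff]
    exact (hca e (hQ.le he)).mpr he
  have h2g : IsPGroup 2 (K ⊓ cj g (normalizer (K : Set G)) : Subgroup G) := by
    refine isPGroup_two_of_forall fun r hr hr2 x hx hxr => ?_
    have hrK : r ∣ Nat.card K := by rw [← hxr]; exact K.orderOf_dvd_natCard hx.1
    have h3 := h.commute_of_dvd g hr hr2 hrK hx.2 hxr haY
    have h4 : x ∈ Q := (hca x hx.1).mp h3
    obtain ⟨n, hn⟩ := mem_of_pow_two hQ.two h4
    have h6 : r ∣ 2 ^ n := by
      rw [← hxr]; exact orderOf_dvd_of_pow_eq_one hn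
    exact hr2 ((Nat.prime_dvd_prime_iff_eq hr Nat.prime_two).mp (hr.dvd_of_dvd_pow h6))
  refine ⟨Q, E, H, hQ, hB, ?_⟩
  exact hQ.max _ inf_le_left h2g (le_inf hQ.le hQle)

/-- The situation of (c). -/
structure Pre (p : ℕ) (K : Subgroup G) (q : ℕ) (g : G) (S P Q E H : Subgroup G) : Prop where
  std : Std p K
  sz : SzK K q
  hg : g ∉ normalizer (K : Set G)
  pair : PairAt K g S P
  sylQ : IsSyl2 K Q
  bor : SzB K Q E H q
  inf : K ⊓ cj g (normalizer (K : Set G)) = Q
  neA : P ⊓ cj g (centralizer (K : Set G)) ≠ ⊥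

variable {S P Q E H : Subgroup G}

omit [Finite G] in
theorem Pre.normQ (s : Pre p K q g S P Q E H) {d : G} (hd : d ∈ normalizer (K : Set G))
    (hd' : d ∈ cj g (normalizer (K : Set G))) {e : G} (he : e ∈ Q) : d * e * d⁻¹ ∈ Q := by
  have h1 : e ∈ K ⊓ cj g (normalizer (K : Set G)) := by rw [s.inf]; exact he
  have h2 : d * e * d⁻¹ ∈ K ⊓ cj g (normalizer (K : Set G)) := by
    refine Subgroup.mem_inf.mpr ⟨forall_of_mem_normalizer hd e h1.1, ?_⟩
    exact Subgroup.mul_mem _ (Subgroup.mul_mem _ hd' h1.2) (Subgroup.inv_mem _ hd')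
  rwa [s.inf] at h2

omit [Finite G] in
theorem Pre.Q_le_cj (s : Pre p K q g S P Q E H) : Q ≤ cj g (normalizer (K : Set G)) := by
  rw [← s.inf]; exact inf_le_right

theorem Pre.Q_le_P (s : Pre p K q g S P Q E H) : Q ≤ P :=
  le_isSyl2 s.pair.sylD (le_inf (s.sylQ.le.trans Subgroup.le_normalizer) s.Q_le_cj)
    s.sylQ.two
    (fun _ hs _ he => s.normQ (s.pair.sylD.le hs).1 (s.pair.sylD.le hs).2 he)

theorem Pre.H_fix (s : Pre p K q g S P Q E H) {h e : G} (hh : h ∈ H) (he : e ∈ E) (he1 : e ≠ 1)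
    (h1 : e ∈ cj g (centralizer (K : Set G)))
    (h2 : h * e * h⁻¹ ∈ cj g (centralizer (K : Set G))) : h = 1 := by
  have ho : orderOf e = 2 := orderOf_eq_two he1 ((s.bor.mem_Z e (s.bor.leZ he)).mp he)
  have h3 : e ∈ cj (h⁻¹ * g) (centralizer (K : Set G)) := by
    rw [mem_cj]
    have := mem_cj.mp h2
    have e1 : (h⁻¹ * g)⁻¹ * e * (h⁻¹ * g) = g⁻¹ * (h * e * h⁻¹) * g := by group
    rw [e1]; exact this
  have h4 := mem_of_cj s.std ho h3 h1
  have h5 : h ∈ cj g (normalizer (K : Set G)) := by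
    rw [mem_cj]
    have e1 : (h⁻¹ * g)⁻¹ * g = g⁻¹ * h * g := by group
    rwa [e1] at h4
  have h6 : h ∈ K ⊓ cj g (normalizer (K : Set G)) := ⟨s.bor.leH hh, h5⟩
  rw [s.inf] at h6
  exact H_inf s.bor hh h6

theorem Pre.card_E0 (s : Pre p K q g S P Q E H) :
    Nat.card (E ⊓ cj g (centralizer (K : Set G)) : Subgroup G) ≤ 2 := by
  by_contra hc
  push Not at hc
  obtain ⟨a, b, ha, hb, hab⟩ : ∃ a b : (E ⊓ cj g (centralizer (K : Set G)) : Subgroup G),
      a ≠ 1 ∧ b ≠ 1 ∧ a ≠ b := by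
    by_contra hno
    push Not at hno
    have h1 : Nat.card {x : (E ⊓ cj g (centralizer (K : Set G)) : Subgroup G) // x ≠ 1} ≤ 1 := by
      rw [Finite.card_le_one_iff_subsingleton]
      exact ⟨fun x y => Subtype.ext (hno x y x.2 y.2)⟩
    rw [card_ne_one] at h1
    omega
  have ha1 : (a : G) ≠ 1 := fun h => ha (Subtype.ext h)
  have hb1 : (b : G) ≠ 1 := fun h => hb (Subtype.ext h)
  obtain ⟨h, hh, hhb⟩ := s.bor.trans a a.2.1 b b.2.1 ha1 hb1
  have h1 := s.H_fix hh a.2.1 ha1 a.2.2 (by rw [hhb]; exact b.2.2)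
  subst h1
  apply hab
  apply Subtype.ext
  rw [← hhb]; group

theorem Pre.A_le (s : Pre p K q g S P Q E H) {x : G}
    (hx : x ∈ P ⊓ cj g (centralizer (K : Set G))) :
    ∃ y ∈ P ⊓ centralizer (K : Set G), ∃ e ∈ E, x = y * e := by
  have hxD := s.pair.sylD.le hx.1
  have hx2 := mem_of_pow_two s.pair.sylD.two hx.1
  obtain ⟨k, hk, y, hy, hxky⟩ := mem_KY.mp (s.sz.inner x hxD.1 hx2)
  have hky : k * y = y * k := comm_KY k hk y hy
  obtain ⟨n, hn2⟩ := hx2
  rw [hxky] at hn2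
  obtain ⟨hk2, -⟩ := pow_eq_one_KY s.sz.inf hk hy hn2
  have hkQ : k ∈ Q := by
    refine mem_isSyl2 s.sylQ hk ⟨n, hk2⟩ fun e he => ?_
    have h3 := s.normQ hxD.1 hxD.2 he
    have h4 : y * e = e * y := (comm_KY e (s.sylQ.le he) y hy).symm
    have e1 : x * e * x⁻¹ = k * e * k⁻¹ := by
      rw [hxky]
      calc k * y * e * (k * y)⁻¹ = k * (y * e) * y⁻¹ * k⁻¹ := by group
        _ = k * (e * y) * y⁻¹ * k⁻¹ := by rw [h4]
        _ = k * e * k⁻¹ := by group
    rwa [e1] at h3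
  have hyP : y ∈ P := by
    have h1 : y = k⁻¹ * x := by rw [hxky]; group
    rw [h1]
    exact P.mul_mem (P.inv_mem (s.Q_le_P hkQ)) hx.1
  refine ⟨y, ⟨hyP, hy⟩, k, ?_, by rw [hxky, hky]⟩
  by_contra hkE
  obtain ⟨u, hu, hu0⟩ := exists_comm_notMem s.bor s.sz.eight hkQ hkE s.card_E0
  apply hu0
  refine Subgroup.mem_inf.mpr ⟨comm_mem s.bor hu hkQ, ?_⟩
  have h1 := normal_cj_cent g K u (s.Q_le_cj hu) x hx.2
  have h2 := Subgroup.mul_mem _ h1 (Subgroup.inv_mem _ hx.2)
  have h4 : y * u⁻¹ = u⁻¹ * y := (comm_KY _ (K.inv_mem (s.sylQ.le hu)) y hy).symm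
  have e1 : u * x * u⁻¹ * x⁻¹ = u * k * u⁻¹ * k⁻¹ := by
    rw [hxky]
    calc u * (k * y) * u⁻¹ * (k * y)⁻¹ = u * k * (y * u⁻¹) * y⁻¹ * k⁻¹ := by group
      _ = u * k * (u⁻¹ * y) * y⁻¹ * k⁻¹ := by rw [h4]
      _ = u * k * u⁻¹ * k⁻¹ := by group
  rwa [e1] at h2

theorem Pre.A_inf (s : Pre p K q g S P Q E H) {x : G}
    (hx : x ∈ P ⊓ cj g (centralizer (K : Set G))) (hxY : x ∈ centralizer (K : Set G)) :
    x = 1 := by
  have h1 := s.std.inf_eq_bot s.hg
    (A := P ⊓ cj g (centralizer (K : Set G))) (s.pair.sylD.two.to_le inf_le_left) inf_le_right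
  have h2 : x ∈ P ⊓ cj g (centralizer (K : Set G)) ⊓ centralizer (K : Set G) := ⟨hx, hxY⟩
  rwa [h1, mem_bot] at h2

omit [Finite G] in
theorem Pre.sqE (s : Pre p K q g S P Q E H) {e : G} (he : e ∈ E) : e * e = 1 :=
  (s.bor.mem_Z e (s.bor.leZ he)).mp he

omit [Finite G] in
theorem Pre.leK (s : Pre p K q g S P Q E H) : E ≤ K := s.bor.leZ.trans s.bor.leQ

theorem Pre.A_elem (s : Pre p K q g S P Q E H) :
    Elem (P ⊓ cj g (centralizer (K : Set G)) : Subgroup G) := by
  intro x hx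
  obtain ⟨y, hy, e, he, hxy⟩ := s.A_le hx
  refine s.A_inf (Subgroup.mul_mem _ hx hx) ?_
  have h1 : e * y = y * e := comm_KY e (s.leK he) y hy.2
  have h2 : x * x = y * y := by
    rw [hxy]
    calc y * e * (y * e) = y * (e * y) * e := by group
      _ = y * (y * e) * e := by rw [h1]
      _ = y * y * (e * e) := by group
      _ = y * y := by rw [s.sqE he, mul_one]
  rw [h2]
  exact Subgroup.mul_mem _ hy.2 hy.2

omit [Finite G] in
theorem Pre.comm_A'E (s : Pre p K q g S P Q E H) :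
    ∀ a ∈ P ⊓ centralizer (K : Set G), ∀ e ∈ E, a * e = e * a :=
  fun a ha e he => (comm_KY e (s.leK he) a ha.2).symm

theorem Pre.A_le_V0 (s : Pre p K q g S P Q E H) :
    P ⊓ cj g (centralizer (K : Set G)) ≤ (P ⊓ centralizer (K : Set G)) ⊔ E := by
  intro x hx
  obtain ⟨y, hy, e, he, rfl⟩ := s.A_le hx
  exact Subgroup.mul_mem _ (mem_sup_left hy) (mem_sup_right he)

theorem Pre.card_V0 (s : Pre p K q g S P Q E H) :
    Nat.card ((P ⊓ centralizer (K : Set G)) ⊔ E : Subgroup G) =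
      Nat.card (P ⊓ centralizer (K : Set G) : Subgroup G) * q := by
  rw [card_sup_comm s.comm_A'E, s.bor.cardZ]
  rw [eq_bot_iff]
  intro x hx
  have h1 : x ∈ K ⊓ centralizer (K : Set G) := ⟨s.leK hx.2, hx.1.2⟩
  rwa [s.sz.inf] at h1

omit [Finite G] in
theorem Pre.normE (s : Pre p K q g S P Q E H) {h : G} (hh : h ∈ H) {e : G} (he : e ∈ E) :
    h * e * h⁻¹ ∈ E := by
  have h1 := s.bor.norm h hh e (s.bor.leZ he)
  rw [s.bor.mem_Z _ h1]
  calc h * e * h⁻¹ * (h * e * h⁻¹) = h * (e * e) * h⁻¹ := by group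
    _ = 1 := by rw [s.sqE he]; group

theorem Pre.eqR (s : Pre p K q g S P Q E H)
    (hle : Nat.card (P ⊓ centralizer (K : Set G) : Subgroup G) ≤
      Nat.card (P ⊓ cj g (centralizer (K : Set G)) : Subgroup G)) :
    P ⊓ centralizer (K : Set G) = S ⊓ centralizer (K : Set G) := by
  classical
  have hpf : Fact (Nat.Prime 2) := ⟨Nat.prime_two⟩
  by_contra hne
  set A := P ⊓ cj g (centralizer (K : Set G)) with hA
  set A' := P ⊓ centralizer (K : Set G) with hA'
  set R := S ⊓ centralizer (K : Set G) with hR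
  have hA'R : A' ≤ R := inf_le_inf_right _ s.pair.le
  have hR2 : IsPGroup 2 R := s.pair.sylM.two.to_le inf_le_left
  obtain ⟨x, hxn, hxR, hxA⟩ : ∃ x, x ∈ normalizer (A' : Set G) ∧ x ∈ R ∧ x ∉ A' := by
    by_contra hno
    push Not at hno
    exact hne (Cfsg.Agent.Blocks.SylowIn.eq_of_normalizer_inf_le (p := 2) hR2 hA'R
      (fun x hx => hno x hx.1 hx.2)).symm
  have hxn' : ∀ a ∈ A', x * a * x⁻¹ ∈ A' := forall_of_mem_normalizer hxn
  -- `x` commutes with `K`
  have hxK : ∀ k ∈ K, k * x = x * k := fun k hk => comm_KY k hk x hxR.2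
  -- `x ∉ M^g`
  have hxg : x ∉ cj g (normalizer (K : Set G)) := by
    intro hxg
    apply hxA
    exact mem_isSyl2 s.pair.sylA' ⟨hxR.2, hxg⟩ (mem_of_pow_two hR2 hxR) hxn'
  have hA'K : ∀ a ∈ A', ∀ k ∈ K, k * a = a * k := fun a ha k hk => comm_KY k hk a ha.2
  -- the conjugating elements
  set c : H × Bool → G := fun i => (i.1 : G) * (if i.2 then x else 1) with hc
  have hcM : ∀ i, c i ∈ normalizer (K : Set G) := by
    intro i
    refine Subgroup.mul_mem _ (Subgroup.le_normalizer (s.bor.leH i.1.2)) ?_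
    split_ifs
    · exact KY_le (mem_sup_right hxR.2)
    · exact Subgroup.one_mem _
  have hHV : ∀ h ∈ H, ∀ v ∈ A' ⊔ E, h * v * h⁻¹ ∈ A' ⊔ E := by
    intro h hh v hv
    obtain ⟨a, ha, e, he, rfl⟩ := (mem_sup_comm s.comm_A'E).mp hv
    have e1 : h * (a * e) * h⁻¹ = a * (h * e * h⁻¹) := by
      calc h * (a * e) * h⁻¹ = (h * a) * e * h⁻¹ := by group
        _ = (a * h) * e * h⁻¹ := by rw [hA'K a ha h (s.bor.leH hh)]
        _ = a * (h * e * h⁻¹) := by group
    rw [e1]
    exact Subgroup.mul_mem _ (mem_sup_left ha) (mem_sup_right (s.normE hh he))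
  have hxV : ∀ v ∈ A' ⊔ E, x * v * x⁻¹ ∈ A' ⊔ E := by
    intro v hv
    obtain ⟨a, ha, e, he, rfl⟩ := (mem_sup_comm s.comm_A'E).mp hv
    have e1 : x * (a * e) * x⁻¹ = (x * a * x⁻¹) * e := by
      calc x * (a * e) * x⁻¹ = x * a * (e * x⁻¹) := by group
        _ = x * a * (x⁻¹ * e) := by
            have h1 := hxK e (s.leK he)
            have h2 : e * x⁻¹ = x⁻¹ * e := by
              calc e * x⁻¹ = x⁻¹ * (x * e) * x⁻¹ := by group
                _ = x⁻¹ * (e * x) * x⁻¹ := by rw [h1]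
                _ = x⁻¹ * e := by group
            rw [h2]
        _ = (x * a * x⁻¹) * e := by group
    rw [e1]
    exact Subgroup.mul_mem _ (mem_sup_left (hxn' a ha)) (mem_sup_right he)
  have hcV : ∀ i, ∀ v ∈ A' ⊔ E, c i * v * (c i)⁻¹ ∈ A' ⊔ E := by
    rintro ⟨h, b⟩ v hv
    cases b
    · have e1 : c (h, false) = h := by simp [hc]
      rw [e1]; exact hHV h h.2 v hv
    · have e1 : c (h, true) = h * x := by simp [hc]
      rw [e1]
      have e2 : (h : G) * x * v * ((h : G) * x)⁻¹ = h * (x * v * x⁻¹) * (h : G)⁻¹ := by group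
      rw [e2]
      exact hHV h h.2 _ (hxV v hv)
  have hAE := s.A_elem
  have hAsq : ∀ a ∈ A, a ≠ 1 → orderOf a = 2 := fun a ha h1 => orderOf_eq_two h1 (hAE a ha)
  -- a common element forces `c⁻¹ c' ∈ M^g`
  have hkey : ∀ u v t : G, t ≠ 1 → t ∈ cj u A → t ∈ cj v A →
      u⁻¹ * v ∈ cj g (normalizer (K : Set G)) := by
    intro u v t ht hu hv
    have ho : orderOf t = 2 := by
      rw [mem_cj] at hu
      have h1 : orderOf (u⁻¹ * t * u) = 2 := by
        refine hAsq _ hu fun h2 => ht ?_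
        have : t = u * (u⁻¹ * t * u) * u⁻¹ := by group
        rw [this, h2]; group
      have h2 := orderOf_conj u (u⁻¹ * t * u)
      have e1 : u * (u⁻¹ * t * u) * u⁻¹ = t := by group
      rw [e1] at h2
      rw [h2, h1]
    have h1 : t ∈ cj (u * g) (centralizer (K : Set G)) := by
      rw [cj_mul]; exact cj_mono inf_le_right hu
    have h2 : t ∈ cj (v * g) (centralizer (K : Set G)) := by
      rw [cj_mul]; exact cj_mono inf_le_right hv
    have h3 := mem_of_cj s.std ho h1 h2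
    rw [mem_cj]
    have e1 : (u * g)⁻¹ * (v * g) = g⁻¹ * (u⁻¹ * v) * g := by group
    rwa [e1] at h3
  -- elements of `H` in `M^g` are trivial
  have hHg : ∀ h ∈ H, h ∈ cj g (normalizer (K : Set G)) → h = 1 := by
    intro h hh h1
    have h2 : h ∈ K ⊓ cj g (normalizer (K : Set G)) := ⟨s.bor.leH hh, h1⟩
    rw [s.inf] at h2
    exact H_inf s.bor hh h2
  -- `h x^{±1} ∉ M^g`
  have hHx : ∀ h ∈ H, ∀ z : G, z = x ∨ z = x⁻¹ → h * z ∉ cj g (normalizer (K : Set G)) := by
    intro h hh z hz h1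
    apply hxg
    have hzx : z ∈ cj g (normalizer (K : Set G)) → x ∈ cj g (normalizer (K : Set G)) := by
      rcases hz with rfl | rfl
      · exact id
      · intro h2
        have := Subgroup.inv_mem _ h2
        rwa [inv_inv] at this
    apply hzx
    have hzR : z ∈ R := by
      rcases hz with rfl | rfl
      · exact hxR
      · exact Subgroup.inv_mem _ hxR
    have hcz : Commute h z := comm_KY h (s.bor.leH hh) z hzR.2
    have h2 : (h * z) ^ (q - 1) ∈ cj g (normalizer (K : Set G)) := Subgroup.pow_mem _ h1 _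
    have h3 : h ^ (q - 1) = 1 := by
      rw [← s.bor.cardH]
      have := pow_card_eq_one' (x := (⟨h, hh⟩ : H))
      exact congrArg Subtype.val this
    rw [hcz.mul_pow, h3, one_mul] at h2
    obtain ⟨n, hn⟩ := mem_of_pow_two hR2 hzR
    have h4 : (q - 1).Coprime (orderOf z) := by
      have h5 : orderOf z ∣ 2 ^ n := orderOf_dvd_of_pow_eq_one hn
      refine Nat.Coprime.coprime_dvd_right h5 ?_
      exact Nat.Coprime.pow_right n (Nat.coprime_two_right.mpr (odd_card_H s.sz))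
    obtain ⟨m, hm⟩ := exists_pow_eq_self_of_coprime h4
    rw [← hm]
    exact Subgroup.pow_mem _ h2 _
  have hfH : Fintype H := Fintype.ofFinite H
  have hV0 : ∀ i, cj (c i) A ≤ A' ⊔ E := by
    intro i
    rintro _ ⟨a, ha, rfl⟩
    exact hcV i a (s.A_le_V0 ha)
  let F : Option (H × Bool) → Subgroup G := fun o => o.elim A' (fun i => cj (c i) A)
  have hsum := sum_card_le F (A' ⊔ E)
    (by
      intro o
      cases o with
      | none => exact le_sup_left
      | some i => exact hV0 i)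
    (by
      have hns : ∀ i t, t ∈ A' → t ∈ cj (c i) A → t = 1 := by
        intro i t ht hti
        by_contra ht1
        have ho : orderOf t = 2 := by
          rw [mem_cj] at hti
          have h1 : orderOf ((c i)⁻¹ * t * c i) = 2 := by
            refine hAsq _ hti fun h2 => ht1 ?_
            have : t = c i * ((c i)⁻¹ * t * c i) * (c i)⁻¹ := by group
            rw [this, h2]; group
          have h2 := orderOf_conj (c i) ((c i)⁻¹ * t * c i)
          have e1 : c i * ((c i)⁻¹ * t * c i) * (c i)⁻¹ = t := by group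
          rw [e1] at h2
          rw [h2, h1]
        have h1 : t ∈ cj 1 (centralizer (K : Set G)) := by rw [cj_one]; exact ht.2
        have h2 : t ∈ cj (c i * g) (centralizer (K : Set G)) := by
          rw [cj_mul]; exact cj_mono inf_le_right hti
        have h3 := mem_of_cj s.std ho h1 h2
        apply s.hg
        have h4 := Subgroup.mul_mem _ (Subgroup.inv_mem _ (hcM i)) h3
        have e1 : (c i)⁻¹ * (1⁻¹ * (c i * g)) = g := by group
        rwa [e1] at h4
      rintro (_ | ⟨h, b⟩) (_ | ⟨h', b'⟩) hne t ht ht'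
      · exact absurd rfl hne
      · exact hns _ t ht ht'
      · exact hns _ t ht' ht
      · by_contra ht1
        have h1 := hkey _ _ t ht1 ht ht'
        cases b <;> cases b'
        · apply hne
          have e1 : (c (h, false))⁻¹ * c (h', false) = (h : G)⁻¹ * h' := by simp [hc]
          rw [e1] at h1
          have h2 := hHg _ (H.mul_mem (H.inv_mem h.2) h'.2) h1
          have h3 : (h : G) = h' := inv_mul_eq_one.mp h2
          rw [Subtype.ext h3]
        · have e1 : (c (h, false))⁻¹ * c (h', true) = ((h : G)⁻¹ * h') * x := by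
            simp only [hc, mul_assoc, _root_.mul_ite, _root_.mul_one, _root_.Bool.false_eq_true, ↓ _root_.reduceIte]
          rw [e1] at h1
          exact hHx _ (H.mul_mem (H.inv_mem h.2) h'.2) x (Or.inl rfl) h1
        · have e1 : (c (h, true))⁻¹ * c (h', false) = ((h : G)⁻¹ * h') * x⁻¹ := by
            have h3 := hxK _ (s.bor.leH (H.mul_mem (H.inv_mem h.2) h'.2))
            have h4 : x⁻¹ * ((h : G)⁻¹ * h') = ((h : G)⁻¹ * h') * x⁻¹ := by
              calc x⁻¹ * ((h : G)⁻¹ * h') = x⁻¹ * (((h : G)⁻¹ * h') * x) * x⁻¹ := by group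
                _ = x⁻¹ * (x * ((h : G)⁻¹ * h')) * x⁻¹ := by rw [h3]
                _ = ((h : G)⁻¹ * h') * x⁻¹ := by group
            rw [← h4]
            simp only [hc, mul_assoc, _root_.mul_ite, _root_.mul_one, ↓ _root_.reduceIte, _root_.mul_inv_rev, _root_.Bool.false_eq_true]
          rw [e1] at h1
          exact hHx _ (H.mul_mem (H.inv_mem h.2) h'.2) x⁻¹ (Or.inr rfl) h1
        · apply hne
          have e1 : (c (h, true))⁻¹ * c (h', true) = x⁻¹ * (((h : G)⁻¹ * h') * x) := by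
            simp only [hc, mul_assoc, _root_.mul_ite, _root_.mul_one, ↓ _root_.reduceIte, _root_.mul_inv_rev]
          have h3 := hxK _ (s.bor.leH (H.mul_mem (H.inv_mem h.2) h'.2))
          rw [e1, h3, inv_mul_cancel_left] at h1
          have h2 := hHg _ (H.mul_mem (H.inv_mem h.2) h'.2) h1
          have h3 : (h : G) = h' := inv_mul_eq_one.mp h2
          rw [Subtype.ext h3])
  rw [Fintype.sum_option] at hsum
  have hF0 : F none = A' := rfl
  have hF1 : ∀ i : H × Bool, Nat.card (F (some i)) - 1 = Nat.card A - 1 := by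
    intro i
    have : F (some i) = cj (c i) A := rfl
    rw [this, card_cj]
  rw [hF0, Finset.sum_congr rfl (fun i _ => hF1 i), Finset.sum_const, smul_eq_mul,
    Finset.card_univ, Fintype.card_prod, Fintype.card_bool, ← Nat.card_eq_fintype_card,
    s.bor.cardH, s.card_V0] at hsum
  have h4 := s.sz.eight
  -- numerical conclusion
  have hA'1 : A' ≠ ⊥ := s.pair.ne_bot s.std s.hg s.neA
  have hcA' : 2 ≤ Nat.card A' := by
    have h1 : Nat.card A' ≠ 1 := fun h => hA'1 (Subgroup.card_eq_one.mp h)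
    have h2 : 0 < Nat.card A' := Nat.card_pos
    omega
  have hcA : Nat.card A' = 2 := by
    set a := Nat.card A with ha
    set b := Nat.card A' with hb
    have h6 : a ≤ 2 := by
      by_contra h7
      obtain ⟨r, rfl⟩ : ∃ r, q = r + 1 := ⟨q - 1, by omega⟩
      obtain ⟨a', ha'⟩ : ∃ a', a = a' + 1 := ⟨a - 1, by omega⟩
      obtain ⟨b', hb'⟩ : ∃ b', b = b' + 1 := ⟨b - 1, by omega⟩
      rw [ha', hb'] at hsum
      simp only [Nat.add_sub_cancel] at hsum
      have h8 : b' + r * 2 * a' ≤ (b' + 1) * (r + 1) - 1 := hsum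
      have h9 : (b' + 1) * (r + 1) - 1 = b' * r + b' + r := by
        have : (b' + 1) * (r + 1) = b' * r + b' + r + 1 := by ring
        omega
      rw [h9] at h8
      have h10 : r * 2 * a' ≤ b' * r + r := by omega
      have h11 : r * (2 * a') ≤ r * (b' + 1) := by linarith only [h8]
      have h12 : 2 * a' ≤ b' + 1 := Nat.le_of_mul_le_mul_left h11 (by omega)
      omega
    omega
  -- an involution of `A`
  obtain ⟨a, haA, ha2⟩ := exists_involution_of_ne_bot
    (s.pair.sylD.two.to_le (inf_le_left : A ≤ P)) s.neA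
  obtain ⟨y, hy, e, he, hay⟩ := s.A_le haA
  -- `x` commutes with `y`
  have hxy : x * y * x⁻¹ = y := by
    by_cases hy1 : y = 1
    · rw [hy1]; group
    · have h1 : x * y * x⁻¹ ∈ A' := hxn' y hy
      have h2 : x * y * x⁻¹ ≠ 1 := by
        intro h2
        apply hy1
        have : y = x⁻¹ * (x * y * x⁻¹) * x := by group
        rw [this, h2]; group
      obtain ⟨u, hu, huu⟩ := (Nat.card_eq_two_iff' (1 : A')).mp hcA
      have h3 : (⟨y, hy⟩ : A') = u := huu _ (fun h => hy1 (congrArg Subtype.val h))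
      have h4 : (⟨x * y * x⁻¹, h1⟩ : A') = u := huu _ (fun h => h2 (congrArg Subtype.val h))
      exact congrArg Subtype.val (h4.trans h3.symm)
  have hxa : a * x = x * a := by
    have h1 : y * x = x * y := (mul_inv_eq_iff_eq_mul.mp hxy).symm
    have h2 := hxK e (s.leK he)
    rw [hay]
    calc y * e * x = y * (e * x) := by group
      _ = y * (x * e) := by rw [h2]
      _ = (y * x) * e := by group
      _ = x * y * e := by rw [h1]
      _ = x * (y * e) := by group
  have h5 := (s.pair.mem_iff s.std s.hg haA ha2 hxR.1 hxR.2).mp hxa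
  exact hxA ⟨h5, hxR.2⟩

theorem exists_pre (h : Std p K) (hL : SzK K q) (hg : g ∉ normalizer (K : Set G))
    (he : Even (Nat.card (cj g (centralizer (K : Set G)) ⊓ normalizer (K : Set G) : Subgroup G))) :
    ∃ (g' : G) (S P Q E H : Subgroup G), Pre p K q g' S P Q E H ∧
      Nat.card (P ⊓ centralizer (K : Set G) : Subgroup G) ≤
      Nat.card (P ⊓ cj g' (centralizer (K : Set G)) : Subgroup G) := by
  obtain ⟨a, ha, ha2⟩ := exists_involution he
  obtain ⟨S, P, hP, haP⟩ := exists_pairAt K g (isPGroup_zpowers ha2)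
    (zpowers_le.mpr ⟨ha.2, cj_centralizer_le_normalizer g K ha.1⟩)
  have hA : P ⊓ cj g (centralizer (K : Set G)) ≠ ⊥ := by
    intro hb
    have h2 : a ∈ P ⊓ cj g (centralizer (K : Set G)) := ⟨haP (mem_zpowers a), ha.1⟩
    rw [hb, mem_bot] at h2
    exact ne_one_of_orderOf ha2 h2
  rcases le_total (Nat.card (P ⊓ centralizer (K : Set G) : Subgroup G))
    (Nat.card (P ⊓ cj g (centralizer (K : Set G)) : Subgroup G)) with hle | hle
  · obtain ⟨Q, E, H, hE, hB, hinf⟩ := exists_Q h hL hg ha.1 ha.2 ha2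
    exact ⟨g, S, P, Q, E, H, ⟨h, hL, hg, hP, hE, hB, hinf, hA⟩, hle⟩
  · -- the symmetric situation
    have hA' := hP.ne_bot h hg hA
    have hg' : g⁻¹ ∉ normalizer (K : Set G) := fun hh => hg (by
      have := Subgroup.inv_mem _ hh
      rwa [inv_inv] at this)
    have hD : cj g⁻¹ (normalizer (K : Set G) ⊓ cj g (normalizer (K : Set G))) =
        normalizer (K : Set G) ⊓ cj g⁻¹ (normalizer (K : Set G)) := by
      rw [cj_inf, cj_inv_cj, inf_comm]
    have hP' := isSyl2_cj g⁻¹ hP.sylD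
    rw [hD] at hP'
    obtain ⟨S', hS', hPS'⟩ := exists_isSyl2 (normalizer (K : Set G)) (cj g⁻¹ P)
      (hP'.le.trans inf_le_left) hP'.two
    have hPair : PairAt K g⁻¹ S' (cj g⁻¹ P) := ⟨hS', hP', hPS'⟩
    have e1 : cj g⁻¹ P ⊓ cj g⁻¹ (centralizer (K : Set G)) =
        cj g⁻¹ (P ⊓ centralizer (K : Set G)) := (cj_inf _ _ _).symm
    have e2 : cj g⁻¹ P ⊓ centralizer (K : Set G) =
        cj g⁻¹ (P ⊓ cj g (centralizer (K : Set G))) := by
      rw [cj_inf, cj_inv_cj]
    obtain ⟨b, hb', hb2⟩ := exists_involution_of_ne_bot hP.sylA'.two hA'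
    have hbM : b ∈ cj g (normalizer (K : Set G)) := (hP.sylD.le hb'.1).2
    have hb4 : g⁻¹ * b * g ∈ cj g⁻¹ (centralizer (K : Set G)) := by
      have := conj_mem_cj (g := g⁻¹) hb'.2
      rwa [inv_inv] at this
    have hb5 : orderOf (g⁻¹ * b * g) = 2 := by
      have := orderOf_conj g⁻¹ b
      rw [inv_inv] at this
      rw [this, hb2]
    obtain ⟨Q, E, H, hE, hB, hinf⟩ := exists_Q h hL hg' hb4 (mem_cj.mp hbM) hb5
    refine ⟨g⁻¹, S', cj g⁻¹ P, Q, E, H, ⟨h, hL, hg', hPair, hE, hB, hinf, ?_⟩, ?_⟩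
    · rw [e1]
      intro hbot
      have h3 := card_cj g⁻¹ (P ⊓ centralizer (K : Set G))
      rw [hbot, Subgroup.card_bot] at h3
      exact hA' (Subgroup.card_eq_one.mp h3.symm)
    · rw [e1, e2, card_cj, card_cj]
      exact hle

/-! ### the result -/

/-- `S ≤ R Q` -/
theorem Pre.mem_S (s : Pre p K q g S P Q E H) (hPS : P = S) {x : G} :
    x ∈ S ↔ ∃ r ∈ S ⊓ centralizer (K : Set G), ∃ k ∈ Q, x = r * k := by
  constructor
  · intro hx
    have hxP : x ∈ P := by rw [hPS]; exact hx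
    have hxD := s.pair.sylD.le hxP
    have hx2 := mem_of_pow_two s.pair.sylM.two hx
    obtain ⟨k, hk, y, hy, hxky⟩ := mem_KY.mp (s.sz.inner x hxD.1 hx2)
    have hky : k * y = y * k := comm_KY k hk y hy
    obtain ⟨n, hn2⟩ := hx2
    have hn3 := hn2
    rw [hxky] at hn3
    obtain ⟨hk2, -⟩ := pow_eq_one_KY s.sz.inf hk hy hn3
    have hkQ : k ∈ Q := by
      refine mem_isSyl2 s.sylQ hk ⟨n, hk2⟩ fun e he => ?_
      have h3 := s.normQ hxD.1 hxD.2 he
      have h4 : y * e = e * y := (comm_KY e (s.sylQ.le he) y hy).symm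
      have e1 : x * e * x⁻¹ = k * e * k⁻¹ := by
        rw [hxky]
        calc k * y * e * (k * y)⁻¹ = k * (y * e) * y⁻¹ * k⁻¹ := by group
          _ = k * (e * y) * y⁻¹ * k⁻¹ := by rw [h4]
          _ = k * e * k⁻¹ := by group
      rwa [e1] at h3
    refine ⟨y, ⟨?_, hy⟩, k, hkQ, by rw [hxky, hky]⟩
    have h1 : y = k⁻¹ * x := by rw [hxky]; group
    rw [h1]
    exact S.mul_mem (S.inv_mem (hPS ▸ s.Q_le_P hkQ)) hx
  · rintro ⟨r, hr, k, hk, rfl⟩
    exact S.mul_mem hr.1 (hPS ▸ s.Q_le_P hk)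

theorem Pre.P_eq (s : Pre p K q g S P Q E H)
    (hR : P ⊓ centralizer (K : Set G) = S ⊓ centralizer (K : Set G)) : P = S := by
  refine le_antisymm s.pair.le fun x hx => ?_
  -- `S ≤ P`: `S` is contained in a product of 2-elements of `Y` and `K`
  have hxM := s.pair.sylM.le hx
  have hx2 := mem_of_pow_two s.pair.sylM.two hx
  -- `Q ≤ S` and `Q = S ⊓ K`
  have hQS : Q ≤ S := s.Q_le_P.trans s.pair.le
  have hQ : Q = S ⊓ K := by
    have h1 : IsSyl2 K (S ⊓ K) :=
      isSyl2_inf s.pair.sylM Subgroup.le_normalizer fun d hd w hw => forall_of_mem_normalizer hd w hw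
    exact (s.sylQ.max _ inf_le_right h1.two (le_inf hQS s.sylQ.le)).symm
  obtain ⟨k, hk, y, hy, hxky⟩ := mem_KY.mp (s.sz.inner x hxM hx2)
  obtain ⟨n, hn2⟩ := hx2
  have hn3 := hn2
  rw [hxky] at hn3
  obtain ⟨hk2, -⟩ := pow_eq_one_KY s.sz.inf hk hy hn3
  have hkQ : k ∈ Q := by
    refine mem_isSyl2 s.sylQ hk ⟨n, hk2⟩ fun e he => ?_
    have h3 : x * e * x⁻¹ ∈ Q := by
      rw [hQ]
      exact ⟨S.mul_mem (S.mul_mem hx (hQS he)) (S.inv_mem hx),
        forall_of_mem_normalizer hxM e (s.sylQ.le he)⟩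
    have h4 : y * e = e * y := (comm_KY e (s.sylQ.le he) y hy).symm
    have e1 : x * e * x⁻¹ = k * e * k⁻¹ := by
      rw [hxky]
      calc k * y * e * (k * y)⁻¹ = k * (y * e) * y⁻¹ * k⁻¹ := by group
        _ = k * (e * y) * y⁻¹ * k⁻¹ := by rw [h4]
        _ = k * e * k⁻¹ := by group
    rwa [e1] at h3
  have hyS : y ∈ S := by
    have h1 : y = k⁻¹ * x := by rw [hxky]; group
    rw [h1]
    exact S.mul_mem (S.inv_mem (hQS hkQ)) hx
  have hyP : y ∈ P ⊓ centralizer (K : Set G) := by rw [hR]; exact ⟨hyS, hy⟩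
  rw [hxky]
  exact P.mul_mem (s.Q_le_P hkQ) hyP.1

/-- some element outside `M` normalizes `S` -/
theorem Pre.move (s : Pre p K q g S P Q E H) (hPS : P = S) :
    ∃ n : G, (∀ x ∈ S, n * x * n⁻¹ ∈ S) ∧ n ∉ normalizer (K : Set G) := by
  have h1 : S ≤ cj g (normalizer (K : Set G)) := by
    rw [← hPS]; exact s.pair.sylD.le.trans inf_le_right
  have h2 : IsSyl2 (cj g (normalizer (K : Set G))) S :=
    isSyl2_of_card (isSyl2_cj g s.pair.sylM) h1 s.pair.sylM.two (by rw [card_cj])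
  obtain ⟨m, hm, hmS⟩ := isSyl2_conj (isSyl2_cj g s.pair.sylM) h2
  refine ⟨m * g, fun x hx => ?_, fun hmg => s.hg ?_⟩
  · rw [hmS, ← cj_mul]
    exact conj_mem_cj hx
  · rw [mem_cj] at hm
    have h3 := Subgroup.mul_mem _ hmg (Subgroup.inv_mem _ hm)
    have e1 : m * g * (g⁻¹ * m * g)⁻¹ = g := by group
    rwa [e1] at h3

/-- `R` is elementary abelian -/
theorem Pre.elemR (s : Pre p K q g S P Q E H)
    (hR : P ⊓ centralizer (K : Set G) = S ⊓ centralizer (K : Set G))
    (hle : Nat.card (P ⊓ centralizer (K : Set G) : Subgroup G) ≤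
      Nat.card (P ⊓ cj g (centralizer (K : Set G)) : Subgroup G)) :
    Elem (S ⊓ centralizer (K : Set G) : Subgroup G) := by
  rw [hR] at hle
  have hA : IsSyl2 (cj g (centralizer (K : Set G))) (P ⊓ cj g (centralizer (K : Set G))) :=
    isSyl2_of_card (isSyl2_cj g s.pair.sylR) inf_le_right (s.pair.sylD.two.to_le inf_le_left)
      (by rw [card_cj]; exact hle)
  obtain ⟨m, hm, hmA⟩ := isSyl2_conj (isSyl2_cj g s.pair.sylR) hA
  rw [← cj_mul] at hmA
  have h1 : (S ⊓ centralizer (K : Set G) : Subgroup G) =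
      cj (m * g)⁻¹ (P ⊓ cj g (centralizer (K : Set G))) := by rw [hmA, cj_inv_cj]
  rw [h1]
  exact elem_cj s.A_elem

/-- an elementary abelian Sylow 2-subgroup which is not cyclic has order at least 4 -/
theorem four_le_card {R R0 Y : Subgroup G} (hR : IsSyl2 Y R) (hR0 : IsSyl2 Y R0)
    (hnc : ¬ IsCyclic R0) : 4 ≤ Nat.card R := by
  have hpf : Fact (Nat.Prime 2) := ⟨Nat.prime_two⟩
  obtain ⟨n, hn⟩ := IsPGroup.iff_card.mp hR.two
  have h1 : Nat.card R0 = Nat.card R := isSyl2_card hR hR0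
  by_contra hlt
  apply hnc
  have h2 : Nat.card R0 = 1 ∨ Nat.card R0 = 2 := by
    rw [h1, hn]
    rw [hn] at hlt
    rcases n with _ | _ | n
    · left; simp
    · right; simp
    · exfalso
      apply hlt
      calc 4 = 2 ^ 2 := by norm_num
        _ ≤ 2 ^ (n + 2) := Nat.pow_le_pow_right (by norm_num) (by omega)
  rcases h2 with h2 | h2
  · have : Subsingleton R0 := (Nat.card_eq_one_iff_unique.mp h2).1
    exact isCyclic_of_subsingleton
  · exact isCyclic_of_prime_card h2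

/-- **[E-R].** -/
theorem exists_sit (h : Std p K) (hK : Cfsg.Lie.IsoSuzuki K)
    (hev : ∃ g, g ∉ normalizer (K : Set G) ∧
      Even (Nat.card (cj g (centralizer (K : Set G)) ⊓ normalizer (K : Set G) : Subgroup G)))
    {R0 : Subgroup G} (hR0 : IsSyl2 (centralizer (K : Set G)) R0) (hnc : ¬ IsCyclic R0) :
    ∃ (R Q E H S : Subgroup G) (q : ℕ), CompSzDefs.Sit p K R Q E H S q := by
  obtain ⟨q, hL⟩ := szK hK
  obtain ⟨g, hg, he⟩ := hev
  obtain ⟨g', S, P, Q, E, H, s, hle⟩ := exists_pre h hL hg he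
  have hR := s.eqR hle
  have hPS := s.P_eq hR
  exact ⟨S ⊓ centralizer (K : Set G), Q, E, H, S, q,
    ⟨h, hL, s.bor, s.sylQ, s.pair.sylR, s.pair.sylM, fun x => s.mem_S hPS, s.elemR hR hle,
      four_le_card s.pair.sylR hR0 hnc, s.move hPS⟩⟩

end Cfsg.Agent.OddCyclic.CompSzR
end

-- part: OddCyclic/CaseECovA
section
/-!
# S0342, component type, case E: covers of Suzuki groups (the exceptional case `K / Z(K) ≅ Sz(8)`)

`Ext C T π`: `π : A → S` is a perfect central extension by a 2-group of a group with coordinates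
(`StdSz.BorelCoord.Data`), `T` the unipotent subgroup. `Ext.quot`: the commutator form modulo suitable subgroups of the
kernel, from helper475's theorem `CoverA.Cov.main`.
-/

set_option autoImplicit false
set_option linter.unusedSectionVars false

namespace Cfsg.Agent.OddCyclic.CaseECovA

open Subgroup
open scoped commutatorElement
open Cfsg.Agent.StdSz Cfsg.Agent.StdSz.BorelCoord Cfsg.Agent.StdSz.CoverA

variable {m : ℕ} {F : Type*} [Field F] {S : Type*} [Group S] {A : Type*} [Group A]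

/-- a perfect central extension by a 2-group of a group with Suzuki coordinates -/
structure Ext (C : Data m F S) (T : Subgroup S) (π : A →* S) : Prop where
  surj : Function.Surjective π
  cen : ∀ x, π x = 1 → ∀ y, x * y = y * x
  two : ∀ x, π x = 1 → ∃ k : ℕ, x ^ 2 ^ k = 1
  memT : ∀ x, x ∈ T ↔ ∃ a b, x = C.p a b
  isP : IsPGroup 2 T
  oddT : Odd T.index
  perf : commutator A = ⊤

variable {C : Data m F S} {T : Subgroup S} {π : A →* S}

/-- the commutator form modulo a suitable subgroup `N₁` of the kernel -/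
theorem Ext.quot [Finite A] [Fintype F] [CharP F 2] (h : Ext C T π) (hm : 1 ≤ m)
    (hF : Fintype.card F = 2 ^ (2 * m + 1)) {I : Subgroup A} (hI : ∀ x ∈ I, π x = 1) {c : A}
    (hc : π c = 1) (hc2 : c * c = 1) (hcI : c ∉ I) :
    ∃ N₁ : Subgroup A, I ≤ N₁ ∧ (∀ x ∈ N₁, π x = 1) ∧ c ∉ N₁ ∧
      (∀ e e' : A, (∃ b, π e = C.p 0 b) → (∃ b, π e' = C.p 0 b) → ⁅e, e'⁆ ∈ N₁) ∧
      ∀ x a b, π x = C.p a b → a ≠ 0 → ∃ e, (∃ b', π e = C.p 0 b') ∧ ⁅x, e⁆ ∉ N₁ := by
  classical
  -- a maximal subgroup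
  obtain ⟨N, hNmem, hNmax⟩ := Set.exists_max_image
    {N : Subgroup A | I ≤ N ∧ (∀ x ∈ N, π x = 1) ∧ c ∉ N} (fun N => Nat.card N) (Set.toFinite _)
    ⟨I, le_rfl, hI, hcI⟩
  obtain ⟨hIN, hNπ, hcN⟩ := hNmem
  have hNn : N.Normal := ⟨fun n hn g => by
    rw [← h.cen n (hNπ n hn) g, mul_inv_cancel_right]; exact hn⟩
  let π₁ : A ⧸ N →* S := QuotientGroup.lift N π hNπ
  have hπ₁ : ∀ x : A, π₁ (QuotientGroup.mk' N x) = π x := fun x => rfl
  have hmk : ∀ y : A ⧸ N, ∃ x : A, QuotientGroup.mk' N x = y := QuotientGroup.mk'_surjective N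
  have hmk1 : ∀ x : A, QuotientGroup.mk' N x = 1 ↔ x ∈ N := fun x => by
    rw [← MonoidHom.mem_ker, QuotientGroup.ker_mk']
  have hsurj : Function.Surjective π₁ := fun s => by
    obtain ⟨x, rfl⟩ := h.surj s
    exact ⟨QuotientGroup.mk' N x, rfl⟩
  let P : Subgroup (A ⧸ N) := T.comap π₁
  have hP : ∀ x, x ∈ P ↔ π₁ x ∈ T := fun x => Iff.rfl
  have hTnorm : ∀ (l : Fˣ) (x : S), x ∈ T → C.h l * x * (C.h l)⁻¹ ∈ T := by
    intro l x hx
    obtain ⟨a, b, rfl⟩ := (h.memT x).1 hx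
    rw [C.h_p]
    exact (h.memT _).2 ⟨_, _, rfl⟩
  have hcov : Cov C π₁ P (QuotientGroup.mk' N c) :=
    { cen := by
        intro x hx y
        obtain ⟨x, rfl⟩ := hmk x
        obtain ⟨y, rfl⟩ := hmk y
        rw [← map_mul, ← map_mul, h.cen x hx y]
      to_p := fun x hx => (h.memT _).1 hx
      from_p := by
        intro a b
        obtain ⟨x, hx⟩ := hsurj (C.p a b)
        exact ⟨x, by rw [hP, hx]; exact (h.memT _).2 ⟨a, b, rfl⟩, hx⟩
      tor := fun l => hsurj _
      tor_P := by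
        intro g l hg x hx
        rw [hP, map_mul, map_mul, map_inv, hg]
        exact hTnorm l _ hx
      t_mem := by rw [hP, hπ₁, hc]; exact one_mem T
      t_one := fun h1 => hcN ((hmk1 c).1 h1)
      t_sq := by rw [← map_mul, hc2, map_one]
      t_ker := by rw [hπ₁, hc]
      uniq := by
        intro x _ hx1 hx2
        obtain ⟨x, rfl⟩ := hmk x
        rw [hπ₁] at hx1
        rw [← map_mul, hmk1] at hx2
        by_cases hxN : x ∈ N
        · exact Or.inl ((hmk1 x).2 hxN)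
        right
        -- `N ⟨x⟩` contains `c`
        set L : Subgroup A := N ⊔ zpowers x with hL
        have hLmem : ∀ y ∈ L, y ∈ N ∨ x⁻¹ * y ∈ N := by
          intro y hy
          rw [hL, ← SetLike.mem_coe, Subgroup.normal_mul] at hy
          obtain ⟨n, hn, _, ⟨i, rfl⟩, rfl⟩ := hy
          rcases Int.even_or_odd' i with ⟨j, rfl | rfl⟩
          · left
            refine N.mul_mem hn ?_
            have : x ^ (2 * j) = (x * x) ^ j := by
              rw [zpow_mul]; congr 1; rw [zpow_ofNat, sq]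
            simp only [this]
            exact N.zpow_mem hx2 j
          · right
            have e1 : x ^ (2 * j + 1) = (x * x) ^ j * x := by
              rw [zpow_add, zpow_one, zpow_mul]; congr 2; rw [zpow_ofNat, sq]
            simp only [e1]
            have e2 : x⁻¹ * (n * ((x * x) ^ j * x)) = x⁻¹ * (n * (x * x) ^ j) * x⁻¹⁻¹ := by group
            rw [e2]
            exact hNn.conj_mem _ (N.mul_mem hn (N.zpow_mem hx2 j)) _
        have hcL : c ∈ L := by
          by_contra hcL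
          have h1 := hNmax L ⟨hIN.trans le_sup_left, fun y hy => by
            rcases hLmem y hy with h2 | h2
            · exact hNπ y h2
            · have h3 := hNπ _ h2
              rw [map_mul, map_inv, hx1, inv_one, one_mul] at h3
              exact h3, hcL⟩
          have h2 : N = L := Subgroup.eq_of_le_of_card_ge le_sup_left h1
          exact hxN (by rw [h2]; exact Subgroup.mem_sup_right (mem_zpowers x))
        rcases hLmem c hcL with h1 | h1
        · exact absurd h1 hcN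
        · have h2 := (hmk1 _).2 h1
          rw [map_mul, map_inv, inv_mul_eq_one] at h2
          exact h2 }
  have hodd : Odd P.index := by
    have : P.index = T.index := Subgroup.index_comap_of_surjective _ hsurj
    rw [this]; exact h.oddT
  have hperf : commutator (A ⧸ N) = ⊤ := by
    have h1 := Subgroup.map_commutator (⊤ : Subgroup A) ⊤ (QuotientGroup.mk' N)
    rw [← commutator_def, h.perf, Subgroup.map_top_of_surjective _ (QuotientGroup.mk'_surjective N)]
      at h1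
    exact h1.symm
  have hcom : (⟨QuotientGroup.mk' N c, hcov.t_mem⟩ : P) ∈ commutator P :=
    mem_commutator_of_central P hodd _ hcov.t_mem (fun g => hcov.cen _ hcov.t_ker g) hcov.t_sq
      (by rw [hperf]; exact Subgroup.mem_top _)
  obtain ⟨zh, Z, -, hleft, -⟩ := hcov.main hm hF hcom
  refine ⟨N, hIN, hNπ, hcN, ?_, ?_⟩
  · rintro e e' ⟨b, hb⟩ ⟨b', hb'⟩
    have h1 := hcov.comm_z hm hF (x := QuotientGroup.mk' N e) (y := QuotientGroup.mk' N e')
      (b := b) (c := b') (by rw [hP, hπ₁, hb]; exact (h.memT _).2 ⟨0, b, rfl⟩)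
      (by rw [hP, hπ₁, hb']; exact (h.memT _).2 ⟨0, b', rfl⟩) (by rw [hπ₁, hb]) (by rw [hπ₁, hb'])
    rw [← hmk1, map_commutatorElement]
    exact h1
  · intro x a b hx ha
    obtain ⟨b', hb'⟩ := hleft (QuotientGroup.mk' N x)
      (by rw [hP, hπ₁, hx]; exact (h.memT _).2 ⟨a, b, rfl⟩) a b (by rw [hπ₁, hx]) ha
    obtain ⟨e, he⟩ := hmk (zh b')
    refine ⟨e, ⟨b', ?_⟩, ?_⟩
    · rw [← hπ₁, he, Z.pi]
    · rw [← hmk1, map_commutatorElement, he, hb']
      exact hcov.t_one

end Cfsg.Agent.OddCyclic.CaseECovA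
end

-- part: OddCyclic/CaseECovB
section
/-!
# S0342, case E, covers: the coordinates of `Sz(q)` and the commutator form of the cover

`SFacts`: facts on `Sz(q)` in the coordinates of `StdSz.BorelCoord`. `Ext.comm_E`, `Ext.exists_ne`,
`Ext.false_of_eight` (at least three central involutions, `q = 8`), `Ext.alpha` (one central involution).
-/

set_option autoImplicit false
set_option linter.unusedSectionVars false

namespace Cfsg.Agent.OddCyclic.CaseECovB

open Subgroup
open scoped commutatorElement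
open Cfsg.Agent.StdSz Cfsg.Agent.StdSz.BorelCoord Cfsg.Agent.StdSz.CoverA
open Cfsg.Agent.OddCyclic.CaseECovA
open Cfsg.Agent.LieRecognition Cfsg.Agent.ThreePrime Cfsg.Agent.OddCyclic

/-- facts on a group with Suzuki coordinates -/
structure SFacts {m : ℕ} {F : Type*} [Field F] {S : Type*} [Group S] (C : Data m F S)
    (T : Subgroup S) (q : ℕ) : Prop where
  memT : ∀ x, x ∈ T ↔ ∃ a b, x = C.p a b
  two : IsPGroup 2 T
  odd : Odd T.index
  cent : ∀ s b, b ≠ 0 → s * C.p 0 b = C.p 0 b * s → s ∈ T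
  conj : ∀ s, s * s = 1 → ∃ g b, g * s * g⁻¹ = C.p 0 b
  comm : ∀ a b c d, a ≠ 0 → C.p a b * C.p c d = C.p c d * C.p a b → c = 0 ∨ c = a
  root : ∀ b, ∃ a, C.p a 0 * C.p a 0 = C.p 0 b
  cardT : Nat.card T = q ^ 2

section rel

variable {J : Type*} [Group J] {F : Type*} [Field F] (R : SzRel.Rel J F)

theorem cent_T {x k : J} (hx : x ∈ R.T) (hx1 : x ≠ 1) (h : k * x = x * k) : k ∈ R.T := by
  have h1 : k * x * k⁻¹ = x := by rw [h, mul_inv_cancel_right]
  obtain ⟨a, b, l, hkl⟩ := R.exists_ud hx hx1 (by rw [h1]; exact hx)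
  rw [hkl] at h1
  have hl : l = 1 := by
    obtain ⟨c, e, rfl⟩ := hx
    have h2 : R.u a b * R.d l * R.u c e * (R.u a b * R.d l)⁻¹ =
        R.u a b * (R.d l * R.u c e * (R.d l)⁻¹) * (R.u a b)⁻¹ := by group
    rw [h2, R.conj_d, R.conj_u] at h1
    obtain ⟨h3, h4⟩ := R.u_inj h1
    rcases R.fpf (k := l) (a := c) (b := 0) (by rw [R.conj_d, h3, zero_mul]) with h5 | h5
    · exact h5
    · have hc := h5.1
      rw [hc, zero_mul, zero_mul, map_zero, mul_zero, zero_mul, add_zero, add_zero] at h4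
      rcases R.fpf (k := l) (a := 0) (b := e) (by
        rw [R.conj_d, zero_mul, zero_mul, h4]) with h6 | h6
      · exact h6
      · exfalso
        apply hx1
        rw [hc, h6.2, R.u_zero]
  rw [hkl, hl, R.d_one, mul_one]
  exact R.u_mem a b

theorem eq_of_comm {a b c e : F} (ha : a ≠ 0) (h : R.u c e * R.u a b = R.u a b * R.u c e) :
    c = 0 ∨ c = a := by
  rw [R.comm_iff] at h
  have ht : R.θ a ≠ 0 := fun h' => ha ((map_eq_zero R.θ).mp h')
  have h3 : R.θ (c / a) = c / a := by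
    rw [map_div₀, div_eq_div_iff ht ha]
    linear_combination -h
  rcases R.fix_theta h3 with h4 | h4
  · left
    exact (div_eq_zero_iff.mp h4).resolve_right ha
  · right
    exact (div_eq_one_iff_eq ha).mp h4

end rel

/-- the facts hold for `Sz(q)` -/
theorem szFacts {F : Type*} [Field F] [Fintype F] {m : ℕ} (hm : 1 ≤ m)
    (hF : Fintype.card F = 2 ^ (2 * m + 1)) :
    SFacts (szData hF) (SzRel.ofGood (SzMatrix.good hF)).T (Fintype.card F) := by
  have : Fact (Nat.Prime 2) := ⟨Nat.prime_two⟩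
  haveI := EquivMaps.charP_two hF
  set C : Data m F ↥(Cfsg.Lie.Sz F (2 ^ (m + 1))) := szData hF with hC
  set R : SzRel.Rel ↥(Cfsg.Lie.Sz F (2 ^ (m + 1))) F := SzRel.ofGood (SzMatrix.good hF) with hR
  have hp : ∀ a b, C.p a b = R.u a (b + a * SzMatrix.theta hF a) := fun a b => rfl
  have hp0 : ∀ b, C.p 0 b = R.u 0 b := fun b => by rw [hp, zero_mul, add_zero]
  have hu : ∀ a b, R.u a b = C.p a (b + a * SzMatrix.theta hF a) := by
    intro a b
    rw [hp, add_assoc, CharTwo.add_self_eq_zero, add_zero]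
  have hT0 : ∀ x, x ∈ R.T ↔ ∃ a b, x = C.p a b := by
    intro x
    constructor
    · rintro ⟨a, b, rfl⟩
      exact ⟨a, _, hu a b⟩
    · rintro ⟨a, b, rfl⟩
      exact ⟨a, _, hp a b⟩
  obtain ⟨Sy, hSy⟩ := R.exists_sylow_eq hm hF
  refine ⟨hT0, R.isPGroup, ?_, ?_, ?_, ?_, ?_, ?_⟩
  · rw [← hSy, ← Nat.not_even_iff_odd, even_iff_two_dvd]
    exact Sy.not_dvd_index
  · intro s b hb h
    rw [hp0] at h
    exact cent_T R (R.u_mem 0 b) (R.u_ne_one hb) h
  · intro s hs
    have h1 : IsPGroup 2 (zpowers s) := CoverB.isPGroup_zpowers (k := 1) (by rw [pow_one, sq, hs])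
    obtain ⟨P, hP⟩ := h1.exists_le_sylow
    obtain ⟨g, hg⟩ := MulAction.exists_smul_eq ↥(Cfsg.Lie.Sz F (2 ^ (m + 1))) P Sy
    have h2 : g * s * g⁻¹ ∈ R.T := by
      rw [← hSy, ← hg]
      rw [Sylow.coe_subgroup_smul]
      exact Subgroup.smul_mem_pointwise_smul _ _ _ (hP (mem_zpowers s))
    obtain ⟨a, b, hab⟩ := h2
    have h3 : R.u a b * R.u a b = 1 := by
      rw [← hab]
      calc g * s * g⁻¹ * (g * s * g⁻¹) = g * (s * s) * g⁻¹ := by group
        _ = 1 := by rw [hs]; group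
    rw [R.u_sq_iff] at h3
    exact ⟨g, b, by rw [hab, h3, hp0]⟩
  · intro a b c d ha h
    rw [hp, hp] at h
    exact eq_of_comm R ha h.symm
  · intro b
    by_cases hb : b = 0
    · refine ⟨0, ?_⟩
      rw [C.p_sq, hb]
      congr 1
      exact zero_pow (by positivity)
    · obtain ⟨k, hk⟩ := R.exists_mul_theta (Units.mk0 b hb)
      refine ⟨k, ?_⟩
      rw [hp, R.u_mul_self, hk, hp0, Units.val_mk0]
  · rw [T1SzFacts.card_T, Nat.card_eq_fintype_card]

variable {m : ℕ} {F : Type*} [Field F] [Fintype F] [CharP F 2] {S : Type*} [Group S] {A : Type*}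
  [Group A] [Finite A] {C : Data m F S} {T : Subgroup S} {π : A →* S}

omit [Fintype F] [Finite A] in
theorem comm_ker (h : _root_.Cfsg.Agent.OddCyclic.CaseECovA.Ext C T π) {x y x' y' : A} (hx : π x = π x') (hy : π y = π y') :
    ⁅x, y⁆ = ⁅x', y'⁆ := by
  have hkx : π (x * x'⁻¹) = 1 := by rw [map_mul, map_inv, hx, mul_inv_cancel]
  have hky : π (y * y'⁻¹) = 1 := by rw [map_mul, map_inv, hy, mul_inv_cancel]
  obtain ⟨n, hn⟩ : ∃ n, n = x * x'⁻¹ := ⟨_, rfl⟩
  obtain ⟨k, hk⟩ : ∃ k, k = y * y'⁻¹ := ⟨_, rfl⟩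
  have ex : x = n * x' := by rw [hn]; group
  have ey : y = k * y' := by rw [hk]; group
  have cn : ∀ z, n * z = z * n := h.cen n (by rw [hn, hkx])
  have ck : ∀ z, k * z = z * k := h.cen k (by rw [hk, hky])
  rw [ex, ey, commutatorElement_def, commutatorElement_def]
  calc n * x' * (k * y') * (n * x')⁻¹ * (k * y')⁻¹
      = n * x' * (k * y') * x'⁻¹ * (n⁻¹ * (y'⁻¹ * k⁻¹)) := by group
    _ = n * (x' * k) * y' * x'⁻¹ * (n⁻¹ * (y'⁻¹ * k⁻¹)) := by group
    _ = n * (k * x') * y' * x'⁻¹ * (n⁻¹ * (y'⁻¹ * k⁻¹)) := by rw [ck x']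
    _ = n * (k * (x' * y' * x'⁻¹ * (n⁻¹ * y'⁻¹))) * k⁻¹ := by group
    _ = n * ((x' * y' * x'⁻¹ * (n⁻¹ * y'⁻¹)) * k) * k⁻¹ := by rw [ck]
    _ = (n * (x' * y' * x'⁻¹)) * n⁻¹ * y'⁻¹ := by group
    _ = ((x' * y' * x'⁻¹) * n) * n⁻¹ * y'⁻¹ := by rw [cn]
    _ = x' * y' * x'⁻¹ * y'⁻¹ := by group

omit [Fintype F] [Finite A] in
theorem comm_mul_left (h : _root_.Cfsg.Agent.OddCyclic.CaseECovA.Ext C T π) {x y e : A} (hy : π ⁅y, e⁆ = 1) :
    ⁅x * y, e⁆ = ⁅x, e⁆ * ⁅y, e⁆ := by
  have h1 : ⁅x * y, e⁆ = x * ⁅y, e⁆ * x⁻¹ * ⁅x, e⁆ := by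
    simp only [commutatorElement_def]; group
  rw [h1, ← h.cen _ hy x, mul_inv_cancel_right, h.cen _ hy]

omit [Fintype F] [Finite A] in
theorem comm_mul_right (h : _root_.Cfsg.Agent.OddCyclic.CaseECovA.Ext C T π) {x e e' : A} (hy : π ⁅x, e'⁆ = 1) :
    ⁅x, e * e'⁆ = ⁅x, e⁆ * ⁅x, e'⁆ := by
  have h1 : ⁅x, e * e'⁆ = ⁅x, e⁆ * (e * ⁅x, e'⁆ * e⁻¹) := by
    simp only [commutatorElement_def]; group
  rw [h1, ← h.cen _ hy e, mul_inv_cancel_right]

omit [Fintype F] [Finite A] in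
theorem pi_comm {x e : A} {a b c : F} (hx : π x = C.p a b) (he : π e = C.p 0 c) :
    π ⁅x, e⁆ = 1 := by
  rw [map_commutatorElement, hx, he, commutatorElement_eq_one_iff_mul_comm, C.comm_zero]

omit [Fintype F] [Finite A] in
theorem comm_sq (h : _root_.Cfsg.Agent.OddCyclic.CaseECovA.Ext C T π) {x e : A} {a b c : F} (hx : π x = C.p a b) (he : π e = C.p 0 c) :
    ⁅x, e⁆ * ⁅x, e⁆ = 1 := by
  rw [← comm_mul_right h (pi_comm hx he)]
  have h1 : π (e * e) = 1 := by
    rw [map_mul, he, C.p_sq, zero_pow (by positivity), C.p_zero]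
  rw [commutatorElement_eq_one_iff_mul_comm]
  exact (h.cen _ h1 x).symm

/-- `E^` is abelian -/
theorem comm_E (h : _root_.Cfsg.Agent.OddCyclic.CaseECovA.Ext C T π) (hm : 1 ≤ m) (hF : Fintype.card F = 2 ^ (2 * m + 1)) {e e' : A}
    {b b' : F} (he : π e = C.p 0 b) (he' : π e' = C.p 0 b') : ⁅e, e'⁆ = 1 := by
  by_contra hne
  obtain ⟨N, -, -, hcN, h1, -⟩ := h.quot hm hF (I := ⊥) (fun x hx => by
    rw [Subgroup.mem_bot] at hx; rw [hx, map_one]) (pi_comm he he') (comm_sq h he he')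
    (by rw [Subgroup.mem_bot]; exact hne)
  exact hcN (h1 e e' ⟨b, he⟩ ⟨b', he'⟩)

/-- elements outside `E^` act nontrivially on `E^` -/
theorem exists_ne (h : _root_.Cfsg.Agent.OddCyclic.CaseECovA.Ext C T π) (hm : 1 ≤ m) (hF : Fintype.card F = 2 ^ (2 * m + 1)) {c : A}
    (hc : π c = 1) (hc2 : c * c = 1) (hc1 : c ≠ 1) {x : A} {a b : F} (hx : π x = C.p a b)
    (ha : a ≠ 0) : ∃ e, (∃ b', π e = C.p 0 b') ∧ ⁅x, e⁆ ≠ 1 := by
  obtain ⟨N, -, -, -, -, h1⟩ := h.quot hm hF (I := ⊥) (fun x hx => by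
    rw [Subgroup.mem_bot] at hx; rw [hx, map_one]) hc hc2 (by rw [Subgroup.mem_bot]; exact hc1)
  obtain ⟨e, he, hne⟩ := h1 x a b hx ha
  exact ⟨e, he, fun h2 => hne (by rw [h2]; exact one_mem N)⟩

/-- `q = 8` and at least three central involutions: an element outside `E^` commutes with at most one coset
`≠ Z` of `Z` in `E^`. -/
theorem false_of_eight (h : _root_.Cfsg.Agent.OddCyclic.CaseECovA.Ext C T π) (hm : 1 ≤ m) (hF : Fintype.card F = 2 ^ (2 * m + 1))
    (h8 : Fintype.card F = 8) {c c' : A} (hc : π c = 1) (hc2 : c * c = 1) (hc1 : c ≠ 1)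
    (hc' : π c' = 1) (hc2' : c' * c' = 1) (hc1' : c' ≠ 1) (hcc : c ≠ c') {x : A} {a b : F}
    (hx : π x = C.p a b) (ha : a ≠ 0) {e e' : A} {b₁ b₂ : F} (he : π e = C.p 0 b₁)
    (he' : π e' = C.p 0 b₂) (hb₁ : b₁ ≠ 0) (hb₂ : b₂ ≠ 0) (hb : b₁ ≠ b₂) (hxe : ⁅x, e⁆ = 1)
    (hxe' : ⁅x, e'⁆ = 1) : False := by
  classical
  choose l hl using fun b => h.surj (C.p 0 b)
  have hadd : ∀ u v, ⁅x, l (u + v)⁆ = ⁅x, l u⁆ * ⁅x, l v⁆ := by
    intro u v
    rw [← comm_mul_right h (pi_comm hx (hl v))]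
    exact comm_ker h rfl (by rw [map_mul, hl, hl, hl, C.p_zero_mul])
  have hval : ∀ (w : A) (u : F), π w = C.p 0 u → ⁅x, w⁆ = ⁅x, l u⁆ := fun w u hw =>
    comm_ker h rfl (by rw [hw, hl])
  have hsq : ∀ u, ⁅x, l u⁆ * ⁅x, l u⁆ = 1 := fun u => comm_sq h hx (hl u)
  have h1 : ⁅x, l b₁⁆ = 1 := by rw [← hval e b₁ he, hxe]
  have h2 : ⁅x, l b₂⁆ = 1 := by rw [← hval e' b₂ he', hxe']
  -- the values
  have key : ∀ u v, ⁅x, l u⁆ ≠ 1 → ⁅x, l v⁆ ≠ 1 → ⁅x, l u⁆ = ⁅x, l v⁆ := by
    intro u v hu hv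
    by_contra hne
    -- the four cosets of `{0, b₁, b₂, b₁ + b₂}` containing `0, u, v, u + v`
    have hinj : Function.Injective (fun i : Fin 3 × Bool × Bool =>
        (if i.1 = 0 then 0 else if i.1 = 1 then u else v) + (if i.2.1 then b₁ else 0) +
          (if i.2.2 then b₂ else 0)) := by
      have hc3 : ∀ w : F, ∀ i j : Bool, ⁅x, l (w + (if i then b₁ else 0) +
          (if j then b₂ else 0))⁆ = ⁅x, l w⁆ := by
        intro w i j
        have h0 : ⁅x, l 0⁆ = 1 := by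
          have := hadd 0 0
          rw [add_zero] at this
          exact mul_eq_left.mp this.symm
        rw [hadd, hadd]
        have e1 : ⁅x, l (if i then b₁ else 0)⁆ = 1 := by
          cases i
          · simpa using h0
          · simpa using h1
        have e2 : ⁅x, l (if j then b₂ else 0)⁆ = 1 := by
          cases j
          · simpa using h0
          · simpa using h2
        rw [e1, e2, mul_one, mul_one]
      rintro ⟨i, i₁, i₂⟩ ⟨j, j₁, j₂⟩ hij
      simp only at hij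
      have h3 := congrArg (fun w => ⁅x, l w⁆) hij
      simp only [hc3] at h3
      have h0 : ⁅x, l 0⁆ = 1 := by
        have := hadd 0 0
        rw [add_zero] at this
        exact mul_eq_left.mp this.symm
      have hij1 : i = j := by
        fin_cases i <;> fin_cases j <;>
          simp_all only [Ne.symm hne, eq_comm, _root_.ne_eq, _root_.Bool.forall_bool, _root_.Bool.false_eq_true, ↓ _root_.reduceIte, _root_.mul_one, _root_.left_eq_mul, _root_.and_self, _root_.implies_true, _root_.Fin.zero_eta, _root_.Fin.isValue, _root_.zero_add, _root_.Fin.mk_one, _root_.one_ne_zero, _root_.Fin.reduceFinMk, _root_.Fin.reduceEq]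
      subst hij1
      have h4 : (if i₁ then b₁ else 0) + (if i₂ then b₂ else 0) =
          (if j₁ then b₁ else 0) + (if j₂ then b₂ else 0) := by
        rw [add_assoc, add_assoc] at hij
        exact add_left_cancel hij
      have h5 : i₁ = j₁ ∧ i₂ = j₂ := by
        have hb12 : b₁ + b₂ ≠ 0 := fun h => hb (CharTwo.add_eq_zero.mp h)
        revert h4
        cases i₁ <;> cases i₂ <;> cases j₁ <;> cases j₂ <;>
          simp [hb₁, hb₂, hb, Ne.symm hb, hb12, Ne.symm hb₁, Ne.symm hb₂, Ne.symm hb12]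
      rw [h5.1, h5.2]
    have h6 := Fintype.card_le_of_injective _ hinj
    rw [h8] at h6
    simp at h6
  -- an involution outside the image
  obtain ⟨d, hd, hd2, hd1, hdn⟩ : ∃ d, π d = 1 ∧ d * d = 1 ∧ d ≠ 1 ∧ ∀ u, ⁅x, l u⁆ ≠ d := by
    by_cases h3 : ∃ u, ⁅x, l u⁆ = c
    · refine ⟨c', hc', hc2', hc1', fun v hv => hcc ?_⟩
      obtain ⟨u, hu⟩ := h3
      rw [← hu, ← hv]
      exact key u v (by rw [hu]; exact hc1) (by rw [hv]; exact hc1')
    · push Not at h3
      exact ⟨c, hc, hc2, hc1, h3⟩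
  -- the image is contained in a subgroup `I` without `d`
  let I : Subgroup A :=
    { carrier := {y | ∃ u, y = ⁅x, l u⁆}
      mul_mem' := by
        rintro _ _ ⟨u, rfl⟩ ⟨v, rfl⟩
        exact ⟨u + v, (hadd u v).symm⟩
      one_mem' := ⟨b₁, h1.symm⟩
      inv_mem' := by
        rintro _ ⟨u, rfl⟩
        exact ⟨u, inv_eq_of_mul_eq_one_right (hsq u)⟩ }
  obtain ⟨N, hIN, -, -, -, h5⟩ := h.quot hm hF (I := I) (by
    rintro _ ⟨u, rfl⟩
    exact pi_comm hx (hl u)) hd hd2 (by rintro ⟨u, hu⟩; exact hdn u hu.symm)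
  obtain ⟨w, ⟨b', hw⟩, hwN⟩ := h5 x a b hx ha
  exact hwN (hIN ⟨b', hval w b' hw⟩)

/-- one central involution `z` -/
structure Alpha (C : Data m F S) (π : A →* S) (z : A) : Prop where
  val : ∀ x e a b c, π x = C.p a b → π e = C.p 0 c → ⁅x, e⁆ = 1 ∨ ⁅x, e⁆ = z
  right : ∀ e c, π e = C.p 0 c → c ≠ 0 → ∃ x a b, π x = C.p a b ∧ ⁅x, e⁆ = z
  /-- `C_E(C_Q(k)) = Z ∪ Zk` -/
  two : ∀ e k c c', π e = C.p 0 c → π k = C.p 0 c' → c' ≠ 0 →
    (∀ x a b, π x = C.p a b → ⁅x, k⁆ = 1 → ⁅x, e⁆ = 1) → c = 0 ∨ c = c'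

theorem alpha (h : _root_.Cfsg.Agent.OddCyclic.CaseECovA.Ext C T π) (hm : 1 ≤ m) (hF : Fintype.card F = 2 ^ (2 * m + 1)) {z : A}
    (hz : π z = 1) (hz2 : z * z = 1) (hz1 : z ≠ 1) (hu : ∀ x, π x = 1 → x * x = 1 → x = 1 ∨ x = z) :
    Alpha C π z := by
  let P : Subgroup A := T.comap π
  have hP : ∀ x, x ∈ P ↔ π x ∈ T := fun x => Iff.rfl
  have hcov : Cov C π P z :=
    { cen := h.cen
      to_p := fun x hx => (h.memT _).1 hx
      from_p := by
        intro a b
        obtain ⟨x, hx⟩ := h.surj (C.p a b)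
        exact ⟨x, by rw [hP, hx]; exact (h.memT _).2 ⟨a, b, rfl⟩, hx⟩
      tor := fun l => h.surj _
      tor_P := by
        intro g l hg x hx
        rw [hP, map_mul, map_mul, map_inv, hg]
        obtain ⟨a, b, hab⟩ := (h.memT _).1 hx
        rw [hab, C.h_p]
        exact (h.memT _).2 ⟨_, _, rfl⟩
      t_mem := by rw [hP, hz]; exact one_mem T
      t_one := hz1
      t_sq := hz2
      t_ker := hz
      uniq := fun x _ hx1 hx2 => hu x hx1 hx2 }
  have hodd : Odd P.index := by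
    have : P.index = T.index := Subgroup.index_comap_of_surjective _ h.surj
    rw [this]; exact h.oddT
  have hcom : (⟨z, hcov.t_mem⟩ : P) ∈ commutator P :=
    mem_commutator_of_central P hodd _ hcov.t_mem (fun g => hcov.cen _ hcov.t_ker g) hcov.t_sq
      (by rw [h.perf]; exact Subgroup.mem_top _)
  obtain ⟨zh, Z, hval, hleft, hright⟩ := hcov.main hm hF hcom
  have hmem : ∀ x a b, π x = C.p a b → x ∈ P := fun x a b hx => by
    rw [hP, hx]; exact (h.memT _).2 ⟨a, b, rfl⟩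
  have hR : ∀ e c, π e = C.p 0 c → c ≠ 0 → ∃ x a b, π x = C.p a b ∧ ⁅x, e⁆ = z := by
    intro e c he hc
    obtain ⟨x, hx, hxz⟩ := hright c hc
    obtain ⟨a, b, hab⟩ := hcov.to_p x hx
    exact ⟨x, a, b, hab, by rw [← hxz]; exact comm_ker h rfl (by rw [he, Z.pi])⟩
  have hV : ∀ x e a b c, π x = C.p a b → π e = C.p 0 c → ⁅x, e⁆ = 1 ∨ ⁅x, e⁆ = z := by
    intro x e a b c hx he
    have h1 := hval x (hmem x a b hx) c
    rwa [comm_ker h (x' := x) (y' := zh c) (x := x) (y := e) rfl (by rw [he, Z.pi])]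
  refine ⟨hV, hR, ?_⟩
  intro e k c c' he hk hc' hall
  by_contra hcon
  push Not at hcon
  obtain ⟨hc, hcc⟩ := hcon
  obtain ⟨x₁, a₁, b₁, hx₁, h1⟩ := hR e c he hc
  have h2 : ⁅x₁, k⁆ = z := by
    rcases hV x₁ k a₁ b₁ c' hx₁ hk with h3 | h3
    · have := hall x₁ a₁ b₁ hx₁ h3
      rw [h1] at this
      exact absurd this hz1
    · exact h3
  -- `[x, e] = [x, k]` for all `x`
  have h3 : ∀ x a b, π x = C.p a b → ⁅x, e⁆ = ⁅x, k⁆ := by
    intro x a b hx
    rcases hV x k a b c' hx hk with h4 | h4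
    · rw [h4, hall x a b hx h4]
    · -- `x = x₁ (x₁⁻¹ x)`
      obtain ⟨y, hy⟩ : ∃ y, y = x₁⁻¹ * x := ⟨_, rfl⟩
      have hxy : x = x₁ * y := by rw [hy]; group
      obtain ⟨a', b', hy'⟩ : ∃ a' b', π y = C.p a' b' := by
        apply (h.memT _).1
        rw [hy, map_mul, map_inv]
        exact mul_mem (inv_mem ((h.memT _).2 ⟨a₁, b₁, hx₁⟩)) ((h.memT _).2 ⟨a, b, hx⟩)
      have h5 : ⁅y, k⁆ = 1 := by
        have h6 := comm_mul_left h (x := x₁) (pi_comm hy' hk)
        rw [← hxy, h4, h2] at h6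
        exact (mul_eq_left.mp h6.symm)
      have h7 := comm_mul_left h (x := x₁) (pi_comm hy' he)
      rw [← hxy, h1, hall y a' b' hy' h5, mul_one] at h7
      rw [h7, h4]
  have he' : π (e * k) = C.p 0 (c + c') := by rw [map_mul, he, hk, C.p_zero_mul]
  have hne : c + c' ≠ 0 := fun h0 => hcc (CharTwo.add_eq_zero.mp h0)
  obtain ⟨x, a, b, hx, hxz⟩ := hR (e * k) _ he' hne
  have h8 := comm_mul_right h (e := e) (pi_comm hx hk)
  rw [h3 x a b hx, comm_sq h hx hk, hxz] at h8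
  exact hz1 h8

end Cfsg.Agent.OddCyclic.CaseECovB
end

-- part: OddCyclic/CaseECovC
section
/-!
# S0342, component type, case E, covers: the group `G`

`K` a standard component of `G` with `Z(K) ≠ 1`, `K / Z(K) ≅ Sz(q)`. `CQ K Q E q`: the facts on `K`; `Q` a Sylow
2-subgroup of `K`, `E / Z(K) = Z(Q / Z(K))`. `setup`: a conjugate `g z g⁻¹ = k c`, `k ∈ E`, `c ∈ C(K)` of a central
involution `z` of `K`. `false_of_beta`: `Z(K)` contains only one involution (`q = 8`).
-/

set_option autoImplicit false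

namespace Cfsg.Agent.OddCyclic.CaseECovC

open Subgroup
open scoped commutatorElement
open Cfsg.Agent.LieExceptional.CITDefs
open Cfsg.Agent.OddCyclic.CompStandard Cfsg.Agent.OddCyclic.CaseABase

variable {G : Type*} [Group G]

/-- facts on a cover `K` of `Sz(q)`; `Q`, `E` are the preimages of a Sylow 2-subgroup and its centre -/
structure CQ (K Q E : Subgroup G) (q : ℕ) : Prop where
  leK : Q ≤ K
  leQ : E ≤ Q
  two : IsPGroup 2 Q
  cenE : ∀ x ∈ K, x ∈ centralizer (K : Set G) → x ∈ E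
  cent : ∀ x ∈ K, ∀ e ∈ E, e ∉ centralizer (K : Set G) → ⁅x, e⁆ ∈ centralizer (K : Set G) → x ∈ Q
  sqE : ∀ x ∈ Q, (x ∈ E ↔ x * x ∈ centralizer (K : Set G))
  comE : ∀ e ∈ E, ∀ e' ∈ E, e * e' = e' * e
  comQ : ∀ x ∈ Q, ∀ e ∈ E, ⁅x, e⁆ ∈ centralizer (K : Set G)
  root : ∀ e ∈ E, ∃ x ∈ Q, e⁻¹ * (x * x) ∈ centralizer (K : Set G)
  out : ∀ x ∈ Q, (∀ e ∈ E, x * e = e * x) → x ∈ E
  big : ∀ a ∈ Q, a ∉ E → ∀ x ∈ Q, ⁅a, x⁆ ∈ centralizer (K : Set G) → x ∈ E ∨ a⁻¹ * x ∈ E
  conj : ∀ k ∈ K, k * k ∈ centralizer (K : Set G) → ∃ g ∈ K, g * k * g⁻¹ ∈ E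
  cardE : Nat.card E = q * Nat.card (K ⊓ centralizer (K : Set G) : Subgroup G)
  cardQ : Nat.card Q = q ^ 2 * Nat.card (K ⊓ centralizer (K : Set G) : Subgroup G)
  inner : ∀ x ∈ normalizer (K : Set G), (∃ n : ℕ, x ^ 2 ^ n = 1) →
    ∃ k ∈ K, ∃ c ∈ centralizer (K : Set G), x = k * c

/-- `|Z(K)|` has at least three involutions: an element outside `E` commutes with at most one coset `≠ Z` of `E` -/
def CBeta (K Q E : Subgroup G) : Prop :=
  ∀ x ∈ Q, x ∉ E → ∀ e ∈ E, ∀ e' ∈ E, e ∉ centralizer (K : Set G) → e' ∉ centralizer (K : Set G) →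
    e⁻¹ * e' ∉ centralizer (K : Set G) → x * e = e * x → x * e' = e' * x → False

section

variable [Finite G] {p q : ℕ} {K Q E : Subgroup G}

omit [Finite G] in
theorem CQ.cen_two (cq : CQ K Q E q) {x : G} (hK : x ∈ K) (hC : x ∈ centralizer (K : Set G)) :
    ∃ n : ℕ, x ^ 2 ^ n = 1 := mem_of_pow_two cq.two (cq.leQ (cq.cenE x hK hC))

omit [Finite G] in
theorem cen_comm {K : Subgroup G} {x y : G} (hK : x ∈ K) (hC : x ∈ centralizer (K : Set G))
    (hy : ∃ k ∈ K, ∃ c ∈ centralizer (K : Set G), y = k * c) : x * y = y * x := by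
  obtain ⟨k, hk, c, hc, rfl⟩ := hy
  have h1 := centralizer_comm hC hk
  have h2 := centralizer_comm hc hK
  calc x * (k * c) = (k * x) * c := by rw [h1]; group
    _ = k * (c * x) := by rw [mul_assoc, h2]
    _ = k * c * x := by group

/-- a conjugate of a central involution of `K` -/
theorem setup (h : Std p K) (cq : CQ K Q E q) {z : G} (hzK : z ∈ K)
    (hzC : z ∈ centralizer (K : Set G)) (hz2 : orderOf z = 2) {g : G}
    (hg : g ∉ normalizer (K : Set G))
    (hev : Even (Nat.card (cj g (centralizer (K : Set G)) ⊓ normalizer (K : Set G) : Subgroup G))) :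
    ∃ g : G, g ∉ normalizer (K : Set G) ∧
      (∀ n ∈ K, n ∈ centralizer (K : Set G) → n ∈ cj g (normalizer (K : Set G))) ∧
      (∀ n ∈ K, n ∈ centralizer (K : Set G) → g * n * g⁻¹ ∈ normalizer (K : Set G)) ∧
      (∀ n ∈ K, n ∈ centralizer (K : Set G) → ∀ n' ∈ K, n' ∈ centralizer (K : Set G) →
        n * (g * n' * g⁻¹) = (g * n' * g⁻¹) * n) ∧
      ∃ k ∈ E, k ∉ centralizer (K : Set G) ∧ ∃ c ∈ centralizer (K : Set G), g * z * g⁻¹ = k * c := by
  obtain ⟨v, ⟨hvY, hvM⟩, hv2⟩ := exists_involution hev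
  -- `Z(K) ≤ M^g`
  have h1 : ∀ n ∈ K, n ∈ centralizer (K : Set G) → n ∈ cj g (normalizer (K : Set G)) := by
    intro n hnK hnC
    apply h.centralizer_le_cj hv2 hvY
    rw [mem_centralizer_singleton_iff]
    exact cen_comm hnK hnC (cq.inner v hvM ⟨1, by rw [pow_one, pow_two, sq_of_orderOf hv2]⟩)
  -- `[Z(K), Z(K)^g] = 1`
  have h2 : ∀ n ∈ K, n ∈ centralizer (K : Set G) → ∀ n' ∈ K, n' ∈ centralizer (K : Set G) →
      n * (g * n' * g⁻¹) = (g * n' * g⁻¹) * n := by
    intro n hnK hnC n' hnK' hnC'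
    obtain ⟨i, hi⟩ := cq.cen_two hnK hnC
    have h3 := cen_comm hnK' hnC' (cq.inner (g⁻¹ * n * g) (mem_cj.mp (h1 n hnK hnC)) ⟨i, by
      have e : g⁻¹ * n * g = g⁻¹ * n * g⁻¹⁻¹ := by group
      rw [e, conj_pow, hi]; group⟩)
    calc n * (g * n' * g⁻¹) = g * ((g⁻¹ * n * g) * n') * g⁻¹ := by group
      _ = g * (n' * (g⁻¹ * n * g)) * g⁻¹ := by rw [h3]
      _ = g * n' * g⁻¹ * n := by group
  -- `Z(K)^g ≤ M`
  have h3 : ∀ n ∈ K, n ∈ centralizer (K : Set G) → g * n * g⁻¹ ∈ normalizer (K : Set G) := by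
    intro n hnK hnC
    apply h.le_normalizer hz2 hzC
    rw [mem_centralizer_singleton_iff]
    exact (h2 z hzK hzC n hnK hnC).symm
  -- the conjugate
  have hw2 : orderOf (g * z * g⁻¹) = 2 := by rw [CompStandard.orderOf_conj, hz2]
  obtain ⟨k, hk, c, hc, hkc⟩ := cq.inner (g * z * g⁻¹) (h3 z hzK hzC)
    ⟨1, by rw [pow_one, pow_two, sq_of_orderOf hw2]⟩
  have hkk : k * k ∈ centralizer (K : Set G) := by
    have h4 := sq_of_orderOf hw2
    rw [hkc] at h4
    have h5 := centralizer_comm hc hk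
    have h6 : k * k = (c * c)⁻¹ := by
      rw [eq_inv_iff_mul_eq_one]
      calc k * k * (c * c) = k * (k * c) * c := by group
        _ = k * (c * k) * c := by rw [h5]
        _ = k * c * (k * c) := by group
        _ = 1 := h4
    rw [h6]
    exact inv_mem (mul_mem hc hc)
  obtain ⟨g₁, hg₁, hk₁⟩ := cq.conj k hk hkk
  have hg₁M : g₁ ∈ normalizer (K : Set G) := Subgroup.le_normalizer hg₁
  have hfix : ∀ n ∈ K, n ∈ centralizer (K : Set G) → g₁ * n * g₁⁻¹ = n := by
    intro n _ hnC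
    rw [centralizer_comm hnC hg₁, mul_inv_cancel_right]
  have hkC : k ∉ centralizer (K : Set G) := by
    intro hkC
    apply hg
    refine h.mem_of_involution hw2 (by rw [hkc]; exact mul_mem hkC hc) ?_
    exact conj_mem_cj hzC
  refine ⟨g₁ * g, fun hgg => hg ?_, ?_, ?_, ?_, g₁ * k * g₁⁻¹, hk₁, ?_, g₁ * c * g₁⁻¹, ?_, ?_⟩
  · have := mul_mem (inv_mem hg₁M) hgg
    rwa [inv_mul_cancel_left] at this
  · intro n hnK hnC
    rw [cj_mul]
    have := conj_mem_cj (g := g₁) (h1 n hnK hnC)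
    rwa [hfix n hnK hnC] at this
  · intro n hnK hnC
    have e : g₁ * g * n * (g₁ * g)⁻¹ = g₁ * (g * n * g⁻¹) * g₁⁻¹ := by group
    rw [e]
    exact mul_mem (mul_mem hg₁M (h3 n hnK hnC)) (inv_mem hg₁M)
  · intro n hnK hnC n' hnK' hnC'
    have e : g₁ * g * n' * (g₁ * g)⁻¹ = g₁ * (g * n' * g⁻¹) * g₁⁻¹ := by group
    rw [e]
    have h4 := h2 n hnK hnC n' hnK' hnC'
    have h5 := hfix n hnK hnC
    calc n * (g₁ * (g * n' * g⁻¹) * g₁⁻¹)
        = (g₁ * n * g₁⁻¹) * (g₁ * (g * n' * g⁻¹) * g₁⁻¹) := by rw [h5]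
      _ = g₁ * (n * (g * n' * g⁻¹)) * g₁⁻¹ := by group
      _ = g₁ * ((g * n' * g⁻¹) * n) * g₁⁻¹ := by rw [h4]
      _ = (g₁ * (g * n' * g⁻¹) * g₁⁻¹) * (g₁ * n * g₁⁻¹) := by group
      _ = _ := by rw [h5]
  · intro h4
    apply hkC
    have h5 := normal_cent K g₁⁻¹ (inv_mem hg₁M) _ h4
    have e : g₁⁻¹ * (g₁ * k * g₁⁻¹) * g₁⁻¹⁻¹ = k := by group
    rwa [e] at h5
  · exact normal_cent K g₁ hg₁M c hc
  · have e : g₁ * g * z * (g₁ * g)⁻¹ = g₁ * (g * z * g⁻¹) * g₁⁻¹ := by group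
    rw [e, hkc]; group

omit [Finite G] in
theorem comm_mem_of_comm {k k' c c' : G} (hk : k ∈ K) (hk' : k' ∈ K)
    (hc : c ∈ centralizer (K : Set G)) (hc' : c' ∈ centralizer (K : Set G))
    (h : (k * c) * (k' * c') = (k' * c') * (k * c)) : ⁅k, k'⁆ ∈ centralizer (K : Set G) := by
  have h1 := centralizer_comm hc hk'
  have h2 := centralizer_comm hc' hk
  have h3 : k * k' * (c * c') = k' * k * (c' * c) := by
    calc k * k' * (c * c') = k * (k' * c) * c' := by group
      _ = k * (c * k') * c' := by rw [h1]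
      _ = (k * c) * (k' * c') := by group
      _ = (k' * c') * (k * c) := h
      _ = k' * (c' * k) * c := by group
      _ = k' * (k * c') * c := by rw [h2]
      _ = _ := by group
  have hmem : c' * c * (c * c')⁻¹ ∈ centralizer (K : Set G) :=
    mul_mem (mul_mem hc' hc) (inv_mem (mul_mem hc hc'))
  have h4 : k * k' = (k' * k) * (c' * c * (c * c')⁻¹) := by
    calc k * k' = k * k' * (c * c') * (c * c')⁻¹ := by group
      _ = _ := by rw [h3]; group
  have h5 := centralizer_comm hmem (mul_mem hk' hk)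
  rw [commutatorElement_def]
  have h6 : k * k' * k⁻¹ * k'⁻¹ = c' * c * (c * c')⁻¹ := by
    calc k * k' * k⁻¹ * k'⁻¹ = (k * k') * (k' * k)⁻¹ := by group
      _ = ((k' * k) * (c' * c * (c * c')⁻¹)) * (k' * k)⁻¹ := by rw [h4]
      _ = _ := by rw [h5]; group
  rw [h6]
  exact hmem

/-- `Z(K)` contains only one involution -/
theorem false_of_beta (h : Std p K) (cq : CQ K Q E q) (hb : CBeta K Q E) {z z' : G} (hzK : z ∈ K)
    (hzC : z ∈ centralizer (K : Set G)) (hz2 : orderOf z = 2) (hzK' : z' ∈ K)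
    (hzC' : z' ∈ centralizer (K : Set G)) (hz2' : orderOf z' = 2) (hne : z ≠ z') {g : G}
    (hg : g ∉ normalizer (K : Set G))
    (hev : Even (Nat.card (cj g (centralizer (K : Set G)) ⊓ normalizer (K : Set G) : Subgroup G))) :
    False := by
  obtain ⟨g, hg, h1, h2, h3, k, hk, hkC, c, hc, hkc⟩ := setup h cq hzK hzC hz2 hg hev
  have hkK : k ∈ K := cq.leK (cq.leQ hk)
  obtain ⟨x, hx, hxk⟩ := cq.root k hk
  have hxK : x ∈ K := cq.leK hx
  have hxE : x ∉ E := by
    intro hxE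
    apply hkC
    have h4 := (cq.sqE x hx).1 hxE
    have h5 : k = (x * x) * (k⁻¹ * (x * x))⁻¹ := by group
    rw [h5]
    exact mul_mem h4 (inv_mem hxk)
  -- `x` commutes with `k`
  have hxk' : x * k = k * x := by
    have h5 : k = (x * x) * (k⁻¹ * (x * x))⁻¹ := by group
    have h6 := centralizer_comm (inv_mem hxk) hxK
    calc x * k = x * ((x * x) * (k⁻¹ * (x * x))⁻¹) := by rw [← h5]
      _ = (x * x) * (x * (k⁻¹ * (x * x))⁻¹) := by group
      _ = (x * x) * ((k⁻¹ * (x * x))⁻¹ * x) := by rw [h6]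
      _ = ((x * x) * (k⁻¹ * (x * x))⁻¹) * x := by group
      _ = k * x := by rw [← h5]
  -- `x ∈ C_G(w) ≤ M^g`
  have hw2 : orderOf (g * z * g⁻¹) = 2 := by rw [CompStandard.orderOf_conj, hz2]
  have hwY : g * z * g⁻¹ ∈ cj g (centralizer (K : Set G)) := conj_mem_cj hzC
  have hxw : x * (g * z * g⁻¹) = (g * z * g⁻¹) * x := by
    rw [hkc]
    have h4 := centralizer_comm hc hxK
    calc x * (k * c) = (x * k) * c := by group
      _ = k * (x * c) := by rw [hxk']; group
      _ = k * c * x := by rw [h4]; group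
  have hxM : x ∈ cj g (normalizer (K : Set G)) :=
    h.centralizer_le_cj hw2 hwY (mem_centralizer_singleton_iff.mpr hxw)
  obtain ⟨i, hi⟩ := mem_of_pow_two cq.two hx
  -- `x` commutes with `w' = g z' g⁻¹`
  have hxw' : x * (g * z' * g⁻¹) = (g * z' * g⁻¹) * x := by
    have h4 := cen_comm hzK' hzC' (cq.inner (g⁻¹ * x * g) (mem_cj.mp hxM) ⟨i, by
      have e : g⁻¹ * x * g = g⁻¹ * x * g⁻¹⁻¹ := by group
      rw [e, conj_pow, hi]; group⟩)
    calc x * (g * z' * g⁻¹) = g * ((g⁻¹ * x * g) * z') * g⁻¹ := by group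
      _ = g * (z' * (g⁻¹ * x * g)) * g⁻¹ := by rw [h4]
      _ = g * z' * g⁻¹ * x := by group
  have hw2' : orderOf (g * z' * g⁻¹) = 2 := by rw [CompStandard.orderOf_conj, hz2']
  obtain ⟨k', hk', c', hc', hkc'⟩ := cq.inner (g * z' * g⁻¹) (h2 z' hzK' hzC')
    ⟨1, by rw [pow_one, pow_two, sq_of_orderOf hw2']⟩
  have hkk' : k' * k' ∈ centralizer (K : Set G) := by
    have h4 := sq_of_orderOf hw2'
    rw [hkc'] at h4
    have h5 := centralizer_comm hc' hk'
    have h6 : k' * k' = (c' * c')⁻¹ := by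
      rw [eq_inv_iff_mul_eq_one]
      calc k' * k' * (c' * c') = k' * (k' * c') * c' := by group
        _ = k' * (c' * k') * c' := by rw [h5]
        _ = k' * c' * (k' * c') := by group
        _ = 1 := h4
    rw [h6]
    exact inv_mem (mul_mem hc' hc')
  -- `w` and `w'` commute
  have hzz : z * z' = z' * z := centralizer_comm hzC' hzK
  have hww : (k' * c') * (k * c) = (k * c) * (k' * c') := by
    rw [← hkc, ← hkc']
    calc g * z' * g⁻¹ * (g * z * g⁻¹) = g * (z' * z) * g⁻¹ := by group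
      _ = g * (z * z') * g⁻¹ := by rw [hzz]
      _ = _ := by group
  have hk'Q : k' ∈ Q := cq.cent k' hk' k hk hkC (comm_mem_of_comm hk' hkK hc' hc hww)
  have hk'E : k' ∈ E := (cq.sqE k' hk'Q).2 hkk'
  have hk'C : k' ∉ centralizer (K : Set G) := by
    intro h4
    apply hg
    refine h.mem_of_involution hw2' (by rw [hkc']; exact mul_mem h4 hc') ?_
    exact conj_mem_cj hzC'
  have hkk'C : k⁻¹ * k' ∉ centralizer (K : Set G) := by
    intro h4
    apply hg
    have h5 : g * (z⁻¹ * z') * g⁻¹ = (k⁻¹ * k') * (c⁻¹ * c') := by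
      have h6 := centralizer_comm (inv_mem hc) (mul_mem (inv_mem hkK) hk')
      calc g * (z⁻¹ * z') * g⁻¹ = (g * z * g⁻¹)⁻¹ * (g * z' * g⁻¹) := by group
        _ = c⁻¹ * (k⁻¹ * k') * c' := by rw [hkc, hkc']; group
        _ = (k⁻¹ * k') * c⁻¹ * c' := by rw [h6]
        _ = _ := by group
    have h7 : orderOf (z⁻¹ * z') = 2 := by
      apply orderOf_eq_two
      · rw [ne_eq, inv_mul_eq_one]; exact hne
      · have e1 := sq_of_orderOf hz2
        have e2 := sq_of_orderOf hz2'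
        have e3 : z⁻¹ = z := inv_eq_of_mul_eq_one_right e1
        rw [e3]
        calc z * z' * (z * z') = z * (z' * z) * z' := by group
          _ = z * (z * z') * z' := by rw [hzz]
          _ = (z * z) * (z' * z') := by group
          _ = 1 := by rw [e1, e2, one_mul]
    refine h.mem_of_involution (s := g * (z⁻¹ * z') * g⁻¹)
      (by rw [CompStandard.orderOf_conj, h7]) ?_ ?_
    · rw [h5]
      exact mul_mem h4 (mul_mem (inv_mem hc) hc')
    · exact conj_mem_cj (mul_mem (inv_mem hzC) hzC')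
  -- `x` commutes with `k'`
  have hxk'' : x * k' = k' * x := by
    rw [hkc'] at hxw'
    have h4 := centralizer_comm hc' hxK
    have h5 : x * k' * c' = k' * x * c' := by
      calc x * k' * c' = x * (k' * c') := by group
        _ = k' * c' * x := hxw'
        _ = k' * (c' * x) := by group
        _ = k' * (x * c') := by rw [h4]
        _ = _ := by group
    exact mul_right_cancel h5
  exact hb x hx hxE k hk k' hk'E hkC hk'C hkk'C hxk' hxk''

end

end Cfsg.Agent.OddCyclic.CaseECovC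
end

-- part: OddCyclic/CaseECovD
section
/-!
# S0342, component type, case E, covers: `|R| = 2`

If `z` is the only involution of `Z(K)` then the Sylow 2-subgroups of `C(K)` have order 2.
-/

set_option autoImplicit false

namespace Cfsg.Agent.OddCyclic.CaseECovD

open Subgroup
open scoped commutatorElement
open Cfsg.Agent.LieExceptional.CITDefs Cfsg.Agent.LieExceptional.CITBasic
open Cfsg.Agent.OddCyclic.CompStandard Cfsg.Agent.OddCyclic.CaseABase
open Cfsg.Agent.OddCyclic.CaseECovC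

variable {G : Type*} [Group G]

section count

variable [Finite G]

/-- a covering count -/
theorem card_cover (H Y N : Subgroup G) (V : Set G) (hN : N ≤ Y)
    (hVN : ∀ v ∈ V, ∀ n ∈ N, v * n ∈ V) (hcov : ∀ h ∈ H, ∃ v ∈ V, v⁻¹ * h ∈ Y) :
    Nat.card H * Nat.card N ≤ Nat.card V * Nat.card (H ⊓ Y : Subgroup G) := by
  classical
  choose v hvV hvY using fun h : H => hcov h h.2
  let f : H × N → V := fun x => ⟨v x.1 * x.2, hVN _ (hvV _) _ x.2.2⟩
  have hf : ∀ x : H × N, ((f x : V) : G) = v x.1 * x.2 := fun _ => rfl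
  -- representatives
  have hrep : ∀ u : V, ∃ h₀ : H, ∀ x : H × N, f x = u → ((h₀ : G))⁻¹ * x.1 ∈ Y := by
    intro u
    by_cases hu : ∃ x, f x = u
    · obtain ⟨x₀, hx₀⟩ := hu
      refine ⟨x₀.1, fun x hx => ?_⟩
      have h1 : v x₀.1 * x₀.2 = v x.1 * x.2 := by rw [← hf, ← hf, hx₀, hx]
      have h2 : ((x₀.1 : H) : G)⁻¹ * x.1 =
          ((v x₀.1)⁻¹ * x₀.1)⁻¹ * ((v x₀.1)⁻¹ * (v x.1)) * ((v x.1)⁻¹ * x.1) := by group
      have h3 : (v x₀.1)⁻¹ * (v x.1) = x₀.2 * (x.2 : G)⁻¹ := by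
        rw [inv_mul_eq_iff_eq_mul, ← mul_assoc, h1]
        group
      rw [h2, h3]
      exact mul_mem (mul_mem (inv_mem (hvY _)) (mul_mem (hN x₀.2.2) (inv_mem (hN x.2.2)))) (hvY _)
    · exact ⟨1, fun x hx => absurd ⟨x, hx⟩ hu⟩
  choose r hr using hrep
  let F : H × N → V × (H ⊓ Y : Subgroup G) := fun x =>
    (f x, ⟨(r (f x) : G)⁻¹ * x.1, Subgroup.mem_inf.mpr
      ⟨H.mul_mem (H.inv_mem (r (f x)).2) x.1.2, hr (f x) x rfl⟩⟩)
  have hF : Function.Injective F := by
    intro x y hxy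
    have h1 : f x = f y := congrArg Prod.fst hxy
    have h2 : (r (f x) : G)⁻¹ * x.1 = (r (f y) : G)⁻¹ * y.1 :=
      congrArg Subtype.val (congrArg Prod.snd hxy)
    rw [h1] at h2
    have h3 : x.1 = y.1 := Subtype.ext (mul_left_cancel h2)
    have h4 : v x.1 * x.2 = v y.1 * y.2 := by rw [← hf, ← hf, h1]
    rw [h3] at h4
    have h5 : x.2 = y.2 := Subtype.ext (mul_left_cancel h4)
    exact Prod.ext h3 h5
  have := Nat.card_le_card_of_injective F hF
  rwa [Nat.card_prod, Nat.card_prod] at this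

theorem card_le_two_mul {D Q : Subgroup G} (h : ∀ x ∈ Q, x ∉ D → ∀ y ∈ Q, y ∉ D → x⁻¹ * y ∈ D) :
    Nat.card Q ≤ 2 * Nat.card D := by
  classical
  by_cases hex : ∃ x ∈ Q, x ∉ D
  · obtain ⟨x₀, hx₀, hx₀D⟩ := hex
    let f : Q → D × Bool := fun x => if hx : (x : G) ∈ D then (⟨x, hx⟩, false) else
      (⟨x₀⁻¹ * x, h x₀ hx₀ hx₀D x x.2 hx⟩, true)
    have hf : Function.Injective f := by
      intro x y hxy
      by_cases hx : (x : G) ∈ D <;> by_cases hy : (y : G) ∈ D
      · simp only [f, hx, hy, dif_pos] at hxy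
        exact Subtype.ext (Subtype.mk.inj (congrArg Prod.fst hxy))
      · simp only [f, hx, hy, dif_pos] at hxy
        exact absurd (congrArg Prod.snd hxy) (by simp)
      · simp only [f, hx, hy, dif_pos] at hxy
        exact absurd (congrArg Prod.snd hxy) (by simp)
      · simp only [f, hx, hy] at hxy
        exact Subtype.ext (mul_left_cancel (congrArg Subtype.val (congrArg Prod.fst hxy)))
    have := Nat.card_le_card_of_injective f hf
    rw [Nat.card_prod, Nat.card_eq_fintype_card (α := Bool), Fintype.card_bool] at this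
    omega
  · push Not at hex
    have h1 : Nat.card Q ≤ Nat.card D := Subgroup.card_le_of_le hex
    omega

theorem card_le_two {B : Subgroup G} (h : ∀ b ∈ B, b ≠ 1 → ∀ b' ∈ B, b' ≠ 1 → b = b') :
    Nat.card B ≤ 2 := by
  have h1 := card_le_two_mul (D := ⊥) (Q := B) (fun x hx hx1 y hy hy1 => by
    rw [Subgroup.mem_bot] at hx1 hy1 ⊢
    rw [h x hx hx1 y hy hy1, inv_mul_cancel])
  rwa [Subgroup.card_bot, mul_one] at h1

end count

/-- `z` is the only involution of `Z(K)` -/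
structure CAlpha (K Q E : Subgroup G) (z : G) : Prop where
  zK : z ∈ K
  zC : z ∈ centralizer (K : Set G)
  z2 : orderOf z = 2
  val : ∀ x ∈ Q, ∀ e ∈ E, ⁅x, e⁆ = 1 ∨ ⁅x, e⁆ = z
  right : ∀ e ∈ E, e ∉ centralizer (K : Set G) → ∃ x ∈ Q, ⁅x, e⁆ = z
  two : ∀ e ∈ E, ∀ k ∈ E, k ∉ centralizer (K : Set G) → (∀ x ∈ Q, ⁅x, k⁆ = 1 → ⁅x, e⁆ = 1) →
    e ∈ centralizer (K : Set G) ∨ k⁻¹ * e ∈ centralizer (K : Set G)

variable [Finite G] {p q : ℕ} {K Q E : Subgroup G}

omit [Finite G] in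
theorem comm_iff {a b : G} : ⁅a, b⁆ = 1 ↔ a * b = b * a := commutatorElement_eq_one_iff_mul_comm

/-- the configuration -/
structure Cfg (K Q E : Subgroup G) (z w k c ρ : G) (U : Subgroup G) : Prop where
  kE : k ∈ E
  kC : k ∉ centralizer (K : Set G)
  cC : c ∈ centralizer (K : Set G)
  eq : w = k * c
  comm : z * w = w * z
  syl : IsSyl2 (centralizer {z} ⊓ centralizer {w}) U
  nU : cj ρ U = U
  nM : ρ ∉ normalizer (K : Set G)

theorem exists_cfg (h : Std p K) (cq : CQ K Q E q) {z : G} (ha : CAlpha K Q E z) {g : G}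
    (hg : g ∉ normalizer (K : Set G))
    (hev : Even (Nat.card (cj g (centralizer (K : Set G)) ⊓ normalizer (K : Set G) : Subgroup G))) :
    ∃ w k c ρ U, Cfg K Q E z w k c ρ U ∧ orderOf w = 2 := by
  have hpf : Fact (Nat.Prime 2) := ⟨Nat.prime_two⟩
  obtain ⟨g, hg, h1, h2, h3, k, hk, hkC, c, hc, hkc⟩ := setup h cq ha.zK ha.zC ha.z2 hg hev
  have hw2 : orderOf (g * z * g⁻¹) = 2 := by rw [CompStandard.orderOf_conj, ha.z2]
  obtain ⟨w, hw⟩ : ∃ w, w = g * z * g⁻¹ := ⟨_, rfl⟩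
  have hzz := sq_of_orderOf ha.z2
  have hww : w * w = 1 := by rw [hw]; exact sq_of_orderOf hw2
  have hzi : z⁻¹ = z := inv_eq_of_mul_eq_one_right hzz
  have hkc' : w = k * c := by rw [hw, hkc]
  have hzw : z * w = w * z := by rw [hw]; exact h3 z ha.zK ha.zC z ha.zK ha.zC
  -- `x₁`
  obtain ⟨x₁, hx₁, hx₁k⟩ := ha.right k hk hkC
  have hx₁K := cq.leK hx₁
  have hx₁w : x₁ * w * x₁⁻¹ = z * w := by
    have h4 := centralizer_comm hc hx₁K
    have h5 : x₁ * k * x₁⁻¹ = z * k := by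
      rw [← hx₁k, commutatorElement_def]; group
    calc x₁ * w * x₁⁻¹ = x₁ * k * (c * x₁⁻¹) := by rw [hkc']; group
      _ = x₁ * k * (x₁⁻¹ * (x₁ * c) * x₁⁻¹) := by group
      _ = x₁ * k * (x₁⁻¹ * (c * x₁) * x₁⁻¹) := by rw [h4]
      _ = (x₁ * k * x₁⁻¹) * c := by group
      _ = z * w := by rw [h5, hkc']; group
  have hx₁z : x₁ * z = z * x₁ := centralizer_comm ha.zC hx₁K
  have hx₁w' : x₁⁻¹ * w * x₁ = z * w := by
    have h5 : x₁⁻¹ * (z * w) * x₁ = w := by rw [← hx₁w]; group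
    have h6 : x₁⁻¹ * z = z * x₁⁻¹ := by
      rw [inv_mul_eq_iff_eq_mul, ← mul_assoc, hx₁z, mul_inv_cancel_right]
    have h7 : z * (x₁⁻¹ * w * x₁) = w := by
      calc z * (x₁⁻¹ * w * x₁) = (z * x₁⁻¹) * w * x₁ := by group
        _ = x₁⁻¹ * (z * w) * x₁ := by rw [← h6]; group
        _ = w := h5
    calc x₁⁻¹ * w * x₁ = (z * z) * (x₁⁻¹ * w * x₁) := by rw [hzz, one_mul]
      _ = z * (z * (x₁⁻¹ * w * x₁)) := by group
      _ = z * w := by rw [h7]
  -- `x₂`
  obtain ⟨x₂, hx₂z, hx₂w⟩ : ∃ x₂ : G, x₂ * z * x₂⁻¹ = w * z ∧ x₂ * w * x₂⁻¹ = w := by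
    have h4 := mem_cj.mp (h1 z ha.zK ha.zC)
    have h5 : orderOf (g⁻¹ * z * g) = 2 := by
      have := CompStandard.orderOf_conj g⁻¹ z
      rw [inv_inv] at this
      rw [this, ha.z2]
    obtain ⟨k', hk', c', hc', hkc2⟩ := cq.inner (g⁻¹ * z * g) h4
      ⟨1, by rw [pow_one, pow_two, sq_of_orderOf h5]⟩
    have hkk : k' * k' ∈ centralizer (K : Set G) := by
      have h6 := sq_of_orderOf h5
      rw [hkc2] at h6
      have h7 := centralizer_comm hc' hk'
      have h8 : k' * k' = (c' * c')⁻¹ := by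
        rw [eq_inv_iff_mul_eq_one]
        calc k' * k' * (c' * c') = k' * (k' * c') * c' := by group
          _ = k' * (c' * k') * c' := by rw [h7]
          _ = k' * c' * (k' * c') := by group
          _ = 1 := h6
      rw [h8]
      exact inv_mem (mul_mem hc' hc')
    have hk'C : k' ∉ centralizer (K : Set G) := by
      intro h6
      apply hg
      have h7 : g⁻¹ * z * g ∈ centralizer (K : Set G) := by rw [hkc2]; exact mul_mem h6 hc'
      refine h.mem_of_involution ha.z2 ha.zC ?_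
      rw [mem_cj]
      exact h7
    obtain ⟨g₂, hg₂, hk₂⟩ := cq.conj k' hk' hkk
    have hg₂M : g₂ ∈ normalizer (K : Set G) := Subgroup.le_normalizer hg₂
    have hk₂C : g₂ * k' * g₂⁻¹ ∉ centralizer (K : Set G) := by
      intro h6
      apply hk'C
      have h7 := normal_cent K g₂⁻¹ (inv_mem hg₂M) _ h6
      have e : g₂⁻¹ * (g₂ * k' * g₂⁻¹) * g₂⁻¹⁻¹ = k' := by group
      rwa [e] at h7
    obtain ⟨x', hx', hx'z⟩ := ha.right _ hk₂ hk₂C
    have hxK : g₂⁻¹ * x' * g₂ ∈ K := mul_mem (mul_mem (inv_mem hg₂) (cq.leK hx')) hg₂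
    have h6 : ⁅g₂⁻¹ * x' * g₂, k'⁆ = z := by
      have e : ⁅g₂⁻¹ * x' * g₂, k'⁆ = g₂⁻¹ * ⁅x', g₂ * k' * g₂⁻¹⁆ * g₂ := by
        simp only [commutatorElement_def]; group
      rw [e, hx'z, mul_assoc, ← centralizer_comm ha.zC hg₂]
      group
    obtain ⟨x, hx⟩ : ∃ x, x = g₂⁻¹ * x' * g₂ := ⟨_, rfl⟩
    rw [← hx] at h6 hxK
    have h7 : x * (g⁻¹ * z * g) * x⁻¹ = z * (g⁻¹ * z * g) := by
      have h8 := centralizer_comm hc' hxK
      have h9 : x * k' * x⁻¹ = z * k' := by rw [← h6, commutatorElement_def]; group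
      rw [hkc2]
      calc x * (k' * c') * x⁻¹ = x * k' * (x⁻¹ * (x * c') * x⁻¹) := by group
        _ = x * k' * (x⁻¹ * (c' * x) * x⁻¹) := by rw [h8]
        _ = (x * k' * x⁻¹) * c' := by group
        _ = _ := by rw [h9]; group
    refine ⟨g * x * g⁻¹, ?_, ?_⟩
    · calc g * x * g⁻¹ * z * (g * x * g⁻¹)⁻¹ = g * (x * (g⁻¹ * z * g) * x⁻¹) * g⁻¹ := by group
        _ = g * (z * (g⁻¹ * z * g)) * g⁻¹ := by rw [h7]
        _ = w * z := by rw [hw]; group
    · have h8 := centralizer_comm ha.zC hxK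
      rw [hw]
      calc g * x * g⁻¹ * (g * z * g⁻¹) * (g * x * g⁻¹)⁻¹ = g * (x * z) * x⁻¹ * g⁻¹ := by group
        _ = g * (z * x) * x⁻¹ * g⁻¹ := by rw [h8]
        _ = g * z * g⁻¹ := by group
  -- `n₀`
  obtain ⟨n₀, hn₀⟩ : ∃ n₀, n₀ = x₁⁻¹ * x₂ := ⟨_, rfl⟩
  have hx₁z' : x₁⁻¹ * z * x₁ = z := by rw [mul_assoc, ← hx₁z]; group
  have hn₀z : n₀ * z * n₀⁻¹ = w := by
    calc n₀ * z * n₀⁻¹ = x₁⁻¹ * (x₂ * z * x₂⁻¹) * x₁ := by rw [hn₀]; group
      _ = (x₁⁻¹ * w * x₁) * (x₁⁻¹ * z * x₁) := by rw [hx₂z]; group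
      _ = z * w * z := by rw [hx₁w', hx₁z']
      _ = w * (z * z) := by rw [hzw]; group
      _ = w := by rw [hzz, mul_one]
  have hn₀w : n₀ * w * n₀⁻¹ = z * w := by
    calc n₀ * w * n₀⁻¹ = x₁⁻¹ * (x₂ * w * x₂⁻¹) * x₁ := by rw [hn₀]; group
      _ = z * w := by rw [hx₂w, hx₁w']
  obtain ⟨X, hX⟩ : ∃ X : Subgroup G, X = centralizer {z} ⊓ centralizer {w} := ⟨_, rfl⟩
  have memX : ∀ x, x ∈ X ↔ x * z = z * x ∧ x * w = w * x := by
    intro x
    rw [hX, Subgroup.mem_inf, mem_centralizer_singleton_iff, mem_centralizer_singleton_iff]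
  have hXn : cj n₀ X = X := by
    apply Subgroup.eq_of_le_of_card_ge
    · rintro _ ⟨x, hx, rfl⟩
      obtain ⟨hxz, hxw⟩ := (memX x).1 hx
      simp only [MulEquiv.coe_toMonoidHom, MulAut.conj_apply]
      have e1 : (n₀ * x * n₀⁻¹) * w = w * (n₀ * x * n₀⁻¹) := by
        calc (n₀ * x * n₀⁻¹) * w = (n₀ * x * n₀⁻¹) * (n₀ * z * n₀⁻¹) := by rw [hn₀z]
          _ = n₀ * (x * z) * n₀⁻¹ := by group
          _ = n₀ * (z * x) * n₀⁻¹ := by rw [hxz]
          _ = (n₀ * z * n₀⁻¹) * (n₀ * x * n₀⁻¹) := by group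
          _ = _ := by rw [hn₀z]
      have e2 : (n₀ * x * n₀⁻¹) * (z * w) = (z * w) * (n₀ * x * n₀⁻¹) := by
        calc (n₀ * x * n₀⁻¹) * (z * w) = (n₀ * x * n₀⁻¹) * (n₀ * w * n₀⁻¹) := by rw [hn₀w]
          _ = n₀ * (x * w) * n₀⁻¹ := by group
          _ = n₀ * (w * x) * n₀⁻¹ := by rw [hxw]
          _ = (n₀ * w * n₀⁻¹) * (n₀ * x * n₀⁻¹) := by group
          _ = _ := by rw [hn₀w]
      refine (memX _).2 ⟨?_, e1⟩
      have e3 : z = (z * w) * w := by rw [mul_assoc, hww, mul_one]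
      calc (n₀ * x * n₀⁻¹) * z = (n₀ * x * n₀⁻¹) * (z * w * w) := by rw [← e3]
        _ = ((n₀ * x * n₀⁻¹) * (z * w)) * w := by group
        _ = (z * w) * ((n₀ * x * n₀⁻¹) * w) := by rw [e2]; group
        _ = (z * w) * (w * (n₀ * x * n₀⁻¹)) := by rw [e1]
        _ = (z * w * w) * (n₀ * x * n₀⁻¹) := by group
        _ = z * (n₀ * x * n₀⁻¹) := by rw [← e3]
    · rw [card_cj]
  obtain ⟨U, hU, -⟩ := exists_isSyl2 X ⊥ bot_le IsPGroup.of_bot
  have hU' : IsSyl2 X (cj n₀ U) := by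
    have := isSyl2_cj n₀ hU
    rwa [hXn] at this
  obtain ⟨m, hm, hmU⟩ := isSyl2_conj hU' hU
  have hmw : m * w * m⁻¹ = w := by rw [((memX m).1 hm).2, mul_inv_cancel_right]
  refine ⟨w, k, c, m * n₀, U, ⟨hk, hkC, hc, hkc', hzw, by rw [← hX]; exact hU, ?_, ?_⟩, by
    rw [hw]; exact hw2⟩
  · rw [cj_mul, ← hmU]
  · intro hρ
    -- `w = z^ρ ∈ C(K)`
    have h4 : (m * n₀) * z * (m * n₀)⁻¹ = w := by
      calc (m * n₀) * z * (m * n₀)⁻¹ = m * (n₀ * z * n₀⁻¹) * m⁻¹ := by group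
        _ = w := by rw [hn₀z, hmw]
    have h5 := normal_cent K _ hρ z ha.zC
    rw [h4, hkc'] at h5
    apply hkC
    have e : k = k * c * c⁻¹ := by group
    rw [e]
    exact mul_mem h5 (inv_mem hc)

section cfg

variable {z w k c ρ : G} {U : Subgroup G}

omit [Finite G] in
theorem Cfg.inv (C : Cfg K Q E z w k c ρ U) : Cfg K Q E z w k c ρ⁻¹ U :=
  { C with
    nU := by
      have := C.nU
      rw [← this, cj_inv_cj, this]
    nM := fun h => C.nM (by have := inv_mem h; rwa [inv_inv] at this) }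

/-- `U ≤ M` -/
theorem Cfg.le (C : Cfg K Q E z w k c ρ U) (h : Std p K) (ha : CAlpha K Q E z) {u : G}
    (hu : u ∈ U) : u ∈ normalizer (K : Set G) :=
  h.le_normalizer ha.z2 ha.zC (C.syl.le hu).1

omit [Finite G] in
theorem Cfg.comm_w (C : Cfg K Q E z w k c ρ U) {u : G} (hu : u ∈ U) : u * w = w * u :=
  mem_centralizer_singleton_iff.mp (C.syl.le hu).2

theorem Cfg.dec (C : Cfg K Q E z w k c ρ U) (h : Std p K) (cq : CQ K Q E q)
    (ha : CAlpha K Q E z) {u : G} (hu : u ∈ U) :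
    ∃ a ∈ Q, ∃ y ∈ centralizer (K : Set G), u = a * y := by
  obtain ⟨a, haK, y, hy, huy⟩ := cq.inner u (C.le h ha hu) (mem_of_pow_two C.syl.two hu)
  refine ⟨a, ?_, y, hy, huy⟩
  have h1 := C.comm_w hu
  rw [huy, C.eq] at h1
  exact cq.cent a haK k C.kE C.kC (comm_mem_of_comm haK (cq.leK (cq.leQ C.kE)) hy C.cC h1)

omit [Finite G] in
theorem Cfg.comm_k_iff (C : Cfg K Q E z w k c ρ U) {x : G} (hx : x ∈ K) :
    x * w = w * x ↔ x * k = k * x := by
  have h1 := centralizer_comm C.cC hx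
  rw [C.eq]
  constructor
  · intro h2
    have h3 : x * k * c = k * x * c := by
      calc x * k * c = x * (k * c) := by group
        _ = k * c * x := h2
        _ = k * (c * x) := by group
        _ = k * (x * c) := by rw [h1]
        _ = _ := by group
    exact mul_right_cancel h3
  · intro h2
    calc x * (k * c) = (x * k) * c := by group
      _ = k * (x * c) := by rw [h2]; group
      _ = k * c * x := by rw [h1]; group

omit [Finite G] in
theorem Cfg.mem_Q (C : Cfg K Q E z w k c ρ U) (cq : CQ K Q E q) {x : G} (hx : x ∈ K)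
    (hxw : x * w = w * x) : x ∈ Q := by
  refine cq.cent x hx k C.kE C.kC ?_
  rw [comm_iff.2 ((C.comm_k_iff hx).1 hxw)]
  exact one_mem _

theorem Cfg.D_le (C : Cfg K Q E z w k c ρ U) (h : Std p K) (cq : CQ K Q E q)
    (ha : CAlpha K Q E z) : K ⊓ centralizer {w} ≤ U := by
  refine le_isSyl2 C.syl ?_ ?_ ?_
  · intro x hx
    refine ⟨mem_centralizer_singleton_iff.mpr (centralizer_comm ha.zC hx.1), hx.2⟩
  · refine cq.two.to_le ?_
    intro x hx
    exact C.mem_Q cq hx.1 (mem_centralizer_singleton_iff.mp hx.2)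
  · intro s hs e he
    refine ⟨forall_of_mem_normalizer (C.le h ha hs) e he.1, ?_⟩
    exact (centralizer {w}).mul_mem ((centralizer {w}).mul_mem (C.syl.le hs).2 he.2)
      ((centralizer {w}).inv_mem (C.syl.le hs).2)

theorem Cfg.mem_U (C : Cfg K Q E z w k c ρ U) (h : Std p K) (cq : CQ K Q E q)
    (ha : CAlpha K Q E z) {x : G} (hx : x ∈ Q) (hxk : x * k = k * x) : x ∈ U :=
  C.D_le h cq ha ⟨cq.leK hx, mem_centralizer_singleton_iff.mpr
    ((C.comm_k_iff (cq.leK hx)).2 hxk)⟩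

theorem Cfg.E_le (C : Cfg K Q E z w k c ρ U) (h : Std p K) (cq : CQ K Q E q)
    (ha : CAlpha K Q E z) : E ≤ U := fun e he =>
  C.mem_U h cq ha (cq.leQ he) (cq.comE e he k C.kE)

/-- elements of `U ∩ C(K) ∩ C(K)^ρ` are trivial -/
theorem Cfg.triv (C : Cfg K Q E z w k c ρ U) (h : Std p K) {x : G} (hx : x ∈ U)
    (hx1 : x ∈ cj ρ (centralizer (K : Set G))) (hx2 : x ∈ centralizer (K : Set G)) : x = 1 := by
  have h1 := h.inf_eq_bot C.nM (A := U ⊓ cj ρ (centralizer (K : Set G)))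
    (C.syl.two.to_le inf_le_left) inf_le_right
  have h2 : x ∈ U ⊓ cj ρ (centralizer (K : Set G)) ⊓ centralizer (K : Set G) := ⟨⟨hx, hx1⟩, hx2⟩
  rwa [h1, mem_bot] at h2

theorem Cfg.comm_mem (C : Cfg K Q E z w k c ρ U) (h : Std p K) (ha : CAlpha K Q E z) {b u : G}
    (hb : b ∈ cj ρ (centralizer (K : Set G))) (hu : u ∈ U) :
    ⁅b, u⁆ ∈ cj ρ (centralizer (K : Set G)) := by
  have h1 : u ∈ cj ρ (normalizer (K : Set G)) := by
    rw [← C.nU] at hu
    exact cj_mono (fun x hx => C.le h ha hx) hu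
  have h2 := normal_cj_cent ρ K u h1 b⁻¹ (inv_mem hb)
  have e : ⁅b, u⁆ = b * (u * b⁻¹ * u⁻¹) := by rw [commutatorElement_def]; group
  rw [e]
  exact mul_mem hb h2

/-- `B = C_Q(k) ∩ C(K)^ρ` has order at most 2 -/
theorem Cfg.card_B (C : Cfg K Q E z w k c ρ U) (h : Std p K) (cq : CQ K Q E q)
    (ha : CAlpha K Q E z) :
    Nat.card ((K ⊓ centralizer {w}) ⊓ cj ρ (centralizer (K : Set G)) : Subgroup G) ≤ 2 := by
  have key : ∀ b ∈ (K ⊓ centralizer {w}) ⊓ cj ρ (centralizer (K : Set G)),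
      b ∈ centralizer (K : Set G) ∨ k⁻¹ * b ∈ centralizer (K : Set G) := by
    intro b hb
    have hbU : b ∈ U := C.D_le h cq ha hb.1
    have hbQ : b ∈ Q := C.mem_Q cq hb.1.1 (mem_centralizer_singleton_iff.mp hb.1.2)
    have htr : ∀ u ∈ U, ⁅b, u⁆ ∈ centralizer (K : Set G) → ⁅b, u⁆ = 1 := by
      intro u hu hc
      refine C.triv h ?_ (C.comm_mem h ha hb.2 hu) hc
      rw [commutatorElement_def]
      exact mul_mem (mul_mem (mul_mem hbU hu) (inv_mem hbU)) (inv_mem hu)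
    have hbE : b ∈ E := by
      apply cq.out b hbQ
      intro e he
      exact comm_iff.1 (htr e (C.E_le h cq ha he) (cq.comQ b hbQ e he))
    apply ha.two b hbE k C.kE C.kC
    intro x hx hxk
    have h1 : ⁅b, x⁆ = 1 := by
      apply htr x (C.mem_U h cq ha hx (comm_iff.1 hxk))
      have h2 := cq.comQ x hx b hbE
      rw [← commutatorElement_inv]
      exact inv_mem h2
    exact comm_iff.2 (comm_iff.1 h1).symm
  have hU : ∀ b ∈ (K ⊓ centralizer {w}) ⊓ cj ρ (centralizer (K : Set G)), b ∈ U :=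
    fun b hb => C.D_le h cq ha hb.1
  apply card_le_two
  intro b hb hb1 b' hb' hb1'
  have h1 := (key b hb).resolve_left (fun h2 => hb1 (C.triv h (hU b hb) hb.2 h2))
  have h1' := (key b' hb').resolve_left (fun h2 => hb1' (C.triv h (hU b' hb') hb'.2 h2))
  have h3 : b⁻¹ * b' ∈ centralizer (K : Set G) := by
    have e : b⁻¹ * b' = (k⁻¹ * b)⁻¹ * (k⁻¹ * b') := by group
    rw [e]
    exact mul_mem (inv_mem h1) h1'
  have h4 := C.triv h (mul_mem (inv_mem (hU b hb)) (hU b' hb')) (mul_mem (inv_mem hb.2) hb'.2) h3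
  exact inv_mul_eq_one.mp h4

/-- `|C_Q(k)| ≥ q²` -/
theorem Cfg.card_D (C : Cfg K Q E z w k c ρ U) (cq : CQ K Q E q) (ha : CAlpha K Q E z) :
    q ^ 2 ≤ Nat.card (K ⊓ centralizer {w} : Subgroup G) := by
  have h1 : Nat.card Q ≤ 2 * Nat.card (K ⊓ centralizer {w} : Subgroup G) := by
    apply card_le_two_mul
    have hmem : ∀ x ∈ Q, x ∉ K ⊓ centralizer {w} → ⁅x, k⁆ = z := by
      intro x hx hxD
      rcases ha.val x hx k C.kE with h2 | h2
      · exact absurd ⟨cq.leK hx, mem_centralizer_singleton_iff.mpr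
          ((C.comm_k_iff (cq.leK hx)).2 (comm_iff.1 h2))⟩ hxD
      · exact h2
    intro x hx hxD y hy hyD
    have h2 := hmem x hx hxD
    have h3 := hmem y hy hyD
    have hxyK : x⁻¹ * y ∈ K := mul_mem (inv_mem (cq.leK hx)) (cq.leK hy)
    refine ⟨hxyK, mem_centralizer_singleton_iff.mpr ((C.comm_k_iff hxyK).2 ?_)⟩
    have h4 : x * k * x⁻¹ = z * k := by rw [← h2, commutatorElement_def]; group
    have h5 : y * k * y⁻¹ = z * k := by rw [← h3, commutatorElement_def]; group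
    have h6 : (x⁻¹ * y) * k * (x⁻¹ * y)⁻¹ = k := by
      calc (x⁻¹ * y) * k * (x⁻¹ * y)⁻¹ = x⁻¹ * (y * k * y⁻¹) * x := by group
        _ = x⁻¹ * (x * k * x⁻¹) * x := by rw [h5, h4]
        _ = k := by group
    exact mul_inv_eq_iff_eq_mul.mp h6
  have h2 : 2 ≤ Nat.card (K ⊓ centralizer (K : Set G) : Subgroup G) := by
    have h3 : orderOf z ∣ Nat.card (K ⊓ centralizer (K : Set G) : Subgroup G) := by
      have := _root_.orderOf_dvd_natCard (⟨z, ha.zK, ha.zC⟩ : (K ⊓ centralizer (K : Set G) : Subgroup G))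
      rw [← Subgroup.orderOf_coe] at this
      exact this
    rw [ha.z2] at h3
    exact Nat.le_of_dvd Nat.card_pos h3
  rw [cq.cardQ] at h1
  nlinarith [sq_nonneg q]

/-- `U ∩ C(K)^ρ ≤ E C(K)` -/
theorem Cfg.mem_E (C : Cfg K Q E z w k c ρ U) (h : Std p K) (cq : CQ K Q E q)
    (ha : CAlpha K Q E z) (h8 : 8 ≤ q) {r a y : G} (_hr : r ∈ U)
    (hrY : r ∈ cj ρ (centralizer (K : Set G))) (haQ : a ∈ Q) (hy : y ∈ centralizer (K : Set G))
    (hay : r = a * y) : a ∈ E := by
  classical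
  by_contra haE
  obtain ⟨D, hD⟩ : ∃ D : Subgroup G, D = K ⊓ centralizer {w} := ⟨_, rfl⟩
  have hDU : cj ρ D ≤ U := by
    have h1 := cj_mono (g := ρ) (C.D_le h cq ha)
    rwa [C.nU, ← hD] at h1
  -- the intersection with `C(K)`
  have h1 : Nat.card (cj ρ D ⊓ centralizer (K : Set G) : Subgroup G) ≤ 2 := by
    have h2 := C.inv.card_B h cq ha
    have h3 : cj ρ D ⊓ centralizer (K : Set G) =
        cj ρ ((K ⊓ centralizer {w}) ⊓ cj ρ⁻¹ (centralizer (K : Set G))) := by
      rw [cj_inf, cj_cj_inv, hD]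
    rw [h3, card_cj]
    exact h2
  have h2 := C.card_D cq ha
  rw [← hD, ← card_cj ρ D] at h2
  -- the covering
  have h3 := card_cover (cj ρ D) (centralizer (K : Set G)) (K ⊓ centralizer (K : Set G))
    {x : G | x ∈ E ∨ a⁻¹ * x ∈ E} inf_le_right (by
      rintro v hv n hn
      have hnE := cq.cenE n hn.1 hn.2
      rcases hv with hv | hv
      · exact Or.inl (mul_mem hv hnE)
      · right
        rw [← mul_assoc]
        exact mul_mem hv hnE) (by
      intro d hd
      obtain ⟨a', ha', y', hy', hd'⟩ := C.dec h cq ha (hDU hd)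
      refine ⟨a', ?_, ?_⟩
      · -- `r` and `d` commute
        have h4 : r * d = d * r := by
          rw [hD] at hd
          have h5 := mem_cj.mp hd
          have h6 := mem_cj.mp hrY
          have h7 := centralizer_comm h6 h5.1
          calc r * d = ρ * ((ρ⁻¹ * r * ρ) * (ρ⁻¹ * d * ρ)) * ρ⁻¹ := by group
            _ = ρ * ((ρ⁻¹ * d * ρ) * (ρ⁻¹ * r * ρ)) * ρ⁻¹ := by rw [h7]
            _ = d * r := by group
        rw [hay, hd'] at h4
        exact cq.big a haQ haE a' ha' (comm_mem_of_comm (cq.leK haQ) (cq.leK ha') hy hy' h4)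
      · rw [hd']
        have : a'⁻¹ * (a' * y') = y' := by group
        rw [this]
        exact hy')
  -- the size of the covering set
  have h4 : Nat.card {x : G | x ∈ E ∨ a⁻¹ * x ∈ E} ≤ 2 * Nat.card E := by
    let f : {x : G | x ∈ E ∨ a⁻¹ * x ∈ E} → E × Bool := fun x =>
      if hx : (x : G) ∈ E then (⟨x, hx⟩, false) else (⟨a⁻¹ * x, x.2.resolve_left hx⟩, true)
    have hf : Function.Injective f := by
      intro x y hxy
      by_cases hx : (x : G) ∈ E <;> by_cases hy : (y : G) ∈ E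
      · simp only [f, hx, hy, dif_pos] at hxy
        exact Subtype.ext (Subtype.mk.inj (congrArg Prod.fst hxy))
      · simp only [f, hx, hy, dif_pos] at hxy
        exact absurd (congrArg Prod.snd hxy) (by simp)
      · simp only [f, hx, hy, dif_pos] at hxy
        exact absurd (congrArg Prod.snd hxy) (by simp)
      · simp only [f, hx, hy] at hxy
        exact Subtype.ext (mul_left_cancel (congrArg Subtype.val (congrArg Prod.fst hxy)))
    have := Nat.card_le_card_of_injective f hf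
    rw [Nat.card_prod, Nat.card_eq_fintype_card (α := Bool), Fintype.card_bool] at this
    omega
  rw [cq.cardE] at h4
  have hN : 0 < Nat.card (K ⊓ centralizer (K : Set G) : Subgroup G) := Nat.card_pos
  set n := Nat.card (K ⊓ centralizer (K : Set G) : Subgroup G) with hn
  set d := Nat.card (cj ρ D) with hd
  set s := Nat.card (cj ρ D ⊓ centralizer (K : Set G) : Subgroup G) with hs
  set v := Nat.card {x : G | x ∈ E ∨ a⁻¹ * x ∈ E} with hv
  have h5 : d * n ≤ (2 * (q * n)) * 2 := h3.trans (Nat.mul_le_mul h4 h1)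
  have h6 : d * n ≤ (4 * q) * n := by linarith only [h5]
  have h7 : d ≤ 4 * q := Nat.le_of_mul_le_mul_right h6 hN
  nlinarith only [h8, h2, h7]

/-- `|U ∩ C(K)| ≤ 2` -/
theorem Cfg.card_R (C : Cfg K Q E z w k c ρ U) (h : Std p K) (cq : CQ K Q E q)
    (ha : CAlpha K Q E z) (h8 : 8 ≤ q) :
    Nat.card (U ⊓ centralizer (K : Set G) : Subgroup G) ≤ 2 := by
  have h1 : Nat.card (U ⊓ centralizer (K : Set G) : Subgroup G) =
      Nat.card (U ⊓ cj ρ (centralizer (K : Set G)) : Subgroup G) := by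
    rw [← card_cj ρ (U ⊓ centralizer (K : Set G)), cj_inf, C.nU]
  rw [h1]
  have key : ∀ r ∈ U ⊓ cj ρ (centralizer (K : Set G)),
      r ∈ centralizer (K : Set G) ∨ k⁻¹ * r ∈ centralizer (K : Set G) := by
    intro r hr
    obtain ⟨a, haQ, y, hy, hay⟩ := C.dec h cq ha hr.1
    have haE := C.mem_E h cq ha h8 hr.1 hr.2 haQ hy hay
    have h2 := ha.two a haE k C.kE C.kC (by
      intro x hx hxk
      have hxU := C.mem_U h cq ha hx (comm_iff.1 hxk)
      have h3 := C.comm_mem h ha hr.2 hxU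
      have h4 : ⁅r, x⁆ = ⁅a, x⁆ := by
        have h5 := centralizer_comm hy (cq.leK hx)
        rw [hay, commutatorElement_def, commutatorElement_def]
        calc a * y * x * (a * y)⁻¹ * x⁻¹ = a * (y * x) * y⁻¹ * a⁻¹ * x⁻¹ := by group
          _ = a * (x * y) * y⁻¹ * a⁻¹ * x⁻¹ := by rw [h5]
          _ = a * x * a⁻¹ * x⁻¹ := by group
      have h5 : ⁅a, x⁆ ∈ centralizer (K : Set G) := by
        rw [← commutatorElement_inv]
        exact inv_mem (cq.comQ x hx a haE)
      have h6 : ⁅r, x⁆ = 1 := by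
        refine C.triv h ?_ h3 (by rw [h4]; exact h5)
        rw [commutatorElement_def]
        exact mul_mem (mul_mem (mul_mem hr.1 hxU) (inv_mem hr.1)) (inv_mem hxU)
      rw [h4] at h6
      exact comm_iff.2 (comm_iff.1 h6).symm)
    rcases h2 with h2 | h2
    · left
      rw [hay]
      exact mul_mem h2 hy
    · right
      rw [hay, ← mul_assoc]
      exact mul_mem h2 hy
  apply card_le_two
  intro b hb hb1 b' hb' hb1'
  have h2 := (key b hb).resolve_left (fun h2 => hb1 (C.triv h hb.1 hb.2 h2))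
  have h2' := (key b' hb').resolve_left (fun h2 => hb1' (C.triv h hb'.1 hb'.2 h2))
  have h3 : b⁻¹ * b' ∈ centralizer (K : Set G) := by
    have e : b⁻¹ * b' = (k⁻¹ * b)⁻¹ * (k⁻¹ * b') := by group
    rw [e]
    exact mul_mem (inv_mem h2) h2'
  have h4 := C.triv h (mul_mem (inv_mem hb.1) hb'.1) (mul_mem (inv_mem hb.2) hb'.2) h3
  exact inv_mul_eq_one.mp h4

end cfg

/-- **The Sylow 2-subgroups of `C(K)` have order 2.** -/
theorem card_two (h : Std p K) (cq : CQ K Q E q) {z : G} (ha : CAlpha K Q E z) (h8 : 8 ≤ q) {g : G}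
    (hg : g ∉ normalizer (K : Set G))
    (hev : Even (Nat.card (cj g (centralizer (K : Set G)) ⊓ normalizer (K : Set G) : Subgroup G)))
    {R : Subgroup G} (hR : IsSyl2 (centralizer (K : Set G)) R) : Nat.card R = 2 := by
  have hpf : Fact (Nat.Prime 2) := ⟨Nat.prime_two⟩
  obtain ⟨w, k, c, ρ, U, C, hw2⟩ := exists_cfg h cq ha hg hev
  have h1 := C.card_R h cq ha h8
  obtain ⟨X, hX⟩ : ∃ X : Subgroup G, X = centralizer {z} ⊓ centralizer {w} := ⟨_, rfl⟩
  have hU : IsSyl2 X U := by rw [hX]; exact C.syl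
  have memX : ∀ x, x ∈ X ↔ x * z = z * x ∧ x * w = w * x := by
    intro x
    rw [hX, Subgroup.mem_inf, mem_centralizer_singleton_iff, mem_centralizer_singleton_iff]
  have hXM : ∀ x ∈ X, x ∈ normalizer (K : Set G) := by
    intro x hx
    rw [hX] at hx
    exact h.le_normalizer ha.z2 ha.zC hx.1
  -- `z ∈ U`
  have hzU : z ∈ U := by
    refine mem_isSyl2 hU ((memX z).2 ⟨rfl, C.comm⟩)
      ⟨1, by rw [pow_one, pow_two, sq_of_orderOf ha.z2]⟩ ?_
    intro s hs
    have h2 := ((memX s).1 (hU.le hs)).1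
    rw [← h2, mul_inv_cancel_right]
    exact hs
  have hzne := ne_one_of_orderOf ha.z2
  -- `U ∩ C(K) = {1, z}`
  have h2 : ∀ x ∈ U, x ∈ centralizer (K : Set G) → x = 1 ∨ x = z := by
    intro x hx hxC
    by_contra hcon
    push Not at hcon
    have h3 : Function.Injective (fun i : Fin 3 =>
        (if i = 0 then (1 : (U ⊓ centralizer (K : Set G) : Subgroup G)) else
          if i = 1 then ⟨z, hzU, ha.zC⟩ else ⟨x, hx, hxC⟩)) := by
      have e1 : (1 : (U ⊓ centralizer (K : Set G) : Subgroup G)) ≠ ⟨z, hzU, ha.zC⟩ :=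
        fun h4 => hzne (congrArg Subtype.val h4).symm
      have e2 : (1 : (U ⊓ centralizer (K : Set G) : Subgroup G)) ≠ ⟨x, hx, hxC⟩ :=
        fun h4 => hcon.1 (congrArg Subtype.val h4).symm
      have e3 : (⟨z, hzU, ha.zC⟩ : (U ⊓ centralizer (K : Set G) : Subgroup G)) ≠ ⟨x, hx, hxC⟩ :=
        fun h4 => hcon.2 (congrArg Subtype.val h4).symm
      intro i j hij
      fin_cases i <;> fin_cases j <;> simp_all only [_root_.Subgroup.mem_inf, _root_.and_imp, _root_.ne_eq, _root_.Fin.zero_eta, _root_.Fin.isValue, ↓ _root_.reduceIte, _root_.Fin.mk_one, _root_.one_ne_zero, _root_.Fin.reduceFinMk, _root_.Fin.reduceEq, _root_.not_true_eq_false, _root_.not_false_eq_true]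
    have h4 := Nat.card_le_card_of_injective _ h3
    rw [Nat.card_eq_fintype_card, Fintype.card_fin] at h4
    omega
  -- `X ∩ C(K)`
  have hW : IsSyl2 (X ⊓ centralizer (K : Set G)) (U ⊓ (X ⊓ centralizer (K : Set G))) := by
    apply isSyl2_inf hU inf_le_left
    intro d hd x hx
    exact ⟨X.mul_mem (X.mul_mem hd hx.1) (X.inv_mem hd), normal_cent K d (hXM d hd) x hx.2⟩
  have hkK : k ∈ K := cq.leK (cq.leQ C.kE)
  -- `c ∈ U`
  have hcX : c ∈ X := by
    refine (memX c).2 ⟨(centralizer_comm C.cC ha.zK).symm, ?_⟩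
    have h3 := centralizer_comm C.cC hkK
    rw [C.eq]
    calc c * (k * c) = (c * k) * c := by group
      _ = k * c * c := by rw [h3]
  have hc2 : ∃ n : ℕ, c ^ 2 ^ n = 1 := by
    obtain ⟨n, hn⟩ := mem_of_pow_two cq.two (cq.leQ C.kE)
    have h3 : Commute k c := centralizer_comm C.cC hkK
    have hww := sq_of_orderOf hw2
    refine ⟨n + 1, ?_⟩
    have h4 : w ^ 2 ^ (n + 1) = 1 := by
      rw [pow_succ', pow_mul, pow_two, hww, one_pow]
    rw [C.eq, h3.mul_pow] at h4
    have h5 : k ^ 2 ^ (n + 1) = 1 := by rw [pow_succ, pow_mul, hn, one_pow]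
    rwa [h5, one_mul] at h4
  have hcU : c ∈ U := by
    have h3 : c ∈ U ⊓ (X ⊓ centralizer (K : Set G)) := by
      refine mem_isSyl2 hW ⟨hcX, C.cC⟩ hc2 ?_
      intro s hs
      -- `s` commutes with `c`
      have h4 := ((memX s).1 hs.2.1).2
      have h5 := centralizer_comm hs.2.2 hkK
      rw [C.eq] at h4
      have h6 : s * c = c * s := by
        have h7 : k * (s * c) = k * (c * s) := by
          calc k * (s * c) = (k * s) * c := by group
            _ = s * (k * c) := by rw [h5]; group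
            _ = k * c * s := h4
            _ = _ := by group
        exact mul_left_cancel h7
      rw [← h6, mul_inv_cancel_right]
      exact hs
    exact h3.1
  -- `X ∩ C(K) = C(K)`
  have hXC : X ⊓ centralizer (K : Set G) = centralizer (K : Set G) := by
    apply le_antisymm inf_le_right
    intro y hy
    refine ⟨(memX y).2 ⟨(centralizer_comm hy ha.zK).symm, ?_⟩, hy⟩
    have h3 := centralizer_comm hy hkK
    have h4 : y * c = c * y := by
      rcases h2 c hcU C.cC with h5 | h5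
      · rw [h5]; group
      · rw [h5]; exact (centralizer_comm hy ha.zK).symm
    rw [C.eq]
    calc y * (k * c) = (y * k) * c := by group
      _ = k * (y * c) := by rw [← h3]; group
      _ = k * c * y := by rw [h4]; group
  rw [hXC] at hW
  have h3 : Nat.card R = Nat.card (U ⊓ centralizer (K : Set G) : Subgroup G) := isSyl2_card hW hR
  rw [h3]
  apply le_antisymm h1
  have h4 : orderOf z ∣ Nat.card (U ⊓ centralizer (K : Set G) : Subgroup G) := by
    have := _root_.orderOf_dvd_natCard (⟨z, hzU, ha.zC⟩ : (U ⊓ centralizer (K : Set G) : Subgroup G))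
    rw [← Subgroup.orderOf_coe] at this
    exact this
  rw [ha.z2] at h4
  exact Nat.le_of_dvd Nat.card_pos h4

end Cfsg.Agent.OddCyclic.CaseECovD
end

-- part: OddCyclic/CaseECovE
section
/-!
# S0342, component type, case E, covers: the end

`false_of_cover`: a standard component `K` with `K / Z(K) ≅ Sz(8)` has trivial centre.
-/

set_option autoImplicit false

namespace Cfsg.Agent.OddCyclic.CaseECovE

open Subgroup
open scoped commutatorElement
open Cfsg.Agent.LieExceptional.CITDefs Cfsg.Agent.LieExceptional.CITBasic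
open Cfsg.Agent.StdSz Cfsg.Agent.StdSz.BorelCoord
open Cfsg.Agent.OddCyclic.CompStandard Cfsg.Agent.OddCyclic.CaseABase
open Cfsg.Agent.OddCyclic.CaseECovA Cfsg.Agent.OddCyclic.CaseECovB
open Cfsg.Agent.OddCyclic.CaseECovC Cfsg.Agent.OddCyclic.CaseECovD

/-- the order of the preimage of a subgroup -/
theorem card_comap {A S : Type*} [Group A] [Finite A] [Group S] (f : A →* S)
    (hf : Function.Surjective f) (H : Subgroup S) :
    Nat.card (H.comap f) = Nat.card H * Nat.card f.ker := by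
  have : Finite S := Finite.of_surjective f hf
  have h1 : (H.comap f).index = H.index := Subgroup.index_comap_of_surjective _ hf
  have h2 := (H.comap f).card_mul_index
  have h3 := H.card_mul_index
  have h4 := f.ker.card_mul_index
  have h5 : f.ker.index = Nat.card S := by
    rw [Subgroup.index_ker, MonoidHom.range_eq_top.mpr hf, Subgroup.card_top]
  rw [h1] at h2
  have h6 : 0 < H.index := Nat.pos_of_ne_zero Subgroup.index_ne_zero_of_finite
  apply Nat.eq_of_mul_eq_mul_right h6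
  rw [h2, ← h4, h5, ← h3]
  ring

section transport

variable {m : ℕ} {F : Type*} [Field F] [Fintype F] [CharP F 2] {S : Type*} [Group S]
  {C : Data m F S} {T : Subgroup S}

/-- the centre of the unipotent subgroup -/
def cenT (C : Data m F S) : Subgroup S where
  carrier := {s | ∃ b, s = C.p 0 b}
  mul_mem' := by
    rintro _ _ ⟨b, rfl⟩ ⟨c, rfl⟩
    exact ⟨b + c, C.p_zero_mul b c⟩
  one_mem' := ⟨0, C.p_zero.symm⟩
  inv_mem' := by
    rintro _ ⟨b, rfl⟩
    refine ⟨b, ?_⟩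
    rw [C.p_inv, zero_pow (by positivity), add_zero]

theorem card_cenT (C : Data m F S) : Nat.card (cenT C) = Fintype.card F := by
  have h : Function.Bijective (fun b : F => (⟨C.p 0 b, b, rfl⟩ : cenT C)) := by
    constructor
    · intro b c h
      exact (C.p_inj _ _ _ _ (congrArg Subtype.val h)).2
    · rintro ⟨_, b, rfl⟩
      exact ⟨b, rfl⟩
  rw [← Nat.card_eq_fintype_card, Nat.card_congr (Equiv.ofBijective _ h)]

variable {G : Type*} [Group G] [Finite G] {K : Subgroup G} {π : ↥K →* S}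

/-- the preimage of the unipotent subgroup -/
def QQ (T : Subgroup S) (π : ↥K →* S) : Subgroup G := (T.comap π).map K.subtype

/-- the preimage of its centre -/
def EE (C : Data m F S) (π : ↥K →* S) : Subgroup G := ((cenT C).comap π).map K.subtype

omit [Finite G] in
theorem mem_QQ {x : G} : x ∈ QQ T π ↔ ∃ h : x ∈ K, π ⟨x, h⟩ ∈ T := CaseESz.mem_map_subtype

omit [Fintype F] [Finite G] in
theorem mem_EE {x : G} : x ∈ EE C π ↔ ∃ h : x ∈ K, ∃ b, π ⟨x, h⟩ = C.p 0 b :=
  CaseESz.mem_map_subtype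

omit [Fintype F] [CharP F 2] [Finite G] in
theorem pi_p_eq_one {a b : F} (h : C.p a b = 1) : a = 0 ∧ b = 0 := by
  rw [← C.p_zero] at h
  exact C.p_inj _ _ _ _ h

theorem cq_of (hE : _root_.Cfsg.Agent.OddCyclic.CaseECovA.Ext C T π) (sf : SFacts C T (Fintype.card F)) (hm : 1 ≤ m)
    (hF : Fintype.card F = 2 ^ (2 * m + 1))
    (hker : ∀ x : K, π x = 1 ↔ (x : G) ∈ centralizer (K : Set G))
    {z : K} (hz : π z = 1) (hz2 : z * z = 1) (hz1 : z ≠ 1)
    (hinner : ∀ x ∈ normalizer (K : Set G), (∃ n : ℕ, x ^ 2 ^ n = 1) →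
      ∃ k ∈ K, ∃ c ∈ centralizer (K : Set G), x = k * c) :
    CQ K (QQ T π) (EE C π) (Fintype.card F) := by
  have hpf : Fact (Nat.Prime 2) := ⟨Nat.prime_two⟩
  have hEQ : EE C π ≤ QQ T π := by
    intro x hx
    obtain ⟨h, b, hb⟩ := mem_EE.1 hx
    exact mem_QQ.2 ⟨h, by rw [hb]; exact (sf.memT _).2 ⟨0, b, rfl⟩⟩
  have hcoord : ∀ x (hx : x ∈ QQ T π), ∃ h : x ∈ K, ∃ a b, π ⟨x, h⟩ = C.p a b := by
    intro x hx
    obtain ⟨h, hT⟩ := mem_QQ.1 hx
    exact ⟨h, (sf.memT _).1 hT⟩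
  have hcardN : Nat.card (K ⊓ centralizer (K : Set G) : Subgroup G) = Nat.card π.ker := by
    have : K ⊓ centralizer (K : Set G) = π.ker.map K.subtype := by
      ext x
      rw [CaseESz.mem_map_subtype]
      constructor
      · rintro ⟨h1, h2⟩
        exact ⟨h1, (hker ⟨x, h1⟩).2 h2⟩
      · rintro ⟨h1, h2⟩
        exact ⟨h1, (hker ⟨x, h1⟩).1 h2⟩
    rw [this, Subgroup.card_map_of_injective K.subtype_injective]
  refine
    { leK := Subgroup.map_subtype_le _
      leQ := hEQ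
      two := ?_
      cenE := ?_
      cent := ?_
      sqE := ?_
      comE := ?_
      comQ := ?_
      root := ?_
      out := ?_
      big := ?_
      conj := ?_
      cardE := ?_
      cardQ := ?_
      inner := hinner }
  · refine (sf.two.comap_of_ker_isPGroup π ?_).map _
    rintro ⟨x, hx⟩
    obtain ⟨k, hk⟩ := hE.two x hx
    exact ⟨k, Subtype.ext hk⟩
  · intro x hxK hxC
    exact mem_EE.2 ⟨hxK, 0, by rw [(hker ⟨x, hxK⟩).2 hxC, C.p_zero]⟩
  · intro x hxK e he heC hc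
    obtain ⟨heK, b, hb⟩ := mem_EE.1 he
    have hb0 : b ≠ 0 := by
      rintro rfl
      exact heC ((hker ⟨e, heK⟩).1 (by rw [hb, C.p_zero]))
    refine mem_QQ.2 ⟨hxK, sf.cent _ b hb0 ?_⟩
    have h1 : π ⁅(⟨x, hxK⟩ : K), ⟨e, heK⟩⁆ = 1 := (hker _).2 hc
    rw [map_commutatorElement, commutatorElement_eq_one_iff_mul_comm, hb] at h1
    exact h1
  · intro x hx
    obtain ⟨hxK, a, b, hab⟩ := hcoord x hx
    have h1 : π ((⟨x, hxK⟩ : K) * ⟨x, hxK⟩) = C.p 0 (a ^ (1 + 2 ^ (m + 1))) := by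
      rw [map_mul, hab, C.p_sq]
    constructor
    · intro hxE
      obtain ⟨_, b', hb'⟩ := mem_EE.1 hxE
      have h2 := (C.p_inj _ _ _ _ (hab.symm.trans hb')).1
      have h0 : π ((⟨x, hxK⟩ : K) * ⟨x, hxK⟩) = 1 := by
        rw [h1, h2, zero_pow (by positivity), C.p_zero]
      exact (hker _).1 h0
    · intro h2
      have h3 : π ((⟨x, hxK⟩ : K) * ⟨x, hxK⟩) = 1 := (hker _).2 h2
      rw [h1] at h3
      have h4 := (pi_p_eq_one h3).2
      have h5 : a = 0 := (pow_eq_zero_iff (by positivity)).mp h4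
      exact mem_EE.2 ⟨hxK, b, by rw [hab, h5]⟩
  · intro e he e' he'
    obtain ⟨h1, b, hb⟩ := mem_EE.1 he
    obtain ⟨h2, b', hb'⟩ := mem_EE.1 he'
    have h3 := comm_E hE hm hF hb hb'
    rw [commutatorElement_eq_one_iff_mul_comm] at h3
    exact congrArg Subtype.val h3
  · intro x hx e he
    obtain ⟨h1, a, b, hab⟩ := hcoord x hx
    obtain ⟨h2, b', hb'⟩ := mem_EE.1 he
    exact (hker ⁅(⟨x, h1⟩ : K), ⟨e, h2⟩⁆).1 (pi_comm hab hb')
  · intro e he
    obtain ⟨h1, b, hb⟩ := mem_EE.1 he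
    obtain ⟨a, ha⟩ := sf.root b
    obtain ⟨x, hx⟩ := hE.surj (C.p a 0)
    refine ⟨x, mem_QQ.2 ⟨x.2, by rw [Subtype.coe_eta, hx]; exact (sf.memT _).2 ⟨a, 0, rfl⟩⟩, ?_⟩
    have h2 : π ((⟨e, h1⟩ : K)⁻¹ * (x * x)) = 1 := by
      rw [map_mul, map_inv, map_mul, hx, ha, hb, inv_mul_cancel]
    exact (hker _).1 h2
  · intro x hx hall
    obtain ⟨h1, a, b, hab⟩ := hcoord x hx
    by_cases ha : a = 0
    · exact mem_EE.2 ⟨h1, b, by rw [hab, ha]⟩
    · exfalso
      obtain ⟨e, ⟨b', he⟩, hne⟩ := exists_ne hE hm hF hz hz2 hz1 hab ha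
      apply hne
      rw [commutatorElement_eq_one_iff_mul_comm]
      exact Subtype.ext (hall e (mem_EE.2 ⟨e.2, b', he⟩))
  · intro a haQ haE x hx hc
    obtain ⟨h1, a₀, b₀, hab⟩ := hcoord a haQ
    obtain ⟨h2, c, d, hcd⟩ := hcoord x hx
    have ha0 : a₀ ≠ 0 := by
      rintro rfl
      exact haE (mem_EE.2 ⟨h1, b₀, hab⟩)
    have h3 : π ⁅(⟨a, h1⟩ : K), ⟨x, h2⟩⁆ = 1 := (hker _).2 hc
    rw [map_commutatorElement, commutatorElement_eq_one_iff_mul_comm, hab, hcd] at h3
    rcases sf.comm _ _ _ _ ha0 h3 with h4 | h4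
    · left
      exact mem_EE.2 ⟨h2, d, by rw [hcd, h4]⟩
    · right
      refine mem_EE.2 ⟨K.mul_mem (K.inv_mem h1) h2, ?_⟩
      have h5 : π ((⟨a, h1⟩ : K)⁻¹ * ⟨x, h2⟩) = (C.p a₀ b₀)⁻¹ * C.p c d := by
        rw [map_mul, map_inv, hab, hcd]
      rw [h4, C.p_inv, C.p_mul, CharTwo.add_self_eq_zero] at h5
      exact ⟨_, h5⟩
  · intro k hk hkk
    have h1 : π ⟨k, hk⟩ * π ⟨k, hk⟩ = 1 := by
      rw [← map_mul]
      exact (hker _).2 hkk
    obtain ⟨s, b, hs⟩ := sf.conj _ h1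
    obtain ⟨g, hg⟩ := hE.surj s
    refine ⟨g, g.2, mem_EE.2 ⟨K.mul_mem (K.mul_mem g.2 hk) (K.inv_mem g.2), b, ?_⟩⟩
    have h2 : π (g * ⟨k, hk⟩ * g⁻¹) = C.p 0 b := by rw [map_mul, map_mul, map_inv, hg, hs]
    exact h2
  · rw [hcardN, EE, Subgroup.card_map_of_injective K.subtype_injective, card_comap π hE.surj,
      card_cenT]
  · rw [hcardN, QQ, Subgroup.card_map_of_injective K.subtype_injective, card_comap π hE.surj,
      sf.cardT]

theorem beta_of (hE : _root_.Cfsg.Agent.OddCyclic.CaseECovA.Ext C T π) (sf : SFacts C T (Fintype.card F)) (hm : 1 ≤ m)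
    (hF : Fintype.card F = 2 ^ (2 * m + 1)) (h8 : Fintype.card F = 8)
    (hker : ∀ x : K, π x = 1 ↔ (x : G) ∈ centralizer (K : Set G))
    {z z' : K} (hz : π z = 1) (hz2 : z * z = 1) (hz1 : z ≠ 1) (hz' : π z' = 1)
    (hz2' : z' * z' = 1) (hz1' : z' ≠ 1) (hne : z ≠ z') : CBeta K (QQ T π) (EE C π) := by
  intro x hx hxE e he e' he' heC heC' hee hxe hxe'
  obtain ⟨hxK, hxT⟩ := mem_QQ.1 hx
  obtain ⟨a, b, hab⟩ := (sf.memT _).1 hxT
  obtain ⟨h1, b₁, hb₁⟩ := mem_EE.1 he
  obtain ⟨h2, b₂, hb₂⟩ := mem_EE.1 he'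
  have ha : a ≠ 0 := by
    rintro rfl
    exact hxE (mem_EE.2 ⟨hxK, b, hab⟩)
  refine false_of_eight hE hm hF h8 hz hz2 hz1 hz' hz2' hz1' hne hab ha hb₁ hb₂ ?_ ?_ ?_ ?_ ?_
  · rintro rfl
    exact heC ((hker ⟨e, h1⟩).1 (by rw [hb₁, C.p_zero]))
  · rintro rfl
    exact heC' ((hker ⟨e', h2⟩).1 (by rw [hb₂, C.p_zero]))
  · rintro rfl
    apply hee
    refine (hker ((⟨e, h1⟩ : K)⁻¹ * ⟨e', h2⟩)).1 ?_
    rw [map_mul, map_inv, hb₁, hb₂, inv_mul_cancel]
  · rw [commutatorElement_eq_one_iff_mul_comm]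
    exact Subtype.ext hxe
  · rw [commutatorElement_eq_one_iff_mul_comm]
    exact Subtype.ext hxe'

theorem alpha_of (hE : _root_.Cfsg.Agent.OddCyclic.CaseECovA.Ext C T π) (sf : SFacts C T (Fintype.card F)) (hm : 1 ≤ m)
    (hF : Fintype.card F = 2 ^ (2 * m + 1))
    (hker : ∀ x : K, π x = 1 ↔ (x : G) ∈ centralizer (K : Set G))
    {z : K} (hz : π z = 1) (hz2 : z * z = 1) (hz1 : z ≠ 1)
    (hu : ∀ x, π x = 1 → x * x = 1 → x = 1 ∨ x = z) : CAlpha K (QQ T π) (EE C π) z := by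
  have hA := alpha hE hm hF hz hz2 hz1 hu
  have hcoord : ∀ x (hx : x ∈ QQ T π), ∃ h : x ∈ K, ∃ a b, π ⟨x, h⟩ = C.p a b := by
    intro x hx
    obtain ⟨h, hT⟩ := mem_QQ.1 hx
    exact ⟨h, (sf.memT _).1 hT⟩
  refine ⟨z.2, (hker z).1 hz, orderOf_eq_two (fun h => hz1 (Subtype.ext h))
    (congrArg Subtype.val hz2), ?_, ?_, ?_⟩
  · intro x hx e he
    obtain ⟨h1, a, b, hab⟩ := hcoord x hx
    obtain ⟨h2, c, hc⟩ := mem_EE.1 he
    rcases hA.val ⟨x, h1⟩ ⟨e, h2⟩ a b c hab hc with h3 | h3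
    · exact Or.inl (congrArg Subtype.val h3)
    · exact Or.inr (congrArg Subtype.val h3)
  · intro e he heC
    obtain ⟨h2, c, hc⟩ := mem_EE.1 he
    obtain ⟨x, a, b, hab, hxz⟩ := hA.right ⟨e, h2⟩ c hc (by
      rintro rfl
      exact heC ((hker ⟨e, h2⟩).1 (by rw [hc, C.p_zero])))
    exact ⟨x, mem_QQ.2 ⟨x.2, by rw [Subtype.coe_eta, hab]; exact (sf.memT _).2 ⟨a, b, rfl⟩⟩,
      congrArg Subtype.val hxz⟩
  · intro e he k hk hkC hall
    obtain ⟨h1, c, hc⟩ := mem_EE.1 he
    obtain ⟨h2, c', hc'⟩ := mem_EE.1 hk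
    have h3 := hA.two ⟨e, h1⟩ ⟨k, h2⟩ c c' hc hc' (by
      rintro rfl
      exact hkC ((hker ⟨k, h2⟩).1 (by rw [hc', C.p_zero]))) (by
      intro x a b hab hxk
      exact Subtype.ext (hall x (mem_QQ.2 ⟨x.2, by
        rw [Subtype.coe_eta, hab]; exact (sf.memT _).2 ⟨a, b, rfl⟩⟩) (congrArg Subtype.val hxk)))
    rcases h3 with h3 | h3
    · left
      exact (hker ⟨e, h1⟩).1 (by rw [hc, h3, C.p_zero])
    · right
      refine (hker ((⟨k, h2⟩ : K)⁻¹ * ⟨e, h1⟩)).1 ?_
      rw [map_mul, map_inv, hc, hc', h3, inv_mul_cancel]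

end transport

section simple

variable {G : Type*} [Group G] [Finite G] [IsSimpleGroup G]

/-- the situation of `StdSz.Reduce` -/
theorem reduce_simple {p : ℕ} {K : Subgroup G} (h : Std p K) : Reduce.Simple K := by
  have hpf : Fact (Nat.Prime 2) := ⟨Nat.prime_two⟩
  have hqs := h.quasi
  have hna : ∃ a b : G, a * b ≠ b * a := by
    by_contra hcon
    push Not at hcon
    exact Cfsg.Agent.SignalizersComponents.Components.quasisimple_not_isMulCommutative hqs
      ⟨⟨fun a b => Subtype.ext (hcon a b)⟩⟩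
  obtain ⟨a, b, hab⟩ := hna
  have hcen : center G = ⊥ := by
    rcases (inferInstance : (center G).Normal).eq_bot_or_eq_top with h1 | h1
    · exact h1
    · exact absurd (mem_center_iff.mp (h1 ▸ mem_top b : b ∈ center G) a) hab
  have hperf : Group.IsPerfect G := by
    constructor
    rcases (inferInstance : (commutator G).Normal).eq_bot_or_eq_top with h1 | h1
    · exfalso
      rw [commutator_def, Subgroup.commutator_eq_bot_iff_le_centralizer] at h1
      exact hab (mem_centralizer_iff.mp (h1 (mem_top a)) b (mem_top b)).symm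
    · exact h1
  have hq : Cfsg.IsQuasisimple G := by
    refine ⟨hperf, ?_⟩
    have e : G ≃* G ⧸ center G :=
      (QuotientGroup.quotientBot.symm).trans (QuotientGroup.quotientMulEquivOfEq hcen.symm)
    exact (MulEquiv.isSimpleGroup_congr e).1 inferInstance
  have hlay : Cfsg.layer G = ⊤ := by
    have h1 : Cfsg.IsComponent (⊤ : Subgroup G) := ⟨Subgroup.IsSubnormal.top,
      Cfsg.Agent.SignalizersComponents.PCompQuot.quasisimple_congr Subgroup.topEquiv.symm hq⟩
    exact eq_top_iff.mpr (le_sSup h1)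
  have hnK : ¬ K.Normal := by
    intro hn
    exact h.ne_top (Subgroup.normalizer_eq_top_iff.mpr hn)
  refine ⟨h.isStandard, hnK, CompBasic.oddCore_eq_bot h.cyc hperf, ?_, ?_, ?_, ?_, ?_⟩
  · have hn : (Cfsg.pCore 2 G).Normal := Cfsg.Agent.Lib.Cores.pCore_normal 2
    rcases hn.eq_bot_or_eq_top with h1 | h1
    · exact h1
    · exfalso
      have h2 : IsPGroup 2 (Cfsg.pCore 2 G) := Cfsg.Agent.Lib.Cores.pCore_isPGroup 2
      rw [h1] at h2
      have h3 : IsPGroup 2 K := h2.to_le le_top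
      obtain ⟨n, hn⟩ := IsPGroup.iff_card.mp h3
      have h4 := h.dvd
      rw [hn] at h4
      exact h.ne_two ((Nat.prime_dvd_prime_iff_eq h.prime Nat.prime_two).mp
        (h.prime.dvd_of_dvd_pow h4))
  · rw [hlay, Subgroup.coe_top, Subgroup.centralizer_univ, hcen]
  · rw [hlay]; exact le_top
  · rw [hlay]
    exact (MulEquiv.isSimpleGroup_congr (Subgroup.topEquiv (G := G))).2 inferInstance
  · rw [hlay]
    intro hc
    exact hab (congrArg Subtype.val
      (hc.is_comm.comm (⟨a, mem_top a⟩ : (⊤ : Subgroup G)) ⟨b, mem_top b⟩))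

/-- **Case E, covers**: a standard component `K` with `K / Z(K) ≅ Sz(8)` has trivial centre. -/
theorem false_of_cover {p : ℕ} {K : Subgroup G} (h : Std p K) {F : Type*} [Field F] [Fintype F]
    (hF8 : Fintype.card F = 8)
    (e : ↥K ⧸ Subgroup.center ↥K ≃* ↥(Cfsg.Lie.Sz F (2 ^ (1 + 1)))) (hne : center K ≠ ⊥) {g : G}
    (hg : g ∉ normalizer (K : Set G))
    (hev : Even (Nat.card (cj g (centralizer (K : Set G)) ⊓ normalizer (K : Set G) : Subgroup G))) :
    False := by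
  classical
  have hpf : Fact (Nat.Prime 2) := ⟨Nat.prime_two⟩
  have hm : 1 ≤ 1 := le_rfl
  have hF : Fintype.card F = 2 ^ (2 * 1 + 1) := by rw [hF8]; norm_num
  have := EquivMaps.charP_two hF
  have hqs := h.quasi
  have hperf : commutator K = ⊤ := hqs.1.commutator_eq_top
  let π : ↥K →* ↥(Cfsg.Lie.Sz F (2 ^ (1 + 1))) := e.toMonoidHom.comp (QuotientGroup.mk' _)
  have hπsurj : Function.Surjective π := e.surjective.comp (QuotientGroup.mk'_surjective _)
  have hπker : ∀ x : K, π x = 1 ↔ x ∈ Subgroup.center ↥K := by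
    intro x
    have h1 : π x = e (QuotientGroup.mk' (Subgroup.center ↥K) x) := rfl
    rw [h1, map_eq_one_iff e e.injective, ← MonoidHom.mem_ker, QuotientGroup.ker_mk']
  have hker : ∀ x : K, π x = 1 ↔ (x : G) ∈ centralizer (K : Set G) := by
    intro x
    rw [hπker, mem_center_iff, mem_centralizer_iff]
    constructor
    · intro h1 k hk
      exact congrArg Subtype.val (h1 ⟨k, hk⟩)
    · intro h1 k
      exact Subtype.ext (h1 k k.2)
  have hcen2 : ∀ x : K, π x = 1 → ∃ k : ℕ, x ^ 2 ^ k = 1 := by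
    intro x hx
    obtain ⟨k, m, hm, hkm⟩ := Nat.exists_eq_two_pow_mul_odd (orderOf_pos x).ne'
    refine ⟨k, ?_⟩
    apply CompBasic.eq_one_of_center (CompBasic.oddCyc_subgroup h.cyc K) hqs.1
      (Subgroup.pow_mem _ ((hπker x).1 hx) _)
    rw [orderOf_pow_of_dvd (by positivity) (by rw [hkm]; exact Dvd.intro m rfl), hkm,
      Nat.mul_div_cancel_left m (by positivity)]
    exact hm
  have sf := szFacts (F := F) hm hF
  have hE : _root_.Cfsg.Agent.OddCyclic.CaseECovA.Ext (szData hF) (ThreePrime.SzRel.ofGood (LieRecognition.SzMatrix.good hF)).T π :=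
    ⟨hπsurj, fun x hx y => (Subgroup.mem_center_iff.mp ((hπker x).mp hx) y).symm, hcen2, sf.memT,
      sf.two, sf.odd, hperf⟩
  have hinner : ∀ x ∈ normalizer (K : Set G), (∃ n : ℕ, x ^ 2 ^ n = 1) →
      ∃ k ∈ K, ∃ c ∈ centralizer (K : Set G), x = k * c := by
    rintro x hx ⟨n, hn⟩
    obtain ⟨a, ha⟩ := CoverD.exists_inner hperf hm hF e hx hn
    refine ⟨a, a.2, (a : G)⁻¹ * x, ?_, by group⟩
    rw [mem_centralizer_iff]
    exact fun k hk => (ha k hk).symm
  -- a central involution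
  obtain ⟨z, hz, hz2, hz1⟩ : ∃ z : K, π z = 1 ∧ z * z = 1 ∧ z ≠ 1 := by
    obtain ⟨⟨x, hx⟩, hx1'⟩ := Subgroup.ne_bot_iff_exists_ne_one.mp hne
    have hx1 : x ≠ 1 := fun h => hx1' (Subtype.ext h)
    obtain ⟨k, hk⟩ := hcen2 x ((hπker x).2 hx)
    have h1 : 2 ∣ orderOf x := by
      obtain ⟨i, -, hi⟩ := (Nat.dvd_prime_pow Nat.prime_two).1 (orderOf_dvd_of_pow_eq_one hk)
      rcases Nat.eq_zero_or_pos i with h0 | h0
      · exfalso
        rw [h0, pow_zero, orderOf_eq_one_iff] at hi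
        exact hx1 hi
      · rw [hi]
        exact dvd_pow_self 2 h0.ne'
    refine ⟨x ^ (orderOf x / 2), (hπker _).2 (pow_mem hx _), ?_, ?_⟩
    · rw [← pow_add, ← two_mul, Nat.mul_div_cancel' h1, pow_orderOf_eq_one]
    · intro h2
      have h3 := orderOf_dvd_of_pow_eq_one h2
      have h4 := orderOf_pos x
      have h5 : 0 < orderOf x / 2 := Nat.div_pos (Nat.le_of_dvd h4 h1) (by norm_num)
      have h6 := Nat.le_of_dvd h5 h3
      omega
  have hord : ∀ y : K, y * y = 1 → y ≠ 1 → orderOf (y : G) = 2 := fun y h1 h2 =>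
    orderOf_eq_two (fun h => h2 (Subtype.ext h)) (congrArg Subtype.val h1)
  have cq := cq_of hE sf hm hF hker hz hz2 hz1 hinner
  by_cases hu : ∀ x : K, π x = 1 → x * x = 1 → x = 1 ∨ x = z
  · -- one involution
    have ha := alpha_of hE sf hm hF hker hz hz2 hz1 hu
    have h8 : 8 ≤ Fintype.card F := hF8.ge
    have hR2 : ∀ R : Sylow 2 ↥(centralizer (K : Set G)),
        IsCyclic ↥(R : Subgroup ↥(centralizer (K : Set G))) := by
      intro R
      have h1 : IsSyl2 (centralizer (K : Set G))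
          ((R : Subgroup ↥(centralizer (K : Set G))).map (centralizer (K : Set G)).subtype) := by
        refine ⟨Subgroup.map_subtype_le _, R.isPGroup'.map _, fun Y hY hY2 hle => ?_⟩
        have h2 := R.is_maximal' (Q := Y.subgroupOf (centralizer (K : Set G)))
          hY2.comap_subtype (by
            intro x hx
            exact hle ⟨x, hx, rfl⟩)
        rw [← h2, Subgroup.subgroupOf_map_subtype, inf_eq_left.mpr hY]
      have h2 := card_two h cq ha h8 hg hev h1
      rw [Subgroup.card_map_of_injective (Subgroup.subtype_injective _)] at h2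
      exact isCyclic_of_prime_card (p := 2) h2
    have hodd := CoverD.odd_center (reduce_simple h) hm hF e hR2 (hord z hz2 hz1)
      ((hker z).1 hz)
    have h3 : orderOf z ∣ Nat.card (center K) := by
      have := _root_.orderOf_dvd_natCard (⟨z, (hπker z).1 hz⟩ : center K)
      rwa [Subgroup.orderOf_mk] at this
    have h4 : orderOf z = 2 := orderOf_eq_two hz1 hz2
    rw [h4] at h3
    exact (Nat.not_even_iff_odd.mpr hodd) (even_iff_two_dvd.mpr h3)
  · push Not at hu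
    obtain ⟨z', hz', hz2', hz1', hne'⟩ := hu
    have hb := beta_of hE sf hm hF hF8 hker hz hz2 hz1 hz' hz2' hz1' (Ne.symm hne')
    exact false_of_beta h cq hb z.2 ((hker z).1 hz) (hord z hz2 hz1) z'.2 ((hker z').1 hz')
      (hord z' hz2' hz1') (fun h1 => hne' (Subtype.ext h1).symm) hg hev

end simple

end Cfsg.Agent.OddCyclic.CaseECovE
end

-- part: OddCyclic/CaseELayDefs
section
/-!
# S0342, component type, case E (`K` a Suzuki group): the layer theorem, statement

blueprints/S0342-caseE.md, sections 6 and 8. `T = C_G(E)`, `S = R × Q` with `Q` a Sylow 2-subgroup of `K ≅ Sz(q)`,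
`E = Z(Q)`, `H` a complement of `Q` in `N_K(Q)`.
-/

set_option autoImplicit false

namespace Cfsg.Agent.OddCyclic.CaseELayDefs

open Subgroup
open Cfsg.Agent.LieExceptional Cfsg.Agent.LieExceptional.CITDefs

variable {G : Type*} [Group G]

/-- the hypotheses of the layer theorem -/
structure LayE (T R Q E H : Subgroup G) (q : ℕ) : Prop where
  two : IsPGroup 2 T
  leR : R ≤ T
  leQ : Q ≤ T
  leE : E ≤ Q
  elemR : Elem R
  bigR : 4 ≤ Nat.card R
  big : 16 ≤ q
  cardE : Nat.card E = q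
  cardH : Nat.card H = q - 1
  /-- `E` is central in `T` -/
  cen : ∀ e ∈ E, ∀ x ∈ T, e * x = x * e
  commRQ : ∀ r ∈ R, ∀ y ∈ Q, r * y = y * r
  disj : R ⊓ Q = ⊥
  mem_E : ∀ x ∈ Q, x ∈ E ↔ x * x = 1
  sq_mem : ∀ x ∈ Q, x * x ∈ E
  sq_inj : ∀ x ∈ Q, ∀ y ∈ Q, x * x = y * y → x⁻¹ * y ∈ E
  sq_surj : ∀ e ∈ E, ∃ x ∈ Q, x * x = e
  /-- `C_Q(u) = ⟨u⟩E` for `u ∈ Q - E` -/
  centQ : ∀ u ∈ Q, u ∉ E → ∀ x ∈ Q, x * u = u * x → x ∈ E ∨ u⁻¹ * x ∈ E
  commH : ∀ h ∈ H, ∀ k ∈ H, h * k = k * h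
  normT : ∀ h ∈ H, ∀ x ∈ T, h * x * h⁻¹ ∈ T
  normQ : ∀ h ∈ H, ∀ x ∈ Q, h * x * h⁻¹ ∈ Q
  fixR : ∀ h ∈ H, ∀ r ∈ R, h * r = r * h
  fpf : ∀ h ∈ H, h ≠ 1 → ∀ x ∈ T, h * x = x * h → x ∈ R
  /-- `H` is transitive on `E#` -/
  trans : ∀ e ∈ E, ∀ f ∈ E, e ≠ 1 → f ≠ 1 → ∃ h ∈ H, h * e * h⁻¹ = f
  /-- `H` is transitive on `(Q/E)#` -/
  trans' : ∀ x ∈ Q, ∀ y ∈ Q, x ∉ E → y ∉ E → ∃ h ∈ H, ∃ e ∈ E, h * x * h⁻¹ = y * e
  /-- `C_T(t) = RQ` -/
  cent : ∀ t ∈ R, t ≠ 1 → ∀ x ∈ T, x * t = t * x → ∃ r ∈ R, ∃ y ∈ Q, x = r * y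

/-- the conclusion of the layer theorem -/
structure LayEFin (T R Q E : Subgroup G) (q : ℕ) : Prop where
  sq : ∀ x ∈ T, x * x ∈ E
  comm : ∀ x ∈ T, ∀ y ∈ T, x * y * x⁻¹ * y⁻¹ ∈ E
  card : Nat.card T = Nat.card R * q ^ 3

end Cfsg.Agent.OddCyclic.CaseELayDefs
end

private theorem dce_b84f8f6bc8c7 : _root_.True := by
  try have : _root_.True := by simp only [_root_.Cfsg.Agent.OddCyclic.CaseECovE.QQ.eq_1]
  try have : _root_.True := by simp only [_root_.Cfsg.Agent.OddCyclic.CaseECovE.EE.eq_1]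
  exact _root_.True.intro
end

-- part: OddCyclic/RedFam
section
set_option linter.all false
open scoped Cfsg.Agent.FastGrp

/-!
# S0342, (C2), 2.2: families of best offenders

`Fam ρ T 𝒜`: `H` acts faithfully on the elementary abelian 2-group `V`, `O₂(H) = 1`, `T` is a Sylow 2-subgroup of `H`, `𝒜` a
set of best offenders in `T`, closed under `H`-conjugation in `T` (the images of the members of `𝒜(T)`).
`Pl ρ 𝒜 P h`: `P ≤ V` of order 4, invariant under `𝒜`, moved by a member of `𝒜`, `h` a 3-element of `H` acting on `P`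
without fixed points.
-/

set_option autoImplicit false

namespace Cfsg.Agent.OddCyclic.RedFam

open Subgroup
open Cfsg.Agent.OddCyclic.T1Module Cfsg.Agent.OddCyclic.FFBasic Cfsg.Agent.OddCyclic.FFRed
open Cfsg.Agent.OddCyclic.RedFFDefs
open Cfsg.Agent.OddCyclic.T1Defs (OddCyc)

universe u

variable {H : Type u} [Group H] {V : Type u} [CommGroup V]

structure Fam (ρ : H →* MulAut V) (T : Subgroup H) (𝒜 : Set (Subgroup H)) : Prop where
  sq : ∀ v : V, v * v = 1
  inj : Function.Injective ρ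
  cyc : OddCyc H
  core : ∀ D : Subgroup H, D.Normal → IsPGroup 2 D → D = ⊥
  two : IsPGroup 2 T
  syl : ¬ 2 ∣ T.index
  le : ∀ A ∈ 𝒜, A ≤ T
  bo : ∀ A ∈ 𝒜, BO ρ A
  conj : ∀ A ∈ 𝒜, ∀ h : H, A.map (MulAut.conj h).toMonoidHom ≤ T → A.map (MulAut.conj h).toMonoidHom ∈ 𝒜
  repl : ∀ A ∈ 𝒜, ∀ a ∈ A, Nat.card A = 4 → (fx ρ a).index = 2 → (CS ρ A).index = 4 → zpowers a ∈ 𝒜
  out : ∀ A ∈ 𝒜, A ≠ ⊥ → Out ρ A

structure Pl (ρ : H →* MulAut V) (𝒜 : Set (Subgroup H)) (P : Subgroup V) (h : H) : Prop where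
  card : Nat.card P = 4
  three : ∃ k : ℕ, h ^ 3 ^ k = 1
  inv : ∀ p ∈ P, ρ h p ∈ P
  fpf : ∀ p ∈ P, ρ h p = p → p = 1
  inv' : ∀ A ∈ 𝒜, ∀ a ∈ A, ∀ p ∈ P, ρ a p ∈ P
  moved : ∃ A ∈ 𝒜, ∃ a ∈ A, ∃ p ∈ P, ρ a p ≠ p

theorem exists_pow_of_mem {K : Type*} [Group K] {y x : K} (hy : 0 < orderOf y) (hx : x ∈ zpowers y) :
    ∃ m < orderOf y, y ^ m = x := by
  classical
  have hfo : IsOfFinOrder y := orderOf_pos_iff.1 hy
  obtain ⟨m, hm, he⟩ := Finset.mem_image.1 (hfo.mem_zpowers_iff_mem_range_orderOf.1 hx)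
  exact ⟨m, Finset.mem_range.1 hm, he⟩

/-! ### groups of order 4 -/

theorem card_mulAut_dvd_six {P : Type*} [Group P] (h4 : Nat.card P = 4) : Nat.card (MulAut P) ∣ 6 := by
  have hfin : Finite P := Nat.finite_of_card_ne_zero (by omega)
  let f : MulAut P →* Equiv.Perm {p : P // p ≠ 1} :=
    { toFun := fun φ => ((φ : P ≃* P).toEquiv.subtypeEquiv fun p => by
        constructor
        · intro h1 h2
          exact h1 ((map_eq_one_iff φ (MulEquiv.injective φ)).1 h2)
        · intro h1 h2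
          exact h1 (by rw [h2]; exact map_one φ))
      map_one' := rfl
      map_mul' := fun _ _ => rfl }
  have hinj : Function.Injective f := by
    intro φ ψ h
    apply MulEquiv.ext
    intro p
    by_cases hp : p = 1
    · rw [hp, map_one, map_one]
    · exact congrArg Subtype.val (Equiv.ext_iff.1 h ⟨p, hp⟩)
  have h1 : Nat.card {p : P // p ≠ 1} = 3 := by
    have h2 : Nat.card {p : P // p ≠ 1} + 1 = Nat.card P := by
      have h3 : Nat.card {p : P // p ≠ 1} = ({1}ᶜ : Set P).ncard := rfl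
      rw [h3, Set.ncard_compl, Set.ncard_singleton]
      have : 0 < Nat.card P := Nat.card_pos
      omega
    omega
  have h2 := Subgroup.card_dvd_of_injective f hinj
  rw [Nat.card_perm, h1] at h2
  exact h2

/-- the restriction of the action of `N` to the `N`-invariant subgroup `P` of order 4 -/
theorem eq_of_pow {ρ : H →* MulAut V} {P : Subgroup V} (h4 : Nat.card P = 4) {N : Subgroup H}
    (hN : ∀ n ∈ N, ∀ p ∈ P, ρ n p ∈ P) {n : H} (hn : n ∈ N) : ∀ p ∈ P, ρ (n ^ 6) p = p := by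
  intro p hp
  have h1 := card_mulAut_dvd_six (P := P) h4
  have hfin : Finite P := Nat.finite_of_card_ne_zero (by omega)
  have h2 : (res ρ N P hN ⟨n, hn⟩) ^ 6 = 1 := by
    obtain ⟨c, hc⟩ := h1
    rw [hc, pow_mul, pow_card_eq_one', one_pow]
  rw [← map_pow] at h2
  have h3 := congrArg (fun φ : MulAut P => ((φ ⟨p, hp⟩ : P) : V)) h2
  exact h3

/-- the cube of a 3-element acts trivially -/
theorem cube_eq {ρ : H →* MulAut V} {P : Subgroup V} (h4 : Nat.card P = 4) {h : H} (hinv : ∀ p ∈ P, ρ h p ∈ P)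
    (h3 : ∃ k : ℕ, h ^ 3 ^ k = 1) : ∀ p ∈ P, ρ (h ^ 3) p = p := by
  intro p hp
  obtain ⟨k, hk⟩ := h3
  have hfin : Finite P := Nat.finite_of_card_ne_zero (by omega)
  have hN : ∀ n ∈ zpowers h, ∀ p ∈ P, ρ n p ∈ P := by
    have h1 : ∀ m : ℕ, ∀ p ∈ P, ρ (h ^ m) p ∈ P := by
      intro m
      induction m with
      | zero => intro p hp; rw [pow_zero, map_one]; exact hp
      | succ m ih =>
        intro p hp
        rw [pow_succ, map_mul]
        exact ih _ (hinv p hp)
    intro n hn p hp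
    have h2 : 0 < 3 ^ k := by positivity
    have hfo : IsOfFinOrder h := isOfFinOrder_iff_pow_eq_one.2 ⟨3 ^ k, h2, hk⟩
    obtain ⟨m, -, rfl⟩ := exists_pow_of_mem hfo.orderOf_pos hn
    exact h1 m p hp
  have h6 := eq_of_pow (ρ := ρ) h4 hN (mem_zpowers h)
  -- `h ^ 3 ∈ ⟨h ^ 6⟩`
  have h7 : ∀ m : ℕ, ∀ q ∈ P, ρ (h ^ (6 * m)) q = q := by
    intro m
    induction m with
    | zero => intro q hq; rw [mul_zero, pow_zero, map_one]; rfl
    | succ m ih =>
      intro q hq
      rw [mul_add, mul_one, pow_add, map_mul, MulAut.mul_apply, h6 q hq, ih q hq]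
  rcases Nat.eq_zero_or_pos k with h0 | h0
  · rw [h0, pow_zero, pow_one] at hk
    rw [hk, one_pow, map_one]; rfl
  · -- `3 + 3 ^ k = 6 m`
    obtain ⟨m, hm⟩ : ∃ m, 3 + 3 ^ k = 6 * m := by
      obtain ⟨j, rfl⟩ := Nat.exists_eq_add_of_le' h0
      have h1 : Odd (3 ^ j) := Odd.pow (by decide)
      obtain ⟨i, hi⟩ := h1
      exact ⟨i + 1, by rw [pow_succ, hi]; ring⟩
    have h8 : h ^ 3 = h ^ (6 * m) := by rw [← hm, pow_add, hk, mul_one]
    rw [h8]
    exact h7 m p hp

/-! ### general facts -/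

variable [Finite H] [Finite V] {ρ : H →* MulAut V} {T : Subgroup H} {𝒜 : Set (Subgroup H)}

/-- a normal simple subgroup of order divisible by 3 is unique -/
theorem simple_unique (hc : OddCyc H) {L L' : Subgroup H} (hL : L.Normal) (hL' : L'.Normal) (hs : IsSimpleGroup L)
    (hs' : IsSimpleGroup L') (h3 : 3 ∣ Nat.card L) (h3' : 3 ∣ Nat.card L') : L = L' := by
  have hf : Fact (Nat.Prime 3) := ⟨Nat.prime_three⟩
  obtain ⟨⟨x, hxL⟩, hx⟩ := exists_prime_orderOf_dvd_card' (G := L) 3 h3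
  rw [Subgroup.orderOf_mk] at hx
  have hxL' : x ∈ L' := CompBasic.mem_of_orderOf hc Nat.prime_three (by norm_num) hL' h3' hx
  have hx1 : x ≠ 1 := by
    rintro rfl
    rw [orderOf_one] at hx
    norm_num at hx
  have key : ∀ L L' : Subgroup H, L.Normal → L'.Normal → IsSimpleGroup L → x ∈ L → x ∈ L' → L ≤ L' := by
    intro L L' hL hL' hs h1 h2
    have h3 : (L'.subgroupOf L).Normal := hL'.subgroupOf L
    rcases hs.eq_bot_or_eq_top_of_normal _ h3 with h4 | h4
    · exfalso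
      have h5 : (⟨x, h1⟩ : L) ∈ L'.subgroupOf L := mem_subgroupOf.2 h2
      rw [h4, mem_bot] at h5
      exact hx1 (congrArg Subtype.val h5)
    · rwa [subgroupOf_eq_top] at h4
  exact le_antisymm (key L L' hL hL' hs hxL hxL') (key L' L hL' hL hs' hxL' hxL)

/-- no normal subgroup of order 3 besides a normal simple subgroup of order divisible by 3 -/
theorem card_eq_three_of (hc : OddCyc H) {L : Subgroup H} (hL : L.Normal) (hs : IsSimpleGroup L)
    (h3 : 3 ∣ Nat.card L) {y : H} (hy : orderOf y = 3) (hn : (zpowers y).Normal) : Nat.card L = 3 := by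
  have hs' : IsSimpleGroup (zpowers y) := by
    have hf : Fact (Nat.Prime 3) := ⟨Nat.prime_three⟩
    exact isSimpleGroup_of_prime_card (p := 3) (by rw [Nat.card_zpowers, hy])
  have := simple_unique hc hL hn hs hs' h3 (by rw [Nat.card_zpowers, hy])
  rw [this, Nat.card_zpowers, hy]

/-- offenders all of whose involutions have the same fixed points move no plane -/
theorem no_plane {A : Subgroup H} (hA : BO ρ A) (h4 : 4 ≤ Nat.card A) (hf : ∀ a ∈ A, a ≠ 1 → fx ρ a = CS ρ A)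
    {P : Subgroup V} (hP : Nat.card P = 4) (hinv : ∀ a ∈ A, ∀ p ∈ P, ρ a p ∈ P) : ∀ a ∈ A, ∀ p ∈ P, ρ a p = p := by
  have hfinP : Finite P := Nat.finite_of_card_ne_zero (by omega)
  have hA2 : IsPGroup 2 A := fun a => ⟨1, by rw [pow_one, pow_two]; exact Subtype.ext (hA.sq a a.2)⟩
  obtain ⟨n, hn⟩ := IsPGroup.iff_card.1 hA2
  have hni : ¬ Function.Injective (res ρ A P hinv) := by
    intro hinj
    have h1 := (Subgroup.card_dvd_of_injective _ hinj).trans (card_mulAut_dvd_six (P := P) hP)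
    have h2 : 4 ∣ Nat.card A := by
      rw [hn] at h4 ⊢
      have : 2 ≤ n := by
        by_contra hcon
        have h3 : n ≤ 1 := by omega
        have h5 : 2 ^ n ≤ 2 ^ 1 := Nat.pow_le_pow_right (by norm_num) h3
        omega
      exact pow_dvd_pow 2 this
    have h3 := h2.trans h1
    norm_num at h3
  rw [← MonoidHom.ker_eq_bot_iff, ← ne_eq, Subgroup.ne_bot_iff_exists_ne_one] at hni
  obtain ⟨⟨a, ha⟩, ha1⟩ := hni
  have ha1' : (a : H) ≠ 1 := fun h => ha1 (Subtype.ext (Subtype.ext h))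
  have h1 : ∀ p ∈ P, p ∈ fx ρ (a : H) := by
    intro p hp
    have h2 := congrArg (fun φ : MulAut P => ((φ ⟨p, hp⟩ : P) : V)) (MonoidHom.mem_ker.1 ha)
    exact h2
  intro b hb p hp
  have h2 := h1 p hp
  rw [hf a a.2 ha1'] at h2
  exact h2 b hb

/-! ### (S3) -/

/-- the normal subgroup `⟨y⟩` of order 3, `|V : C_V(y)| = 4` -/
structure S3 (ρ : H →* MulAut V) (y : H) : Prop where
  order : orderOf y = 3
  normal : (zpowers y).Normal
  index : (fx ρ y).index = 4

theorem S3.inv_range {y : H} (h : S3 ρ y) (g : H) : ∀ v ∈ (cm ρ y).range, ρ g v ∈ (cm ρ y).range := by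
  intro v hv
  have h1 : g * y * g⁻¹ ∈ zpowers y := h.normal.conj_mem y (mem_zpowers y) g
  have h2 : g * y * g⁻¹ = 1 ∨ g * y * g⁻¹ = y ∨ g * y * g⁻¹ = y⁻¹ := by
    obtain ⟨m, hm, he⟩ := exists_pow_of_mem (orderOf_pos y) h1
    rw [h.order] at hm
    rw [← he]
    interval_cases m
    · left; exact pow_zero y
    · right; left; exact pow_one y
    · right; right
      rw [eq_inv_iff_mul_eq_one, ← pow_succ]
      change y ^ 3 = 1
      rw [← h.order, pow_orderOf_eq_one]
  rcases h2 with h2 | h2 | h2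
  · exfalso
    have h3 : y = 1 := by simpa using h2
    have h4 := h.order
    rw [h3, orderOf_one] at h4
    norm_num at h4
  · exact apply_mem_range ρ (mul_inv_eq_iff_eq_mul.1 h2) hv
  · exact apply_mem_range_of_inv ρ h2 hv

theorem S3.card_range {y : H} (h : S3 ρ y) : Nat.card (cm ρ y).range = 4 := by
  rw [card_range_cm, h.index]

/-- the 3-elements of `H` lie in `⟨y⟩` -/
theorem S3.mem {y : H} (h : S3 ρ y) (hV : ∀ v : V, v * v = 1) (hc : OddCyc H) {x : H}
    (hx : ∃ k : ℕ, x ^ 3 ^ k = 1) : x ∈ zpowers y := by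
  have hf : Fact (Nat.Prime 3) := ⟨Nat.prime_three⟩
  by_cases hx1 : x = 1
  · rw [hx1]; exact one_mem _
  obtain ⟨k, hk⟩ := hx
  obtain ⟨m, hm, ho⟩ := (Nat.dvd_prime_pow Nat.prime_three).1 (orderOf_dvd_of_pow_eq_one hk)
  have hm0 : m ≠ 0 := by
    rintro rfl
    rw [pow_zero, orderOf_eq_one_iff] at ho
    exact hx1 ho
  obtain ⟨j, rfl⟩ := Nat.exists_eq_succ_of_ne_zero hm0
  have h1 : orderOf (x ^ 3 ^ j) = 3 := by
    rw [orderOf_pow' x (by positivity), ho, pow_succ]
    rw [Nat.gcd_eq_right (Dvd.intro _ rfl), Nat.mul_div_cancel_left 3 (by positivity)]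
  have h2 : x ^ 3 ^ j ∈ zpowers y :=
    CompBasic.mem_of_orderOf hc Nat.prime_three (by norm_num) h.normal (by rw [Nat.card_zpowers, h.order]) h1
  have h3 : zpowers (x ^ 3 ^ j) = zpowers y :=
    Subgroup.eq_of_le_of_card_ge ((zpowers_le).2 h2) (by rw [Nat.card_zpowers, Nat.card_zpowers, h1, h.order])
  rcases Nat.eq_zero_or_pos j with hj | hj
  · rw [hj, pow_zero, pow_one] at h2
    exact h2
  · exfalso
    -- `y` acts trivially on `[V, y]`
    have h4 := cube_eq (ρ := ρ) (P := (cm ρ y).range) h.card_range (h := x) (h.inv_range x) ⟨k, hk⟩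
    have h5 : ∀ v ∈ (cm ρ y).range, ρ y v = v := by
      have h6 : y ∈ zpowers (x ^ 3 ^ j) := by rw [h3]; exact mem_zpowers y
      have h7 : zpowers (x ^ 3 ^ j) ≤ zpowers (x ^ 3) := by
        rw [zpowers_le]
        obtain ⟨i, rfl⟩ := Nat.exists_eq_add_of_le' hj
        have e : x ^ 3 ^ (i + 1) = (x ^ 3) ^ 3 ^ i := by rw [← pow_mul, pow_succ, mul_comm]
        change x ^ 3 ^ (i + 1) ∈ _
        rw [e]
        exact pow_mem (mem_zpowers _) _
      obtain ⟨i, hi⟩ := mem_zpowers_iff.1 (h7 h6)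
      intro v hv
      have h8 : v ∈ fx ρ (x ^ 3) := h4 v hv
      have h9 : v ∈ fx ρ ((x ^ 3) ^ i) := by
        obtain ⟨n, rfl | rfl⟩ := i.eq_nat_or_neg
        · rw [zpow_natCast]; exact fx_pow ρ h8 n
        · rw [zpow_neg, zpow_natCast]; exact fx_inv ρ (fx_pow ρ h8 n)
      rw [hi] at h9
      exact h9
    have h6 : (cm ρ y).range = ⊥ := by
      rw [eq_bot_iff_forall]
      intro v hv
      exact eq_one_of_fix hV (by rw [h.order]; decide) hv (h5 v hv)
    have h7 := h.card_range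
    rw [h6, card_bot] at h7
    norm_num at h7

/-- a plane on which a 3-element of `H` acts without fixed points is `[V, y]` -/
theorem S3.plane {y : H} (h : S3 ρ y) (hV : ∀ v : V, v * v = 1) (hc : OddCyc H) {P : Subgroup V} {x : H}
    (hP : Nat.card P = 4) (h3 : ∃ k : ℕ, x ^ 3 ^ k = 1) (hinv : ∀ p ∈ P, ρ x p ∈ P)
    (hfpf : ∀ p ∈ P, ρ x p = p → p = 1) : P = (cm ρ y).range := by
  have hfin : Finite P := Nat.finite_of_card_ne_zero (by omega)
  have hx := h.mem hV hc h3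
  have hyx : ρ x * ρ y = ρ y * ρ x := by
    obtain ⟨i, rfl⟩ := mem_zpowers_iff.1 hx
    rw [← map_mul, ← map_mul, ← zpow_add_one, ← zpow_one_add, add_comm]
  -- `P = [P, x] ≤ [V, x] ≤ [V, y]`
  have h1 : (cm ρ x).range ≤ (cm ρ y).range := by
    have h2 : ∀ n : ℕ, (cm ρ (y ^ n)).range ≤ (cm ρ y).range := by
      intro n
      induction n with
      | zero =>
        rintro _ ⟨v, rfl⟩
        rw [cm_apply, pow_zero, map_one]
        simp
      | succ n ih =>
        rintro _ ⟨v, rfl⟩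
        have e : cm ρ (y ^ (n + 1)) v = cm ρ (y ^ n) (ρ y v) * cm ρ y v := by
          rw [cm_apply, cm_apply, cm_apply, pow_succ, map_mul, MulAut.mul_apply]
          group
        rw [e]
        exact mul_mem (ih ⟨_, rfl⟩) ⟨v, rfl⟩
    obtain ⟨m, hm, he⟩ := exists_pow_of_mem (orderOf_pos y) hx
    rw [← he]
    exact h2 m
  have h2 : P ≤ (cm ρ x).range := by
    -- `p ↦ [p, x]` is injective on `P`
    let f : P →* P :=
      { toFun := fun p => ⟨cm ρ x p, mul_mem (hinv p p.2) (inv_mem p.2)⟩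
        map_one' := Subtype.ext (map_one _)
        map_mul' := fun a b => Subtype.ext (map_mul (cm ρ x) (a : V) b) }
    have hinj : Function.Injective f := by
      rw [injective_iff_map_eq_one]
      intro p hp
      have h3 : cm ρ x p = 1 := congrArg Subtype.val hp
      rw [cm_apply, mul_inv_eq_one] at h3
      exact Subtype.ext (hfpf p p.2 h3)
    have hsur := (Finite.injective_iff_surjective (f := f)).1 hinj
    intro p hp
    obtain ⟨q, hq⟩ := hsur ⟨p, hp⟩
    exact ⟨q, congrArg Subtype.val hq⟩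
  exact Subgroup.eq_of_le_of_card_ge (h2.trans h1) (by rw [h.card_range, hP])

end Cfsg.Agent.OddCyclic.RedFam
end

-- part: OddCyclic/RedLinA
section
set_option linter.all false
open scoped Cfsg.Agent.FastGrp

/-!
# S0342, (C2), 2.2: the case `SL₂(q)`, uniformly for all offenders

`LinA ρ 𝒜 L F`: `L ⊴ H`, `L = SL₂(F)`, `V/C_V(L)` natural, all members `≠ 1` of `𝒜` are Sylow 2-subgroups of `L`.
-/

set_option autoImplicit false
set_option linter.unusedSectionVars false

namespace Cfsg.Agent.OddCyclic.RedLinA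

open Subgroup
open Cfsg.Agent.OddCyclic.T1Module Cfsg.Agent.OddCyclic.FFBasic Cfsg.Agent.OddCyclic.FFRed Cfsg.Agent.OddCyclic.FFSl2
open Cfsg.Agent.OddCyclic.RedFFDefs Cfsg.Agent.OddCyclic.RedFam
open Cfsg.Agent.OddCyclic.COneXL (alt mem_alt simple_alt card_alt isNat_of_lin fpf_of_nat card_ne)
open Cfsg.Agent.OddCyclic.COneXB (simple_inf)
open Cfsg.Agent.OddCyclic.T1Defs (OddCyc)
open Matrix (SpecialLinearGroup)
open Equiv (swap)

universe u

variable {H : Type u} [Group H] {V : Type u} [CommGroup V]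

/-- the output of the case `SL₂(q)` -/
structure LinA (ρ : H →* MulAut V) (𝒜 : Set (Subgroup H)) (L : Subgroup H) (F : Type) [Field F] [Fintype F]
    [CharP F 2] (e : L ≃* SpecialLinearGroup (Fin 2) F) : Prop where
  normal : L.Normal
  four : 4 ≤ Fintype.card F
  nat : IsNat (ρ.comp (L.subtype.comp e.symm.toMonoidHom))
  idx : (CS ρ L).index = Fintype.card F ^ 2
  fpf : ∀ y ∈ L, Odd (orderOf y) → y ≠ 1 → fx ρ y ≤ CS ρ L
  all : ∀ A ∈ 𝒜, A ≠ ⊥ → A ≤ L ∧ Nat.card A = Fintype.card F ∧ (CS ρ A).index = Fintype.card F ∧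
    ∀ a ∈ A, a ≠ 1 → fx ρ a = CS ρ A
  ex : ∃ A ∈ 𝒜, A ≠ ⊥

/-- elements acting trivially on `V / C_V(L)` centralise `L` -/
theorem cent_of_quot {ρ : H →* MulAut V} (hinj : Function.Injective ρ) {L : Subgroup H} (hL : L.Normal)
    (hLs : IsSimpleGroup L) (hna : ∃ x y : L, x * y ≠ y * x) {t : H} (ht : ∀ v, ρ t v * v⁻¹ ∈ CS ρ L) :
    t ∈ centralizer (L : Set H) := by
  have hinv := COneXA.inv_CS (ρ := ρ) hL
  have hn := COneXA.KQ_normal hinv
  have ht' : t ∈ COneXA.KQ ρ (CS ρ L) hinv := ht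
  rcases simple_inf hLs hn with h1 | h1
  · rw [mem_centralizer_iff]
    intro l hl
    have h2 : l * t * l⁻¹ * t⁻¹ ∈ COneXA.KQ ρ (CS ρ L) hinv ⊓ L := by
      refine ⟨Subgroup.mul_mem _ (hn.conj_mem t ht' l) (Subgroup.inv_mem _ ht'), ?_⟩
      have e : l * t * l⁻¹ * t⁻¹ = l * (t * l⁻¹ * t⁻¹) := by group
      rw [e]
      exact mul_mem hl (hL.conj_mem _ (inv_mem hl) t)
    rw [h1, mem_bot] at h2
    calc l * t = (l * t * l⁻¹ * t⁻¹) * (t * l) := by group
      _ = t * l := by rw [h2, one_mul]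
  · exfalso
    obtain ⟨x, y, hxy⟩ := hna
    apply hxy
    apply Subtype.ext
    change (x : H) * y = y * x
    have key : ∀ a ∈ L, ∀ b ∈ L, ∀ v, ρ (a * b) v = (ρ a v * v⁻¹) * (ρ b v * v⁻¹) * v := by
      intro a ha b hb v
      have h3 : ρ a (ρ b v * v⁻¹) = ρ b v * v⁻¹ := h1 hb v a ha
      rw [map_mul (ρ a), map_inv (ρ a)] at h3
      rw [map_mul, MulAut.mul_apply]
      calc ρ a (ρ b v) = (ρ a (ρ b v) * (ρ a v)⁻¹) * ρ a v := by group
        _ = (ρ b v * v⁻¹) * ρ a v := by rw [h3]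
        _ = (ρ b v * v⁻¹) * (ρ a v * v⁻¹) * v := by group
        _ = (ρ a v * v⁻¹) * (ρ b v * v⁻¹) * v := by rw [mul_comm (ρ b v * v⁻¹)]
    apply hinj
    ext v
    rw [key x x.2 y y.2 v, key y y.2 x x.2 v, mul_comm (ρ (x : H) v * v⁻¹)]

variable {ρ : H →* MulAut V} {T : Subgroup H} {𝒜 : Set (Subgroup H)}

/-- the output of FFC in the case `S₅` is incompatible with a normal subgroup on which the odd elements act without
fixed points -/
theorem false_of_five [Finite H] [Finite V] (hc : OddCyc H) (hinj : Function.Injective ρ) {L : Subgroup H}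
    (hL : L.Normal) (hLs : IsSimpleGroup L) (h3 : 3 ∣ Nat.card L)
    (hfpf : ∀ y ∈ L, Odd (orderOf y) → y ≠ 1 → fx ρ y ≤ CS ρ L) {K : Subgroup H} (e : K ≃* Equiv.Perm (Fin 5))
    (hn : (alt K e).Normal) (h2 : ∀ i j : Fin 5, i ≠ j → (fx ρ (e.symm (swap i j) : H)).index = 2) : False := by
  have hLe : alt K e = L := simple_unique hc hn hL simple_alt hLs (by rw [card_alt]; norm_num) h3
  obtain ⟨t, ht⟩ : ∃ t : K, t = e.symm (swap 0 1) := ⟨_, rfl⟩
  obtain ⟨y, hy⟩ : ∃ y : K, y = e.symm (swap 2 3 * swap 3 4) := ⟨_, rfl⟩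
  have hty : t * y = y * t := by
    rw [ht, hy, ← map_mul, ← map_mul]
    congr 1
    decide
  have hyL : (y : H) ∈ L := by
    rw [← hLe, mem_alt y.2]
    have : e ⟨y, y.2⟩ = swap 2 3 * swap 3 4 := by rw [hy]; exact e.apply_symm_apply _
    rw [this, Equiv.Perm.mem_alternatingGroup, map_mul, Equiv.Perm.sign_swap (by decide),
      Equiv.Perm.sign_swap (by decide)]
    rfl
  have hy3 : orderOf (y : H) = 3 := by
    rw [Subgroup.orderOf_coe, hy, MulEquiv.orderOf_eq]
    exact orderOf_eq_prime (p := 3) (by decide) (by decide)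
  have hy1 : (y : H) ≠ 1 := by
    intro h0
    rw [h0, orderOf_one] at hy3
    omega
  have hfy := hfpf y hyL (by rw [hy3]; decide) hy1
  have htX : (t : H) * y = y * t := congrArg Subtype.val hty
  have htr : Nat.card (cm ρ (t : H)).range = 2 := by
    rw [card_range_cm, ht]
    exact h2 0 1 (by decide)
  have hKQ : ∀ v, ρ (t : H) v * v⁻¹ ∈ CS ρ L := by
    intro v
    apply hfy
    change ρ (y : H) (ρ (t : H) v * v⁻¹) = ρ (t : H) v * v⁻¹
    have hc : ρ (t : H) v * v⁻¹ ∈ (cm ρ (t : H)).range := ⟨v, cm_apply _ _ _⟩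
    have hc' : ρ (y : H) (ρ (t : H) v * v⁻¹) ∈ (cm ρ (t : H)).range :=
      apply_mem_range ρ (z := (y : H)) htX.symm hc
    by_cases h1 : ρ (t : H) v * v⁻¹ = 1
    · rw [h1, map_one]
    · rcases COneXA.eq_or_of_card_two htr hc h1 hc' with h3 | h3
      · exact absurd ((map_eq_one_iff _ (ρ (y : H)).injective).1 h3) h1
      · exact h3
  have hna : ∃ x y : L, x * y ≠ y * x := by rw [← hLe]; exact COneXL.alt_ncomm
  have h4 := cent_of_quot hinj hL hLs hna hKQ
  -- `t` centralises `(0 1 2)`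
  obtain ⟨w, hw⟩ : ∃ w : K, w = e.symm (swap 0 1 * swap 1 2) := ⟨_, rfl⟩
  have hwL : (w : H) ∈ L := by
    rw [← hLe, mem_alt w.2]
    have : e ⟨w, w.2⟩ = swap 0 1 * swap 1 2 := by rw [hw]; exact e.apply_symm_apply _
    rw [this, Equiv.Perm.mem_alternatingGroup, map_mul, Equiv.Perm.sign_swap (by decide),
      Equiv.Perm.sign_swap (by decide)]
    rfl
  have h5 := mem_centralizer_iff.1 h4 _ hwL
  have h6 : w * t = t * w := Subtype.ext h5
  rw [ht, hw, ← map_mul, ← map_mul] at h6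
  have h7 := e.symm.injective h6
  revert h7
  decide

theorem three_dvd_sl2 (F : Type) [Field F] [Fintype F] [CharP F 2] :
    3 ∣ Nat.card (SpecialLinearGroup (Fin 2) F) := by
  rw [T1Sl2.card_sl2]
  obtain ⟨n, hn, hq⟩ := T1Sl2.card_pow F
  rw [hq]
  have h1 : 3 ∣ (2 ^ n + 1) * (2 ^ n - 1) := by
    have h2 : (2 ^ n + 1) * (2 ^ n - 1) = 4 ^ n - 1 := by
      have h3 : (2 ^ n + 1) * (2 ^ n - 1) = (2 ^ n) ^ 2 - 1 ^ 2 := (Nat.sq_sub_sq _ _).symm
      rw [h3, ← pow_mul, mul_comm, pow_mul]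
      norm_num
    rw [h2]
    have h3 := Nat.sub_dvd_pow_sub_pow 4 1 n
    rwa [one_pow] at h3
  obtain ⟨c, hc⟩ := h1
  exact ⟨c * 2 ^ n, by linear_combination (2 ^ n) * hc⟩

/-- **the case `SL₂(q)`** -/
theorem exists_linA [Finite H] [Finite V] (h : Fam ρ T 𝒜) {A : Subgroup H} (hA : A ∈ 𝒜) (hA1 : A ≠ ⊥)
    (hl : OutLin ρ A) : ∃ (L : Subgroup H) (F : Type) (_ : Field F) (_ : Fintype F) (_ : CharP F 2)
      (e : L ≃* SpecialLinearGroup (Fin 2) F), LinA ρ 𝒜 L F e := by
  obtain ⟨L, hL, hAL, F, _, _, hchar, h4, ⟨e⟩, hcA, hiL, hiA, hfix⟩ := hl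
  have hn := isNat_of_lin h.sq h.inj (h.bo A hA).sq hAL h4 e hcA hiA
  have hfpf : ∀ y ∈ L, Odd (orderOf y) → y ≠ 1 → fx ρ y ≤ CS ρ L := fun y hy ho hy1 => fpf_of_nat e hn hy ho hy1
  have hLs : IsSimpleGroup L := by
    have := isSimpleGroup_sl2 (F := F) h4
    exact e.isSimpleGroup
  have h3L : 3 ∣ Nat.card L := by
    rw [Nat.card_congr e.toEquiv]
    exact three_dvd_sl2 F
  have h2L : Fintype.card F ∣ Nat.card L := by
    rw [← hcA]; exact Subgroup.card_dvd_of_le hAL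
  refine ⟨L, F, inferInstance, inferInstance, hchar, e, hL, h4, hn, hiL, hfpf, ?_, ⟨A, hA, hA1⟩⟩
  intro B hB hB1
  rcases h.out B hB hB1 with h5 | h5 | h5 | h5
  · exfalso
    obtain ⟨y, hy3, hyn, -⟩ := h5
    have h6 := card_eq_three_of h.cyc hL hLs h3L hy3 hyn
    rw [h6] at h2L
    have h7 := Nat.le_of_dvd (by norm_num) h2L
    omega
  · obtain ⟨L', hL', hBL, F', _, _, hchar', h4', ⟨e'⟩, hcB, hiL', hiB, hfix'⟩ := h5
    have hLs' : IsSimpleGroup L' := by
      have := isSimpleGroup_sl2 (F := F') h4'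
      exact e'.isSimpleGroup
    have h3L' : 3 ∣ Nat.card L' := by
      rw [Nat.card_congr e'.toEquiv]
      exact three_dvd_sl2 F'
    have hLL := simple_unique h.cyc hL hL' hLs hLs' h3L h3L'
    subst hLL
    have hq : Fintype.card F' = Fintype.card F := by
      rw [hiL] at hiL'
      exact (Nat.pow_left_injective (n := 2) (by norm_num) hiL').symm
    rw [hq] at hcB hiB
    exact ⟨hBL, hcB, hiB, hfix'⟩
  · exfalso
    obtain ⟨K, hBK, e', hn', h2, -⟩ := h5
    exact false_of_five h.cyc h.inj hL hLs h3L hfpf e' hn' h2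
  · exfalso
    obtain ⟨L', hL', hBL, hLs', h168⟩ := h5
    have hLL := simple_unique h.cyc hL hL' hLs hLs' h3L (by rw [h168]; norm_num)
    rw [← hLL, Nat.card_congr e.toEquiv] at h168
    exact card_ne F h4 h168

end Cfsg.Agent.OddCyclic.RedLinA
end

-- part: OddCyclic/Eq/PartIFourA
section
set_option linter.all false
open scoped Cfsg.Agent.FastGrp

/-!
# (E_q), Part I, `q = 4`, (3.4): facts on four-groups and (iii)

* `sym3` : a 2-element acting nontrivially on a four-group `U` inverts the fixed point free action of `k`;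
* `odd_cent` : an element of odd order normalising a four-group and centralising an involution of it centralises it;
* `exists_sigma` : (iii).
-/

set_option autoImplicit false
set_option linter.unusedSectionVars false

namespace Cfsg.Agent.OddCyclic.Eq.PartIFour

open Subgroup Cfsg.Agent.OddCyclic.CompStandard Cfsg.Agent.OddCyclic.RedFiveThree Cfsg.Agent.OddCyclic.CaseABase
open Cfsg.Agent.OddCyclic.Eq.Line
open Cfsg.Agent.LieExceptional.CITDefs (IsSyl2)
open Cfsg.Agent.ZN (o2)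

universe u

variable {G : Type u} [Group G]

/-- the elements of a four-group -/
theorem four_cases {A : Subgroup G} (hA : Nat.card A = 4) (h2 : ∀ x ∈ A, x * x = 1) {a b : G} (ha : a ∈ A) (hb : b ∈ A)
    (ha1 : a ≠ 1) (hb1 : b ≠ 1) (hab : a ≠ b) {x : G} (hx : x ∈ A) : x = 1 ∨ x = a ∨ x = b ∨ x = a * b := by
  classical
  have hfin : Finite A := Nat.finite_of_card_ne_zero (by omega)
  have : Fintype A := Fintype.ofFinite A
  by_contra hcon
  push Not at hcon
  obtain ⟨h0, h1, h3, h4⟩ := hcon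
  have hab1 : a * b ≠ 1 := by
    intro h
    apply hab
    have h5 := h2 b hb
    calc a = a * b * b⁻¹ := by group
      _ = b⁻¹ := by rw [h, one_mul]
      _ = b := inv_eq_of_mul_eq_one_left h5
  have haba : a * b ≠ a := fun h => hb1 (mul_eq_left.mp h)
  have habb : a * b ≠ b := fun h => ha1 (mul_eq_right.mp h)
  let S : Finset A := {⟨1, A.one_mem⟩, ⟨a, ha⟩, ⟨b, hb⟩, ⟨a * b, A.mul_mem ha hb⟩, ⟨x, hx⟩}
  have hS : S.card = 5 := by
    simp only [S]
    rw [Finset.card_insert_of_notMem, Finset.card_insert_of_notMem, Finset.card_insert_of_notMem,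
      Finset.card_insert_of_notMem, Finset.card_singleton]
    · simp only [Finset.mem_singleton, Subtype.mk.injEq]
      exact fun h => h4 h.symm
    · simp only [Finset.mem_insert, Finset.mem_singleton, Subtype.mk.injEq, not_or]
      exact ⟨fun h => habb h.symm, fun h => h3 h.symm⟩
    · simp only [Finset.mem_insert, Finset.mem_singleton, Subtype.mk.injEq, not_or]
      exact ⟨hab, fun h => haba h.symm, fun h => h1 h.symm⟩
    · simp only [Finset.mem_insert, Finset.mem_singleton, Subtype.mk.injEq, not_or]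
      exact ⟨fun h => ha1 h.symm, fun h => hb1 h.symm, fun h => hab1 h.symm, fun h => h0 h.symm⟩
  have h5 := Finset.card_le_univ S
  rw [hS, ← Nat.card_eq_fintype_card, hA] at h5
  omega

/-- a second element of a four-group -/
theorem exists_ne {A : Subgroup G} (hA : Nat.card A = 4) (a : G) : ∃ b ∈ A, b ≠ 1 ∧ b ≠ a := by
  classical
  have hfin : Finite A := Nat.finite_of_card_ne_zero (by omega)
  have : Fintype A := Fintype.ofFinite A
  by_contra hcon
  push Not at hcon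
  have h1 : ∀ b ∈ A, b = 1 ∨ b = a := fun b hb => by
    by_cases h : b = 1
    · exact Or.inl h
    · exact Or.inr (hcon b hb h)
  have h2 : Nat.card A ≤ 2 := by
    rw [Nat.card_eq_fintype_card]
    let f : A → Bool := fun b => decide ((b : G) = 1)
    refine (Fintype.card_le_of_injective f ?_).trans (by simp)
    intro b c hbc
    have hbc' : ((b : G) = 1) ↔ ((c : G) = 1) := by
      have : decide ((b : G) = 1) = decide ((c : G) = 1) := hbc
      simpa using this
    apply Subtype.ext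
    rcases h1 b b.2 with h3 | h3
    · rw [h3, hbc'.mp h3]
    · rcases h1 c c.2 with h4 | h4
      · rw [h4, hbc'.mpr h4]
      · rw [h3, h4]
  omega

/-- powers of a normalising element -/
theorem conj_pow_eq {d x y : G} (h : d * x * d⁻¹ = y) (h' : d * y * d⁻¹ = x) : ∀ n : ℕ,
    d ^ (2 * n) * x * (d ^ (2 * n))⁻¹ = x := by
  intro n
  induction n with
  | zero => simp
  | succ n ih =>
    have e : d ^ (2 * (n + 1)) = d ^ (2 * n) * (d * d) := by rw [mul_add, pow_add, mul_one, pow_two]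
    rw [e]
    calc d ^ (2 * n) * (d * d) * x * (d ^ (2 * n) * (d * d))⁻¹ =
        d ^ (2 * n) * (d * (d * x * d⁻¹) * d⁻¹) * (d ^ (2 * n))⁻¹ := by group
      _ = x := by rw [h, h', ih]

/-- an element of odd order normalising a four-group and centralising one of its involutions centralises it -/
theorem odd_cent {A : Subgroup G} (hA : Nat.card A = 4) (h2 : ∀ x ∈ A, x * x = 1) {u d : G} (hu : u ∈ A) (hu1 : u ≠ 1)
    (hd : d ∈ normalizer (A : Set G)) (hdu : d * u * d⁻¹ = u) (hodd : Odd (orderOf d)) :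
    d ∈ centralizer (A : Set G) := by
  obtain ⟨v, hv, hv1, hvu⟩ := exists_ne hA u
  have hdv : d * v * d⁻¹ ∈ A := forall_of_mem_normalizer hd _ hv
  have hvv : d * v * d⁻¹ = v := by
    rcases four_cases hA h2 hu hv hu1 hv1 (fun h => hvu h.symm) hdv with h | h | h | h
    · exfalso; apply hv1
      calc v = d⁻¹ * (d * v * d⁻¹) * d := by group
        _ = 1 := by rw [h]; group
    · exfalso; apply hvu
      have : d * v * d⁻¹ = d * u * d⁻¹ := by rw [h, hdu]
      exact mul_left_cancel (mul_right_cancel this)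
    · exact h
    · exfalso
      have h3 : d * (u * v) * d⁻¹ = v := by
        calc d * (u * v) * d⁻¹ = (d * u * d⁻¹) * (d * v * d⁻¹) := by group
          _ = (u * u) * v := by rw [hdu, h, mul_assoc]
          _ = v := by rw [h2 u hu, one_mul]
      obtain ⟨j, hj⟩ := hodd
      have h4 := conj_pow_eq h h3 (j + 1)
      have h5 : d ^ (2 * (j + 1)) = d := by
        have : 2 * (j + 1) = orderOf d + 1 := by omega
        rw [this, pow_succ, pow_orderOf_eq_one, one_mul]
      rw [h5, h] at h4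
      exact hu1 (mul_eq_right.mp h4)
  rw [mem_centralizer_iff]
  intro x hx
  have hcu : u * d = d * u := by
    calc u * d = (d * u * d⁻¹) * d := by rw [hdu]
      _ = d * u := by group
  have hcv : v * d = d * v := by
    calc v * d = (d * v * d⁻¹) * d := by rw [hvv]
      _ = d * v := by group
  rcases four_cases hA h2 hu hv hu1 hv1 (fun h => hvu h.symm) hx with h | h | h | h
  · rw [h, one_mul, mul_one]
  · rw [h, hcu]
  · rw [h, hcv]
  · rw [h, mul_assoc, hcv, ← mul_assoc, hcu, mul_assoc]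

/-- the action on a four-group: a 2-element acting nontrivially inverts the element of order 3 -/
theorem sym3 {U : Subgroup G} (hU : Nat.card U = 4) (h2 : ∀ x ∈ U, x * x = 1) {k s : G}
    (hk : k ∈ normalizer (U : Set G)) (hk3 : k ^ 3 = 1) (hkf : ∀ u ∈ U, k * u = u * k → u = 1)
    (hs : s ∈ normalizer (U : Set G)) {n : ℕ} (hs2 : s ^ 2 ^ n = 1) (hsU : s ∉ centralizer (U : Set G)) :
    s * k * s⁻¹ * k ∈ centralizer (U : Set G) := by
  classical
  have hcom : ∀ x ∈ U, ∀ y ∈ U, x * y = y * x := fun x hx y hy => comm_of_sq h2 hx hy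
  have hNs : ∀ x ∈ U, s * x * s⁻¹ ∈ U := fun x hx => forall_of_mem_normalizer hs _ hx
  have hNk : ∀ x ∈ U, k * x * k⁻¹ ∈ U := fun x hx => forall_of_mem_normalizer hk _ hx
  -- a nontrivial fixed point of `s`
  obtain ⟨u, hu, hu1, hsu⟩ : ∃ u ∈ U, u ≠ 1 ∧ s * u * s⁻¹ = u := by
    by_contra hcon
    push Not at hcon
    -- `s` permutes the three involutions without fixed points, so `s ^ 3` fixes them all
    have key : ∀ v ∈ U, v ≠ 1 → s ^ 3 * v * (s ^ 3)⁻¹ = v := by
      intro v hv hv1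
      have h3 := hcon v hv hv1
      have hv' := hNs v hv
      have hv'1 : s * v * s⁻¹ ≠ 1 := by
        intro h; apply hv1
        calc v = s⁻¹ * (s * v * s⁻¹) * s := by group
          _ = 1 := by rw [h]; group
      have h4 := hcon _ hv' hv'1
      have hv'' := hNs _ hv'
      -- `s²v` is not `1`, `s v`; if it is `v` ...
      rcases four_cases hU h2 hv hv' hv1 hv'1 (fun h => h3 h.symm) hv'' with h | h | h | h
      · exfalso; apply hv'1
        calc s * v * s⁻¹ = s⁻¹ * (s * (s * v * s⁻¹) * s⁻¹) * s := by group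
          _ = 1 := by rw [h]; group
      · -- then `v * s v` is fixed
        exfalso
        have h5 : s * (v * (s * v * s⁻¹)) * s⁻¹ = v * (s * v * s⁻¹) := by
          calc s * (v * (s * v * s⁻¹)) * s⁻¹ = (s * v * s⁻¹) * (s * (s * v * s⁻¹) * s⁻¹) := by group
            _ = (s * v * s⁻¹) * v := by rw [h]
            _ = v * (s * v * s⁻¹) := hcom _ hv' _ hv
        refine hcon _ (mul_mem hv hv') ?_ h5
        intro h6
        apply h3
        have h7 : (s * v * s⁻¹) = v⁻¹ := (eq_inv_of_mul_eq_one_right h6)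
        rw [h7]
        exact inv_eq_of_mul_eq_one_left (h2 v hv)
      · exact absurd h h4
      · -- `s² v = v * s v`, `s³ v = s v * s² v = v`
        calc s ^ 3 * v * (s ^ 3)⁻¹ = s * (s * (s * v * s⁻¹) * s⁻¹) * s⁻¹ := by
              rw [pow_succ, pow_two]; group
          _ = s * (v * (s * v * s⁻¹)) * s⁻¹ := by rw [h]
          _ = (s * v * s⁻¹) * (s * (s * v * s⁻¹) * s⁻¹) := by group
          _ = (s * v * s⁻¹) * (v * (s * v * s⁻¹)) := by rw [h]
          _ = v * ((s * v * s⁻¹) * (s * v * s⁻¹)) := by rw [← mul_assoc, hcom _ hv' _ hv, mul_assoc]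
          _ = v := by rw [h2 _ hv', mul_one]
    -- `s` is a power of `s³`
    apply hsU
    have hcop : Nat.Coprime 3 (orderOf s) := by
      have h3 : orderOf s ∣ 2 ^ n := orderOf_dvd_of_pow_eq_one hs2
      have h4 : Nat.Coprime 3 (2 ^ n) := Nat.Coprime.pow_right n (by decide)
      exact Nat.Coprime.coprime_dvd_right h3 h4
    obtain ⟨j, hj⟩ := exists_pow_eq_self_of_coprime hcop
    have h3 : s ^ 3 ∈ centralizer (U : Set G) := by
      rw [mem_centralizer_iff]
      intro x hx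
      by_cases hx1 : x = 1
      · rw [hx1, one_mul, mul_one]
      · have h4 := key x hx hx1
        calc x * s ^ 3 = (s ^ 3 * x * (s ^ 3)⁻¹) * s ^ 3 := by rw [h4]
          _ = s ^ 3 * x := by group
    rw [← hj]
    exact pow_mem h3 j
  -- `v = k u`
  set v := k * u * k⁻¹ with hv
  have hvU : v ∈ U := hNk u hu
  have hv1 : v ≠ 1 := by
    intro h; apply hu1
    calc u = k⁻¹ * (k * u * k⁻¹) * k := by group
      _ = 1 := by rw [← hv, h]; group
  have huv : u ≠ v := by
    intro h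
    apply hu1
    apply hkf u hu
    calc k * u = (k * u * k⁻¹) * k := by group
      _ = u * k := by rw [← hv, ← h]
  -- `k v = u * v`
  have hkfix : ∀ x ∈ U, k * x * k⁻¹ = x → x = 1 := by
    intro x hx h
    apply hkf x hx
    calc k * x = (k * x * k⁻¹) * k := by group
      _ = x * k := by rw [h]
  have hkv : k * v * k⁻¹ = u * v := by
    rcases four_cases hU h2 hu hvU hu1 hv1 huv (hNk v hvU) with h | h | h | h
    · exfalso; apply hv1
      calc v = k⁻¹ * (k * v * k⁻¹) * k := by group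
        _ = 1 := by rw [h]; group
    · -- `k² u = u`, so `k u = u`
      exfalso
      have h3 : k ^ 3 * u * (k ^ 3)⁻¹ = v := by
        calc k ^ 3 * u * (k ^ 3)⁻¹ = k * (k * (k * u * k⁻¹) * k⁻¹) * k⁻¹ := by rw [pow_succ, pow_two]; group
          _ = v := by rw [← hv, h, ← hv]
      rw [hk3] at h3
      apply huv
      rw [← h3]
      group
    · exact absurd (hkfix v hvU h) hv1
    · exact h
  have hkuv : k * (u * v) * k⁻¹ = u := by
    calc k * (u * v) * k⁻¹ = (k * u * k⁻¹) * (k * v * k⁻¹) := by group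
      _ = v * (u * v) := by rw [← hv, hkv]
      _ = u * (v * v) := by rw [← mul_assoc, hcom v hvU u hu, mul_assoc]
      _ = u := by rw [h2 v hvU, mul_one]
  -- `s v = u * v`
  have hsv : s * v * s⁻¹ = u * v := by
    rcases four_cases hU h2 hu hvU hu1 hv1 huv (hNs v hvU) with h | h | h | h
    · exfalso; apply hv1
      calc v = s⁻¹ * (s * v * s⁻¹) * s := by group
        _ = 1 := by rw [h]; group
    · exfalso; apply huv
      have : s * v * s⁻¹ = s * u * s⁻¹ := by rw [h, hsu]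
      exact (mul_left_cancel (mul_right_cancel this)).symm
    · exfalso
      apply hsU
      rw [mem_centralizer_iff]
      intro x hx
      have hcu : u * s = s * u := by
        calc u * s = (s * u * s⁻¹) * s := by rw [hsu]
          _ = s * u := by group
      have hcv : v * s = s * v := by
        calc v * s = (s * v * s⁻¹) * s := by rw [h]
          _ = s * v := by group
      rcases four_cases hU h2 hu hvU hu1 hv1 huv hx with h | h | h | h
      · rw [h, one_mul, mul_one]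
      · rw [h, hcu]
      · rw [h, hcv]
      · rw [h, mul_assoc, hcv, ← mul_assoc, hcu, mul_assoc]
    · exact h
  have hsuv : s * (u * v) * s⁻¹ = v := by
    calc s * (u * v) * s⁻¹ = (s * u * s⁻¹) * (s * v * s⁻¹) := by group
      _ = u * (u * v) := by rw [hsu, hsv]
      _ = v := by rw [← mul_assoc, h2 u hu, one_mul]
  have hsi : s⁻¹ * v * s = u * v := by
    calc s⁻¹ * v * s = s⁻¹ * (s * (u * v) * s⁻¹) * s := by rw [hsuv]
      _ = u * v := by group
  have hsi' : s⁻¹ * (u * v) * s = v := by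
    calc s⁻¹ * (u * v) * s = s⁻¹ * (s * v * s⁻¹) * s := by rw [hsv]
      _ = v := by group
  have hsui : s⁻¹ * u * s = u := by
    calc s⁻¹ * u * s = s⁻¹ * (s * u * s⁻¹) * s := by rw [hsu]
      _ = u := by group
  -- the product fixes `u` and `v`
  set c := s * k * s⁻¹ * k with hc
  have hcu : c * u * c⁻¹ = u := by
    calc c * u * c⁻¹ = s * (k * (s⁻¹ * (k * u * k⁻¹) * s) * k⁻¹) * s⁻¹ := by rw [hc]; group
      _ = u := by rw [← hv, hsi, hkuv, hsu]
  have hcv : c * v * c⁻¹ = v := by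
    calc c * v * c⁻¹ = s * (k * (s⁻¹ * (k * v * k⁻¹) * s) * k⁻¹) * s⁻¹ := by rw [hc]; group
      _ = v := by rw [hkv, hsi', hkv, hsuv]
  rw [mem_centralizer_iff]
  intro x hx
  have hcu' : u * c = c * u := by
    calc u * c = (c * u * c⁻¹) * c := by rw [hcu]
      _ = c * u := by group
  have hcv' : v * c = c * v := by
    calc v * c = (c * v * c⁻¹) * c := by rw [hcv]
      _ = c * v := by group
  rcases four_cases hU h2 hu hvU hu1 hv1 huv hx with h | h | h | h
  · rw [h, one_mul, mul_one]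
  · rw [h, hcu']
  · rw [h, hcv']
  · rw [h, mul_assoc, hcv', ← mul_assoc, hcu', mul_assoc]

variable [Finite G]

/-- the data of the 2-local `C(u)` -/
structure Lc (U V : Subgroup G) (u : G) (T : Subgroup G) : Prop where
  syl : IsSyl2 (centralizer ({u} : Set G)) T
  TM : T ≤ normalizer (V : Set G) ⊓ normalizer (U : Set G)
  char2 : ∀ x ∈ centralizer ({u} : Set G), x ∈ centralizer (o2 (centralizer ({u} : Set G)) : Set G) →
    x ∈ o2 (centralizer ({u} : Set G))
  red : ∀ Y ≤ centralizer ({u} : Set G), centralizer ({u} : Set G) ≤ normalizer (Y : Set G) → (∀ y ∈ Y, y * y = 1) →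
    ¬ Y ≤ zpowers u → ∃ R ≤ centralizer ({u} : Set G), centralizer ({u} : Set G) ≤ normalizer (R : Set G) ∧
      (∀ r ∈ R, ∃ c ∈ centralizer (Y : Set G), ∃ s ∈ T, r = c * s) ∧ ¬ R ≤ centralizer (Y : Set G)

/-- `O₂(X) ≤ T` -/
theorem o2_le_syl {X T : Subgroup G} (hT : IsSyl2 X T) : o2 X ≤ T := by
  have h1 : IsPGroup 2 (T ⊔ o2 X : Subgroup G) :=
    IsPGroup.to_sup_of_normal_right' hT.two (ZN.Block.o2_isPGroup X) (hT.le.trans (ZN.Block.le_normalizer_o2 X))
  have h2 := hT.max (T ⊔ o2 X) (sup_le hT.le (ZN.Block.o2_le X)) h1 le_sup_left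
  rw [← h2]
  exact le_sup_right

/-- **(iii)** -/
theorem exists_sigma {U V T : Subgroup G} (hU : Nat.card U = 4) (h2 : ∀ x ∈ U, x * x = 1) {u : G} (hu : u ∈ U)
    (hu1 : u ≠ 1) (l : Lc U V u T) :
    ∃ σ ∈ normalizer (V : Set G) ⊓ normalizer (U : Set G), (∃ n, σ ^ 2 ^ n = 1) ∧
      (∀ c ∈ centralizer ({u} : Set G), σ ∈ normalizer (cj c U : Set G)) ∧ σ ∉ centralizer (U : Set G) := by
  classical
  have hp : Fact (Nat.Prime 2) := ⟨Nat.prime_two⟩
  by_contra hcon
  push Not at hcon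
  set X := centralizer ({u} : Set G) with hX
  have hTX : T ≤ X := l.syl.le
  have hpow : ∀ x ∈ T, ∃ n, x ^ 2 ^ n = 1 := fun x hx => by
    obtain ⟨n, hn⟩ := l.syl.two ⟨x, hx⟩
    exact ⟨n, congrArg Subtype.val hn⟩
  -- 2-elements of the kernel centralise all members
  have hD : ∀ d ∈ X, (∀ c ∈ X, d ∈ normalizer (cj c U : Set G)) → (∃ n, d ^ 2 ^ n = 1) → ∀ c ∈ X,
      d ∈ centralizer (cj c U : Set G) := by
    intro d hd hdn hd2 c hc
    set d' := c⁻¹ * d * c with hd'
    have hd'X : d' ∈ X := mul_mem (mul_mem (inv_mem hc) hd) hc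
    have hnorm : ∀ e ∈ X, (∀ c ∈ X, e⁻¹ * d' * e ∈ normalizer (cj c U : Set G)) := by
      intro e he c' hc'
      have h3 := hdn (c * e * c') (mul_mem (mul_mem hc he) hc')
      rw [← cj_eq_iff] at h3 ⊢
      have h4 : e⁻¹ * d' * e = (c * e)⁻¹ * (d * (c * e)) := by rw [hd']; group
      rw [h4, cj_mul, cj_mul, ← cj_mul (c * e) c', h3, cj_mul, cj_inv_cj]
    have hd'2 : ∃ n, d' ^ 2 ^ n = 1 := by
      obtain ⟨n, hn⟩ := hd2
      refine ⟨n, ?_⟩
      have h3 : d' = c⁻¹ * d * c⁻¹⁻¹ := by rw [inv_inv]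
      rw [h3, conj_pow, hn]
      group
    have hd'U : d' ∈ normalizer (U : Set G) := by
      have := hnorm 1 (one_mem _) 1 (one_mem _)
      rw [cj_one] at this
      simpa using this
    -- conjugate into `T`
    have hsT : IsSyl2 (X ⊓ normalizer (U : Set G)) T :=
      ⟨le_inf hTX (l.TM.trans inf_le_right), l.syl.two, fun Y hY hY2 hle => l.syl.max Y (hY.trans inf_le_left) hY2 hle⟩
    have hzp : IsPGroup 2 (zpowers d') := by
      obtain ⟨n, hn⟩ := hd'2
      rw [IsPGroup.iff_card]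
      have h3 : orderOf d' ∣ 2 ^ n := orderOf_dvd_of_pow_eq_one hn
      obtain ⟨m, -, hm⟩ := (Nat.dvd_prime_pow Nat.prime_two).mp h3
      exact ⟨m, by rw [Nat.card_zpowers, hm]⟩
    obtain ⟨S', hS', hle⟩ : ∃ S' : Subgroup G, IsSyl2 (X ⊓ normalizer (U : Set G)) S' ∧ zpowers d' ≤ S' := by
      have hle : zpowers d' ≤ X ⊓ normalizer (U : Set G) := by
        rw [zpowers_le]; exact ⟨hd'X, hd'U⟩
      have hne : {Y : Subgroup G | Y ≤ X ⊓ normalizer (U : Set G) ∧ IsPGroup 2 Y ∧ zpowers d' ≤ Y}.Nonempty :=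
        ⟨zpowers d', hle, hzp, le_rfl⟩
      obtain ⟨Y, hY⟩ := Set.Finite.exists_maximal (Set.toFinite _) hne
      refine ⟨Y, ⟨hY.1.1, hY.1.2.1, fun Z hZ hZ2 hYZ => ?_⟩, hY.1.2.2⟩
      exact le_antisymm (hY.2 ⟨hZ, hZ2, hY.1.2.2.trans hYZ⟩ hYZ) hYZ
    obtain ⟨e, he, h3⟩ := isSyl2_conj hS' hsT
    have h4 : e * d' * e⁻¹ ∈ T := by
      rw [h3]
      exact conj_mem_cj (hle (mem_zpowers d'))
    have h5 := hcon (e * d' * e⁻¹) (l.TM h4) (hpow _ h4) (by
      have h6 := hnorm e⁻¹ (inv_mem he.1)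
      rwa [inv_inv] at h6)
    have h6 : d' ∈ centralizer (U : Set G) := by
      have h7 : cj e⁻¹ (centralizer (U : Set G)) = centralizer (U : Set G) := by
        rw [cj_centralizer, cj_eq_iff.mpr (inv_mem he.2)]
      rw [← h7, mem_cj, inv_inv]
      exact h5
    have h7 := conj_mem_cj (g := c) h6
    rw [cj_centralizer] at h7
    have h8 : c * d' * c⁻¹ = d := by rw [hd']; group
    rwa [h8] at h7
  -- `O₂(X)` is in the kernel
  have hoT : o2 X ≤ T := o2_le_syl l.syl
  have hcU : ∀ x ∈ X, ∀ S : Subgroup G, (∀ c ∈ X, c⁻¹ * x * c ∈ S) → S ≤ normalizer (U : Set G) →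
      ∀ c ∈ X, x ∈ normalizer (cj c U : Set G) := by
    intro x _ S hS hSU c hc
    rw [← cj_normalizer, mem_cj]
    exact hSU (hS c hc)
  have ho : ∀ x ∈ o2 X, ∀ c ∈ X, x ∈ centralizer (cj c U : Set G) := by
    intro x hx
    have hxT := hoT hx
    refine hD x (hTX hxT) (hcU x (hTX hxT) (o2 X) ?_ (hoT.trans (l.TM.trans inf_le_right))) (hpow x hxT)
    intro c hc
    have := ZN.Block.o2_conj (inv_mem hc) hx
    rwa [inv_inv] at this
  have hcu : ∀ c ∈ X, u ∈ cj c U := by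
    intro c hc
    rw [mem_cj]
    have h3 : c * u = u * c := mem_centralizer_singleton_iff.mp hc
    have h4 : c⁻¹ * u * c = u := by rw [mul_assoc, ← h3, inv_mul_cancel_left]
    rw [h4]
    exact hu
  have hcsq : ∀ c : G, ∀ x ∈ cj c U, x * x = 1 := by
    rintro c _ ⟨v, hv, rfl⟩
    show (c * v * c⁻¹) * (c * v * c⁻¹) = 1
    calc (c * v * c⁻¹) * (c * v * c⁻¹) = c * (v * v) * c⁻¹ := by group
      _ = 1 := by rw [h2 v hv]; group
  have hUo : ∀ c ∈ X, cj c U ≤ o2 X := by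
    intro c hc x hx
    refine l.char2 x ?_ ?_
    · rw [mem_centralizer_singleton_iff]
      exact comm_of_sq (hcsq c) hx (hcu c hc)
    · rw [mem_centralizer_iff]
      intro y hy
      exact (mem_centralizer_iff.mp (ho y hy c hc) x hx).symm
  -- `Y'`
  set Y := Wc X U with hY
  have hYo : Y ≤ o2 X := Wc_le hUo
  have hcm : Cm Y Y := cm_Wc fun c hc => (cm_Wc fun c' hc' => fun x hx y hy => by
    have h3 := ho y (hUo c hc hy) c' hc'
    exact mem_centralizer_iff.mp h3 x hx).symm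
  have hYsq : ∀ y ∈ Y, y * y = 1 := by
    intro w hw
    induction hw using Subgroup.closure_induction with
    | mem x hx =>
      obtain ⟨g, hg, hx⟩ := hx
      exact hcsq g x hx
    | one => rw [mul_one]
    | mul x y hx' hy' hx hy =>
      calc x * y * (x * y) = x * (y * x) * y := by group
        _ = x * (x * y) * y := by rw [hcm y hy' x hx']
        _ = (x * x) * (y * y) := by group
        _ = 1 := by rw [hx, hy, mul_one]
    | inv x _ hx => rw [← mul_inv_rev, hx, inv_one]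
  have hUY : U ≤ Y := le_Wc X U
  obtain ⟨R, hRX, hXR, hR, hRn⟩ := l.red Y (hYo.trans (ZN.Block.o2_le X)) (norm_Wc X U) hYsq (by
    intro h3
    obtain ⟨v, hv, hv1, hvu⟩ := exists_ne hU u
    obtain ⟨j, hj⟩ := mem_zpowers_iff.mp (h3 (hUY hv))
    have huu : ∀ i : ℤ, u ^ (2 * i) = 1 := fun i => by
      rw [zpow_mul, zpow_two, h2 u hu, one_zpow]
    rcases Int.even_or_odd' j with ⟨i, hi | hi⟩
    · apply hv1
      rw [← hj, hi, huu]
    · apply hvu
      rw [← hj, hi, zpow_add, huu, one_mul, zpow_one])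
  apply hRn
  have hcY : ∀ c ∈ centralizer (Y : Set G), ∀ c' ∈ X, c ∈ normalizer (cj c' U : Set G) := by
    intro c hc c' hc'
    exact centralizer_le_normalizer _ (centralizer_le (cj_le_Wc hc') hc)
  have hRU : R ≤ normalizer (U : Set G) := by
    intro r hr
    obtain ⟨c, hc, s, hs, rfl⟩ := hR r hr
    refine mul_mem ?_ ((l.TM hs).2)
    exact centralizer_le_normalizer _ (centralizer_le hUY hc)
  intro r hr
  have hrn : ∀ c' ∈ X, r ∈ normalizer (cj c' U : Set G) := hcU r (hRX hr) R (by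
    intro c hc
    have := forall_of_mem_normalizer (hXR (inv_mem hc)) _ hr
    rwa [inv_inv] at this) hRU
  obtain ⟨c, hc, s, hs, rfl⟩ := hR r hr
  have hsn : ∀ c' ∈ X, s ∈ normalizer (cj c' U : Set G) := by
    intro c' hc'
    have h3 := mul_mem (inv_mem (hcY c hc c' hc')) (hrn c' hc')
    rwa [inv_mul_cancel_left] at h3
  have hsc := hD s (hTX hs) hsn (hpow s hs)
  have hsY : s ∈ centralizer (Y : Set G) := by
    have h3 : Cm Y (zpowers s) := cm_Wc fun c' hc' => by
      rw [cm_iff]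
      intro x hx
      rw [mem_centralizer_iff]
      intro y hy
      obtain ⟨j, rfl⟩ := mem_zpowers_iff.mp hy
      have h4 : s ^ j ∈ centralizer (cj c' U : Set G) := zpow_mem (hsc c' hc') j
      exact (mem_centralizer_iff.mp h4 x hx).symm
    rw [mem_centralizer_iff]
    intro y hy
    exact h3 y hy s (mem_zpowers s)
  exact mul_mem hc hsY

end Cfsg.Agent.OddCyclic.Eq.PartIFour
end

-- part: OddCyclic/Emp3/Noo
section
prune_inst 0x10203104150000000018001260001c42a2000000000b80011180070206869c0120002620f8000f00190080640038002814082019001000000000020041190080802052421340a10427000980f804080c00000000000000000000000000041000000000000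
set_option linter.all false
open scoped Cfsg.Agent.FastGrp

-- part: OddCyclic/Emp3/Out
section
/-!
# (Empty), (III): the outcome of FFC: best offenders are exact, except for `L₃(2)`

* `out_le`: `|A| ≤ |V : C_V(A)|` for a best offender `A` with outcome `OutS3`, `OutLin`, `OutFive`;
* `exists_bo`, `exists_bo_lt`: best offenders inside offenders, over-offenders.
-/

set_option autoImplicit false
set_option linter.unusedSectionVars false

namespace Cfsg.Agent.OddCyclic.Emp3.Out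

open Subgroup Equiv
open Cfsg.Agent.OddCyclic.T1Module Cfsg.Agent.OddCyclic.FFBasic Cfsg.Agent.OddCyclic.FFRed
  Cfsg.Agent.OddCyclic.FFSl2 Cfsg.Agent.OddCyclic.RedFFDefs Cfsg.Agent.OddCyclic.FFOuterPerm

local notation "P5" => Equiv.Perm (Fin 5)

theorem swap_comm_cases : ∀ a b i j : Fin 5, a ≠ b → i ≠ j → swap a b * swap i j = swap i j * swap a b →
    swap a b = swap i j ∨ (a ≠ i ∧ a ≠ j ∧ b ≠ i ∧ b ≠ j) := by (set_option synthInstance.maxSize 2000 in open scoped Cfsg.Agent.Lib.PermDec in decide +kernel)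

theorem no_six : ∀ a b i j k l : Fin 5, a ≠ b → i ≠ j → k ≠ l → (a ≠ i ∧ a ≠ j ∧ b ≠ i ∧ b ≠ j) →
    (a ≠ k ∧ a ≠ l ∧ b ≠ k ∧ b ≠ l) → (i ≠ k ∧ i ≠ l ∧ j ≠ k ∧ j ≠ l) → False := by (set_option synthInstance.maxSize 100000 in exact Cfsg.Agent.Lib.Refl.of (by decide +kernel))

section five

variable {V : Type*} [CommGroup V] [Finite V] {ρ : P5 →* MulAut V}

theorem two_le_index {C D : Subgroup V} (h : C ≤ D) (hne : C ≠ D) (hV : D.index = 2) : 4 ≤ C.index := by
  have h1 := relIndex_mul_index h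
  have h2 : C.relIndex D ≠ 1 := fun h0 => hne (le_antisymm h (relIndex_eq_one.1 h0))
  have h3 : C.relIndex D ≠ 0 := fun h0 => by
    rw [h0, zero_mul] at h1
    exact index_ne_zero_of_finite h1.symm
  rw [← h1, hV]
  omega

theorem fx_swap_ne (hV : ∀ v : V, v * v = 1) (hinj : ∀ g : P5, g ≠ 1 → ∃ v, ρ g v ≠ v)
    (h2 : ∀ i j : Fin 5, i ≠ j → (fx ρ (swap i j)).index = 2) {i j k l : Fin 5} (hij : i ≠ j) (hkl : k ≠ l)
    (hd : i ≠ k ∧ i ≠ l ∧ j ≠ k ∧ j ≠ l) : fx ρ (swap i j) ≠ fx ρ (swap k l) := by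
  intro he
  have h1 := index_top_of_eq hij hkl hd.1 hd.2.1 hd.2.2.1 hd.2.2.2 he
  have h3 : (CS ρ ⊤).index = 2 := by rw [h1]; exact h2 0 1 (by decide)
  obtain ⟨y, hy⟩ : ∃ y : P5, orderOf y = 3 := by
    refine ⟨swap 0 1 * swap 1 2, orderOf_eq_prime ?_ ?_⟩ <;> decide
  have hy1 : y ≠ 1 := fun h0 => by rw [h0, orderOf_one] at hy; omega
  obtain ⟨d, hd0, hdi, hd3⟩ := prim hV Nat.prime_three (by norm_num) hy (hinj y hy1)
  have h4 : (fx ρ y).index ∣ 2 := by
    rw [← h3]
    exact index_dvd_of_le (CS_le_fx (mem_top y))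
  rw [hdi] at h4
  have h5 : 2 ^ d = 2 ^ 1 := by
    rcases (Nat.dvd_prime Nat.prime_two).1 h4 with h5 | h5
    · exfalso
      have : 1 < 2 ^ d := Nat.one_lt_two_pow hd0.ne'
      omega
    · rw [h5, pow_one]
  rw [h5] at hd3
  omega

/-- the subgroup `{1, s, t, s t}` -/
def four {G : Type*} [Group G] (s t : G) (hs : s * s = 1) (ht : t * t = 1) (hst : s * t = t * s) : Subgroup G where
  carrier := {x | x = 1 ∨ x = s ∨ x = t ∨ x = s * t}
  one_mem' := Or.inl rfl
  mul_mem' := by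
    have e1 : s * (s * t) = t := by rw [← mul_assoc, hs, one_mul]
    have e2 : t * (s * t) = s := by rw [hst, ← mul_assoc, ht, one_mul]
    have e3 : s * t * s = t := by rw [hst, mul_assoc, hs, mul_one]
    have e4 : s * t * t = s := by rw [mul_assoc, ht, mul_one]
    have e5 : s * t * (s * t) = 1 := by rw [mul_assoc, e2, hs]
    rintro x y (rfl | rfl | rfl | rfl) (rfl | rfl | rfl | rfl)
    · exact Or.inl (mul_one _)
    · exact Or.inr (Or.inl (one_mul _))
    · exact Or.inr (Or.inr (Or.inl (one_mul _)))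
    · exact Or.inr (Or.inr (Or.inr (one_mul _)))
    · exact Or.inr (Or.inl (mul_one _))
    · exact Or.inl hs
    · exact Or.inr (Or.inr (Or.inr rfl))
    · exact Or.inr (Or.inr (Or.inl e1))
    · exact Or.inr (Or.inr (Or.inl (mul_one _)))
    · exact Or.inr (Or.inr (Or.inr hst.symm))
    · exact Or.inl ht
    · exact Or.inr (Or.inl e2)
    · exact Or.inr (Or.inr (Or.inr (mul_one _)))
    · exact Or.inr (Or.inr (Or.inl e3))
    · exact Or.inr (Or.inl e4)
    · exact Or.inl e5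
  inv_mem' := by
    have e1 : s⁻¹ = s := inv_eq_of_mul_eq_one_left hs
    have e2 : t⁻¹ = t := inv_eq_of_mul_eq_one_left ht
    rintro x (rfl | rfl | rfl | rfl)
    · exact Or.inl inv_one
    · exact Or.inr (Or.inl e1)
    · exact Or.inr (Or.inr (Or.inl e2))
    · exact Or.inr (Or.inr (Or.inr (by rw [mul_inv_rev, e1, e2, hst])))

theorem card_four_le {G : Type*} [Group G] (s t : G) (hs : s * s = 1) (ht : t * t = 1) (hst : s * t = t * s) :
    Nat.card (four s t hs ht hst) ≤ 4 := by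
  classical
  have h1 : ((four s t hs ht hst : Subgroup G) : Set G) = ↑({1, s, t, s * t} : Finset G) := by
    ext x
    simp only [Finset.coe_insert, Finset.coe_singleton, Set.mem_insert_iff, Set.mem_singleton_iff]
    rfl
  have h2 : Nat.card (four s t hs ht hst) = Set.ncard ((four s t hs ht hst : Subgroup G) : Set G) := rfl
  rw [h2, h1, Set.ncard_coe_finset]
  exact Finset.card_le_four

theorem four_fin {G : Type*} [Group G] (s t : G) (hs : s * s = 1) (ht : t * t = 1) (hst : s * t = t * s) :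
    Finite (four s t hs ht hst) := by
  classical
  have h1 : ((four s t hs ht hst : Subgroup G) : Set G) = ↑({1, s, t, s * t} : Finset G) := by
    ext x
    simp only [Finset.coe_insert, Finset.coe_singleton, Set.mem_insert_iff, Set.mem_singleton_iff]
    rfl
  have h2 : ((four s t hs ht hst : Subgroup G) : Set G).Finite := by
    rw [h1]; exact Finset.finite_toSet _
  exact h2

theorem five_card (hV : ∀ v : V, v * v = 1) (hinj : ∀ g : P5, g ≠ 1 → ∃ v, ρ g v ≠ v)
    (h2 : ∀ i j : Fin 5, i ≠ j → (fx ρ (swap i j)).index = 2) {A : Subgroup P5} (hsq : ∀ a ∈ A, a * a = 1)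
    (hA : A ≤ closure {t : P5 | t ∈ A ∧ ∃ i j : Fin 5, i ≠ j ∧ t = swap i j}) : Nat.card A ≤ (CS ρ A).index := by
  by_cases h : ∃ i j : Fin 5, i ≠ j ∧ swap i j ∈ A
  · obtain ⟨i, j, hij, ht⟩ := h
    by_cases h' : ∃ k l : Fin 5, k ≠ l ∧ swap k l ∈ A ∧ swap i j ≠ swap k l
    · obtain ⟨k, l, hkl, hs, hne⟩ := h'
      have hc : swap i j * swap k l = swap k l * swap i j := comm_of_sq hsq ht hs
      rcases swap_comm_cases i j k l hij hkl hc with h1 | h1
      · exact absurd h1 hne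
      · have hle : A ≤ four (swap i j) (swap k l) (hsq _ ht) (hsq _ hs) hc := by
          refine hA.trans ?_
          rw [closure_le]
          rintro t ⟨htA, a, b, hab, rfl⟩
          rcases swap_comm_cases a b i j hab hij (comm_of_sq hsq htA ht) with h3 | h3
          · exact Or.inr (Or.inl h3)
          · rcases swap_comm_cases a b k l hab hkl (comm_of_sq hsq htA hs) with h4 | h4
            · exact Or.inr (Or.inr (Or.inl h4))
            · exact (no_six a b i j k l hab hij hkl h3 h4 h1).elim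
        have hfin := four_fin (swap i j) (swap k l) (hsq _ ht) (hsq _ hs) hc
        have h3 : Nat.card A ≤ 4 := (Nat.card_mono (Set.toFinite _) hle).trans (card_four_le _ _ _ _ _)
        refine h3.trans ?_
        have h4 : CS ρ A ≤ fx ρ (swap i j) ⊓ fx ρ (swap k l) := le_inf (CS_le_fx ht) (CS_le_fx hs)
        have h5 : 4 ≤ (fx ρ (swap i j) ⊓ fx ρ (swap k l)).index := by
          refine two_le_index inf_le_left ?_ (h2 i j hij)
          intro h6
          have h7 : fx ρ (swap i j) ≤ fx ρ (swap k l) := inf_eq_left.1 h6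
          refine fx_swap_ne hV hinj h2 hij hkl h1 (eq_of_le_of_card_ge h7 ?_)
          have h8 := (fx ρ (swap i j)).card_mul_index
          have h9 := (fx ρ (swap k l)).card_mul_index
          rw [h2 i j hij] at h8
          rw [h2 k l hkl] at h9
          omega
        exact h5.trans (index_le_of_le h4)
    · push Not at h'
      have hle : A ≤ zpowers (swap i j) := by
        refine hA.trans ?_
        rw [closure_le]
        rintro t ⟨htA, a, b, hab, rfl⟩
        rw [← h' a b hab htA]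
        exact mem_zpowers _
      have h3 : Nat.card (zpowers (swap i j)) = 2 := by
        rw [Nat.card_zpowers]
        refine orderOf_eq_prime ?_ ?_
        · rw [sq]; exact hsq _ ht
        · intro h0
          exact hij (swap_eq_one_iff.1 h0)
      have h4 : Nat.card A ≤ 2 := by
        rw [← h3]
        exact Nat.card_mono (Set.toFinite _) hle
      refine h4.trans ?_
      rw [← h2 i j hij]
      exact index_le_of_le (CS_le_fx ht)
  · push Not at h
    have hle : A ≤ ⊥ := by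
      refine hA.trans ?_
      rw [closure_le]
      rintro t ⟨htA, a, b, hab, rfl⟩
      exact absurd htA (h a b hab)
    rw [le_bot_iff.1 hle, card_bot]
    exact Nat.one_le_iff_ne_zero.2 index_ne_zero_of_finite

end five

section out

variable {H : Type*} [Group H] [Finite H] {V : Type*} [CommGroup V] [Finite V] {ρ : H →* MulAut V}

theorem five_le (hV : ∀ v : V, v * v = 1) (hρ : Function.Injective ρ) {A : Subgroup H} (hsq : ∀ a ∈ A, a * a = 1)
    (h : OutFive ρ A) : Nat.card A ≤ (CS ρ A).index := by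
  obtain ⟨K, hAK, e, -, h2, hA⟩ := h
  obtain ⟨σ, hσ⟩ : ∃ σ : P5 →* MulAut V, σ = ρ.comp (K.subtype.comp e.symm.toMonoidHom) := ⟨_, rfl⟩
  have hσa : ∀ g : P5, σ g = ρ (e.symm g : H) := fun g => by rw [hσ]; rfl
  have hfx : ∀ g : P5, fx σ g = fx ρ (e.symm g : H) := by
    intro g
    ext v
    rw [mem_fx, mem_fx, hσa]
  obtain ⟨B, hB⟩ : ∃ B : Subgroup P5, B = (A.subgroupOf K).map e.toMonoidHom := ⟨_, rfl⟩
  have hmem : ∀ g : P5, g ∈ B ↔ (e.symm g : H) ∈ A := by
    intro g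
    rw [hB, mem_map]
    constructor
    · rintro ⟨x, hx, rfl⟩
      have e1 : e.symm (e.toMonoidHom x) = x := e.symm_apply_apply x
      rw [e1]; exact hx
    · intro hg
      exact ⟨e.symm g, mem_subgroupOf.2 hg, e.apply_symm_apply g⟩
  have hcard : Nat.card B = Nat.card A := by
    rw [hB, card_map_of_injective e.injective]
    exact Nat.card_congr (Subgroup.subgroupOfEquivOfLe hAK).toEquiv
  have hCS : CS σ B = CS ρ A := by
    ext v
    rw [mem_CS, mem_CS]
    constructor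
    · intro h1 a ha
      have h3 := h1 (e ⟨a, hAK ha⟩) ((hmem _).2 (by rw [e.symm_apply_apply]; exact ha))
      rw [hσa, e.symm_apply_apply] at h3
      exact h3
    · intro h1 g hg
      rw [hσa]
      exact h1 _ ((hmem g).1 hg)
  rw [← hcard, ← hCS]
  refine five_card hV ?_ ?_ ?_ ?_
  · intro g hg
    by_contra hcon
    push Not at hcon
    apply hg
    have h3 : ρ (e.symm g : H) = 1 := by
      ext v
      rw [← hσa, hcon v]; rfl
    have h4 : (e.symm g : H) = 1 := hρ (by rw [h3, map_one])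
    have h5 : e.symm g = 1 := Subtype.ext h4
    have h6 := congrArg e h5
    rwa [e.apply_symm_apply, map_one] at h6
  · intro i j hij
    rw [hfx]; exact h2 i j hij
  · intro b hb
    have h3 := hsq _ ((hmem b).1 hb)
    have h4 : e.symm (b * b) = 1 := by
      apply Subtype.ext
      rw [map_mul]; exact h3
    have h5 := congrArg e h4
    rwa [e.apply_symm_apply, map_one] at h5
  · intro b hb
    have h3 : ∀ x ∈ closure {t : H | t ∈ A ∧ ∃ i j : Fin 5, i ≠ j ∧ t = (e.symm (Equiv.swap i j) : H)},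
        ∃ hx : x ∈ K, e ⟨x, hx⟩ ∈ closure {t : P5 | t ∈ B ∧ ∃ i j : Fin 5, i ≠ j ∧ t = swap i j} := by
      intro x hx
      induction hx using closure_induction with
      | mem t ht =>
        obtain ⟨htA, i, j, hij, rfl⟩ := ht
        refine ⟨(e.symm (swap i j)).2, subset_closure ⟨?_, i, j, hij, ?_⟩⟩
        · rw [hmem]
          have e1 : e ⟨(e.symm (swap i j) : H), (e.symm (swap i j)).2⟩ = swap i j := e.apply_symm_apply _
          rw [e1]; exact htA
        · exact e.apply_symm_apply _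
      | one => exact ⟨one_mem _, by
          have e1 : e ⟨(1 : H), one_mem K⟩ = 1 := map_one e
          rw [e1]; exact one_mem _⟩
      | mul x y _ _ hx hy =>
        obtain ⟨hx, hx'⟩ := hx
        obtain ⟨hy, hy'⟩ := hy
        refine ⟨mul_mem hx hy, ?_⟩
        have e1 : e ⟨x * y, mul_mem hx hy⟩ = e ⟨x, hx⟩ * e ⟨y, hy⟩ := map_mul e ⟨x, hx⟩ ⟨y, hy⟩
        rw [e1]; exact mul_mem hx' hy'
      | inv x _ hx =>
        obtain ⟨hx, hx'⟩ := hx
        refine ⟨inv_mem hx, ?_⟩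
        have e1 : e ⟨x⁻¹, inv_mem hx⟩ = (e ⟨x, hx⟩)⁻¹ := map_inv e ⟨x, hx⟩
        rw [e1]; exact inv_mem hx'
    obtain ⟨_, h4⟩ := h3 _ (hA ((hmem b).1 hb))
    have e1 : e ⟨(e.symm b : H), (e.symm b).2⟩ = b := e.apply_symm_apply _
    rwa [e1] at h4

/-- best offenders are exact, except for `L₃(2)` -/
theorem out_le (hV : ∀ v : V, v * v = 1) (hρ : Function.Injective ρ) {A : Subgroup H} (hA : BO ρ A)
    (h : Out ρ A) : Nat.card A ≤ (CS ρ A).index ∨ OutSeven A := by
  rcases h with h | h | h | h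
  · obtain ⟨y, -, -, h2, -, hi, -⟩ := h
    exact Or.inl (by rw [h2, hi])
  · obtain ⟨L, -, -, F, _, _, -, -, -, h1, -, h2, -⟩ := h
    exact Or.inl (by rw [h1, h2])
  · exact Or.inl (five_le hV hρ hA.sq h)
  · exact Or.inr h

theorem exists_bo {F : Subgroup H} (hsq : ∀ a ∈ F, a * a = 1) (hne : F ≠ ⊥)
    (hoff : (CS ρ F).index ≤ Nat.card F) : ∃ A ≤ F, A ≠ ⊥ ∧ BO ρ A := by
  classical
  obtain ⟨A, hA, hmax⟩ := (Set.toFinite {B : Subgroup H | B ≤ F}).exists_maximalFor
    (fun B : Subgroup H => Nat.card B * Nat.card (CS ρ B)) _ ⟨F, le_refl F⟩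
  have hmax' : ∀ B ≤ F, Nat.card B * Nat.card (CS ρ B) ≤ Nat.card A * Nat.card (CS ρ A) := by
    intro B hB
    by_contra hcon
    push Not at hcon
    have h1 : Nat.card B * Nat.card (CS ρ B) ≤ Nat.card A * Nat.card (CS ρ A) := hmax hB hcon.le
    omega
  by_cases hA1 : A = ⊥
  · refine ⟨F, le_refl F, hne, hsq, fun B hB => (hmax' B hB).trans ?_⟩
    rw [hA1, CS_bot, Subgroup.card_bot, one_mul, Subgroup.card_top, ← (CS ρ F).card_mul_index, mul_comm]
    exact Nat.mul_le_mul_right _ hoff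
  · exact ⟨A, hA, hA1, fun a ha => hsq a (hA ha), fun B hB => hmax' B (hB.trans hA)⟩

theorem exists_bo_lt {F : Subgroup H} (hsq : ∀ a ∈ F, a * a = 1)
    (hoff : (CS ρ F).index < Nat.card F) : ∃ A ≤ F, A ≠ ⊥ ∧ BO ρ A ∧ (CS ρ A).index < Nat.card A := by
  classical
  obtain ⟨A, hA, hmax⟩ := (Set.toFinite {B : Subgroup H | B ≤ F}).exists_maximalFor
    (fun B : Subgroup H => Nat.card B * Nat.card (CS ρ B)) _ ⟨F, le_refl F⟩
  have hmax' : ∀ B ≤ F, Nat.card B * Nat.card (CS ρ B) ≤ Nat.card A * Nat.card (CS ρ A) := by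
    intro B hB
    by_contra hcon
    push Not at hcon
    have h1 : Nat.card B * Nat.card (CS ρ B) ≤ Nat.card A * Nat.card (CS ρ A) := hmax hB hcon.le
    omega
  have h1 := hmax' F le_rfl
  have h2 := (CS ρ F).card_mul_index
  have h3 := (CS ρ A).card_mul_index
  have h4 : 0 < Nat.card (CS ρ F) := Nat.card_pos
  have h5 : 0 < Nat.card (CS ρ A) := Nat.card_pos
  have h6 : Nat.card V < Nat.card A * Nat.card (CS ρ A) := by
    refine lt_of_lt_of_le ?_ h1
    rw [← h2, mul_comm]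
    exact Nat.mul_lt_mul_of_pos_right hoff h4
  have h7 : (CS ρ A).index < Nat.card A := by
    rw [← h3, mul_comm] at h6
    exact Nat.lt_of_mul_lt_mul_right h6
  refine ⟨A, hA, ?_, ⟨fun a ha => hsq a (hA ha), fun B hB => hmax' B (hB.trans hA)⟩, h7⟩
  rintro rfl
  rw [card_bot] at h7
  have h8 : (CS ρ (⊥ : Subgroup H)).index ≠ 0 := index_ne_zero_of_finite
  omega

end out

end Cfsg.Agent.OddCyclic.Emp3.Out
end

-- part: OddCyclic/Emp3/Noo
section
/-!
# (Empty), (III), section 3: (NOO) and (NOO')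

`X = N A` finite, `N` normal, every normal subgroup of `N` a 2-group or `N`, `N` not a 2-group, `A` of exponent 2;
`ρ : X →* MulAut U`, `U` elementary abelian, `O₂(N)` trivial on `U`, `N` not trivial on `U` (`Nd ρ N A`).
`cq N = {x | [x, N] ≤ O₂(N)}`. Let (FFC) hold for all factor groups of `X`.

* `noo` : `|A : A ∩ cq N| ≤ |U : C_U(A)|` or `|N : O₂(N)| = 168`;
* `noo'` : `|U : C_U(A)| ≤ |A : A ∩ cq N|`, `A ≰ cq N` ⟹ `N / O₂(N)` is of order 3, `SL₂(F)` (`|F| ≥ 4` even), or simple of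
  order 168 (`NCases N`);
* `two_le` : `2 ≤ |U : C_U(A)|` if `A ≰ cq N`.
-/

set_option autoImplicit false
set_option linter.unusedSectionVars false

namespace Cfsg.Agent.OddCyclic.Emp3.Noo

open Subgroup
open Cfsg.Agent.ZN (o2)
open Cfsg.Agent.ZN.Block (o2_isPGroup le_o2 o2_le)
open Cfsg.Agent.OddCyclic.T1Module Cfsg.Agent.OddCyclic.FFBasic Cfsg.Agent.OddCyclic.FFRed
  Cfsg.Agent.OddCyclic.FFSl2 Cfsg.Agent.OddCyclic.RedFFDefs Cfsg.Agent.OddCyclic.Emp3.Out

universe u

section basic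

variable {X : Type u} [Group X]

/-- `{x | [x, N] ≤ O₂(N)}` -/
def cq (N : Subgroup X) : Subgroup X where
  carrier := {x | x ∈ normalizer (o2 N : Set X) ∧ ∀ n ∈ N, x * n * x⁻¹ * n⁻¹ ∈ o2 N}
  one_mem' := ⟨one_mem _, fun n _ => by
    have e : (1 : X) * n * 1⁻¹ * n⁻¹ = 1 := by group
    rw [e]; exact one_mem _⟩
  mul_mem' := by
    rintro x y ⟨hx, hx'⟩ ⟨hy, hy'⟩
    refine ⟨mul_mem hx hy, fun n hn => ?_⟩
    have h1 := (mem_normalizer_iff.1 hx _).1 (hy' n hn)
    have e : x * y * n * (x * y)⁻¹ * n⁻¹ = x * (y * n * y⁻¹ * n⁻¹) * x⁻¹ * (x * n * x⁻¹ * n⁻¹) := by group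
    rw [e]
    exact mul_mem h1 (hx' n hn)
  inv_mem' := by
    rintro x ⟨hx, hx'⟩
    refine ⟨inv_mem hx, fun n hn => ?_⟩
    have h1 := (mem_normalizer_iff.1 (inv_mem hx) _).1 (inv_mem (hx' n hn))
    have e : x⁻¹ * n * x⁻¹⁻¹ * n⁻¹ = x⁻¹ * (x * n * x⁻¹ * n⁻¹)⁻¹ * x⁻¹⁻¹ := by group
    rw [e]
    exact h1

theorem mem_cq {N : Subgroup X} {x : X} :
    x ∈ cq N ↔ x ∈ normalizer (o2 N : Set X) ∧ ∀ n ∈ N, x * n * x⁻¹ * n⁻¹ ∈ o2 N := Iff.rfl

theorem normalizer_le_o2 (N : Subgroup X) : normalizer (N : Set X) ≤ normalizer (o2 N : Set X) := by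
  have key : ∀ g ∈ normalizer (N : Set X), ∀ x ∈ o2 N, g * x * g⁻¹ ∈ o2 N := by
    intro g hg x hx
    have h1 : ∀ y ∈ (o2 N).map (MulAut.conj g).toMonoidHom, y ∈ o2 N := by
      have h2 : (o2 N).map (MulAut.conj g).toMonoidHom ≤ o2 N := by
        refine le_o2 ((o2_isPGroup N).map _) ?_ ?_
        · rintro _ ⟨y, hy, rfl⟩
          exact (mem_normalizer_iff.1 hg y).1 (o2_le N hy)
        · refine ZN.Block.le_normalizer_of_forall ?_
          rintro n hn _ ⟨y, hy, rfl⟩
          have h3 : g⁻¹ * n * g ∈ N := by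
            have := (mem_normalizer_iff.1 (inv_mem hg) n).1 hn
            rwa [inv_inv] at this
          refine ⟨(g⁻¹ * n * g) * y * (g⁻¹ * n * g)⁻¹, ZN.Block.o2_conj h3 hy, ?_⟩
          show g * ((g⁻¹ * n * g) * y * (g⁻¹ * n * g)⁻¹) * g⁻¹ = n * (g * y * g⁻¹) * n⁻¹
          group
      exact fun y hy => h2 hy
    exact h1 _ ⟨x, hx, rfl⟩
  exact ZN.Block.le_normalizer_of_forall key

theorem mem_cq_of {N : Subgroup X} {x : X} (hx : x ∈ normalizer (N : Set X))
    (h : ∀ n ∈ N, x * n * x⁻¹ * n⁻¹ ∈ o2 N) : x ∈ cq N := ⟨normalizer_le_o2 N hx, h⟩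

/-- the cases of (NOO') -/
def NCases (N : Subgroup X) : Prop :=
  (o2 N).relIndex N = 3 ∨
    (∃ (F : Type) (_ : Field F) (_ : Fintype F), CharP F 2 ∧ 4 ≤ Fintype.card F ∧
      Nonempty ((N ⧸ pCore 2 N) ≃* Matrix.SpecialLinearGroup (Fin 2) F)) ∨
    (o2 N).relIndex N = 60 ∧ Nonempty ((N ⧸ pCore 2 N) ≃* alternatingGroup (Fin 5)) ∨
    (o2 N).relIndex N = 168 ∧ IsSimpleGroup (N ⧸ pCore 2 N)

end basic

/-- The setting of (NOO). -/
structure Nd {X : Type u} [Group X] {U : Type u} [CommGroup U] (ρ : X →* MulAut U) (N A : Subgroup X) : Prop where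
  sqU : ∀ v : U, v * v = 1
  norm : N.Normal
  sup : N ⊔ A = ⊤
  sq : ∀ a ∈ A, a * a = 1
  min : ∀ K ≤ N, N ≤ normalizer (K : Set X) → IsPGroup 2 K ∨ K = N
  n2 : ¬ IsPGroup 2 N
  triv : ∀ n ∈ o2 N, ∀ v, ρ n v = v
  ne : ∃ n ∈ N, ∃ v, ρ n v ≠ v

section main

variable {X : Type u} [Group X] [Finite X] {U : Type u} [CommGroup U] [Finite U] {ρ : X →* MulAut U}
  {N A : Subgroup X}

/-- a finite group which is not a 2-group has an element of odd prime order -/
theorem exists_odd {K : Subgroup X} (h : ¬ IsPGroup 2 K) : ∃ p : ℕ, p.Prime ∧ p ≠ 2 ∧ ∃ x ∈ K, orderOf x = p := by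
  by_contra hcon
  push Not at hcon
  apply h
  have h1 : ∀ p : ℕ, p.Prime → p ∣ Nat.card K → p = 2 := by
    intro p hp hd
    by_contra hp2
    have : Fact p.Prime := ⟨hp⟩
    obtain ⟨x, hx⟩ := exists_prime_orderOf_dvd_card' (G := K) p hd
    exact hcon p hp hp2 x x.2 (by rw [← hx, orderOf_coe])
  have h2 : Nat.card K ≠ 0 := Nat.card_pos.ne'
  have h3 := Nat.eq_prime_pow_of_unique_prime_dvd h2 (fun {d} hd hdk => h1 d hd hdk)
  exact IsPGroup.of_card h3

theorem pow_mem_of_sup [N.Normal] (hs : N ⊔ A = ⊤) (hA : ∀ a ∈ A, a * a = 1) (x : X) : x * x ∈ N := by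
  have hx : x ∈ N ⊔ A := by rw [hs]; exact Subgroup.mem_top x
  obtain ⟨n, hn, a, ha, rfl⟩ := mem_sup_of_normal_left.1 hx
  have e : n * a * (n * a) = n * (a * n * a⁻¹) * (a * a) := by group
  rw [e, hA a ha, mul_one]
  exact mul_mem hn (‹N.Normal›.conj_mem n hn a)

namespace Nd

variable (h : Nd ρ N A)

include h

theorem odd_ne {K : Subgroup X} (hK : IsPGroup 2 K) {x : X} {p : ℕ} (hp : p.Prime) (hp2 : p ≠ 2)
    (hx : orderOf x = p) : x ∉ K := by
  intro hxK
  obtain ⟨k, hk⟩ := hK ⟨x, hxK⟩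
  have h1 : x ^ 2 ^ k = 1 := congrArg Subtype.val hk
  have h2 : p ∣ 2 ^ k := hx ▸ orderOf_dvd_of_pow_eq_one h1
  exact hp2 ((Nat.prime_dvd_prime_iff_eq hp Nat.prime_two).1 (hp.dvd_of_dvd_pow h2))

/-- a normal subgroup of `X` not containing `N` meets `N` in a subgroup of `O₂(N)` -/
theorem inf_le {K : Subgroup X} (hK : K.Normal) (hN : ¬ N ≤ K) : K ⊓ N ≤ o2 N := by
  have h1 : N ≤ normalizer ((K ⊓ N : Subgroup X) : Set X) := by
    refine ZN.Block.le_normalizer_of_forall ?_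
    rintro n hn m ⟨hm, hm'⟩
    exact ⟨hK.conj_mem m hm n, N.mul_mem (N.mul_mem hn hm') (N.inv_mem hn)⟩
  rcases h.min _ inf_le_right h1 with h2 | h2
  · exact le_o2 h2 inf_le_right h1
  · exact absurd (inf_eq_right.1 h2) hN

theorem ker_inf_le : ρ.ker ⊓ N ≤ o2 N := by
  refine h.inf_le inferInstance ?_
  intro h1
  obtain ⟨n, hn, v, hv⟩ := h.ne
  apply hv
  have h2 := h1 hn
  rw [MonoidHom.mem_ker] at h2
  rw [h2]; rfl

theorem o2_le_ker : o2 N ≤ ρ.ker := by
  intro n hn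
  rw [MonoidHom.mem_ker]
  ext v
  exact h.triv n hn v

/-- the preimage of `O₂(X / C_X(U))` -/
def dd (ρ : X →* MulAut U) : Subgroup X := (pCore 2 (X ⧸ ρ.ker)).comap (QuotientGroup.mk' ρ.ker)

omit h in
theorem dd_normal : (dd ρ).Normal := by
  have h1 : (pCore 2 (X ⧸ ρ.ker)).Normal := Lib.Cores.pCore_normal 2
  exact h1.comap _

omit h in
theorem ker_le_dd : ρ.ker ≤ dd ρ := by
  intro x hx
  show QuotientGroup.mk' ρ.ker x ∈ pCore 2 (X ⧸ ρ.ker)
  have h1 : QuotientGroup.mk' ρ.ker x = 1 := (QuotientGroup.eq_one_iff x).2 hx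
  rw [h1]
  exact one_mem _

omit h in
theorem exists_pow_of_mem {x : X} (hx : x ∈ dd ρ) : ∃ k : ℕ, x ^ 2 ^ k ∈ ρ.ker := by
  obtain ⟨k, hk⟩ := Lib.Cores.pCore_isPGroup (G := X ⧸ ρ.ker) 2 ⟨_, hx⟩
  refine ⟨k, ?_⟩
  have h1 : (QuotientGroup.mk' ρ.ker x) ^ 2 ^ k = 1 := congrArg Subtype.val hk
  rw [← map_pow] at h1
  exact (QuotientGroup.eq_one_iff _).1 h1

omit h in
/-- a normal subgroup which is a 2-group modulo the kernel lies in `dd` -/
theorem le_dd {K : Subgroup X} (hK : K.Normal) (h2 : ∀ x ∈ K, ∃ k : ℕ, x ^ 2 ^ k ∈ ρ.ker) : K ≤ dd ρ := by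
  have h1 : (K.map (QuotientGroup.mk' ρ.ker)).Normal := hK.map _ (QuotientGroup.mk'_surjective _)
  have h3 : IsPGroup 2 (K.map (QuotientGroup.mk' ρ.ker)) := by
    rintro ⟨_, x, hx, rfl⟩
    obtain ⟨k, hk⟩ := h2 x hx
    refine ⟨k, Subtype.ext ?_⟩
    show (QuotientGroup.mk' ρ.ker x) ^ 2 ^ k = 1
    rw [← map_pow]
    exact (QuotientGroup.eq_one_iff _).2 hk
  intro x hx
  exact Lib.Cores.le_pCore h1 h3 ⟨x, hx, rfl⟩

theorem not_le_dd : ¬ N ≤ dd ρ := by
  intro h1
  apply h.n2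
  -- `N` is a 2-group modulo `ker ⊓ N ≤ O₂(N)`
  rintro ⟨n, hn⟩
  obtain ⟨k, hk⟩ := exists_pow_of_mem (h1 hn)
  obtain ⟨l, hl⟩ := o2_isPGroup N ⟨n ^ 2 ^ k, h.ker_inf_le ⟨hk, pow_mem hn _⟩⟩
  refine ⟨k + l, Subtype.ext ?_⟩
  have h2 : (n ^ 2 ^ k) ^ 2 ^ l = 1 := congrArg Subtype.val hl
  show n ^ 2 ^ (k + l) = 1
  rw [pow_add, pow_mul]
  exact h2

theorem dd_inf_le : dd ρ ⊓ N ≤ o2 N := h.inf_le dd_normal h.not_le_dd

theorem dd_inf_eq : dd ρ ⊓ N = o2 N :=
  le_antisymm h.dd_inf_le (le_inf (h.o2_le_ker.trans ker_le_dd) (o2_le N))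

theorem comm_mem {n d : X} (hn : n ∈ N) (hd : d ∈ dd ρ) : d * n * d⁻¹ * n⁻¹ ∈ o2 N := by
  refine h.dd_inf_le ⟨?_, ?_⟩
  · have e : d * n * d⁻¹ * n⁻¹ = d * (n * d⁻¹ * n⁻¹) := by group
    rw [e]
    exact mul_mem hd ((dd_normal (ρ := ρ)).conj_mem _ (inv_mem hd) n)
  · exact N.mul_mem (h.norm.conj_mem n hn d) (N.inv_mem hn)

theorem dd_le_cq : dd ρ ≤ cq N := by
  intro d hd
  have hn := h.norm
  refine mem_cq_of ?_ fun n hn => h.comm_mem hn hd
  rw [normalizer_eq_top]
  exact mem_top d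

/-- (P × Q): `N` acts nontrivially on `C_U(D)` -/
theorem exists_ne : ∃ n ∈ N, ∃ v ∈ CS ρ (dd ρ), ρ n v ≠ v := by
  obtain ⟨p, hp, hp2, x, hx, hxp⟩ := exists_odd h.n2
  have hodd : Odd (orderOf x) := by rw [hxp]; exact hp.odd_of_ne_two hp2
  have h2g : IsPGroup 2 ((dd ρ).map ρ) := by
    rintro ⟨_, d, hd, rfl⟩
    obtain ⟨k, hk⟩ := exists_pow_of_mem hd
    refine ⟨k, Subtype.ext ?_⟩
    show (ρ d) ^ 2 ^ k = 1
    rw [← map_pow]
    exact hk
  have hne : ∃ v, (MonoidHom.id (MulAut U)) (ρ x) v ≠ v := by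
    by_contra hcon
    push Not at hcon
    have h1 : x ∈ ρ.ker := by
      rw [MonoidHom.mem_ker]
      ext v
      exact hcon v
    exact h.odd_ne (o2_isPGroup N) hp hp2 hxp (h.ker_inf_le ⟨h1, hx⟩)
  have hodd' : Odd (orderOf (ρ x)) := by
    have h1 : orderOf (ρ x) ∣ orderOf x := orderOf_map_dvd ρ x
    exact Odd.of_dvd_nat hodd h1
  have hcomm : ∀ a ∈ (dd ρ).map ρ, a * ρ x = ρ x * a := by
    rintro _ ⟨d, hd, rfl⟩
    have h1 := h.o2_le_ker (h.comm_mem hx hd)
    rw [MonoidHom.mem_ker, map_mul, map_mul, map_mul, map_inv, map_inv] at h1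
    rw [mul_inv_eq_one, mul_inv_eq_iff_eq_mul] at h1
    exact h1
  obtain ⟨v, hv, hv1⟩ := axb (ρ := MonoidHom.id (MulAut U)) h.sqU h2g hodd' hcomm hne
  refine ⟨x, hx, v, ?_, hv1⟩
  intro d hd
  exact hv (ρ d) ⟨d, hd, rfl⟩

omit h in
theorem stable (x : X) {v : U} (hv : v ∈ CS ρ (dd ρ)) : ρ x v ∈ CS ρ (dd ρ) := by
  refine CS_stable ?_ hv
  have := dd_normal (ρ := ρ)
  rw [normalizer_eq_top]
  exact mem_top x

/-- the action of `X` on `C_U(D)` -/
def act (ρ : X →* MulAut U) : X →* MulAut (CS ρ (dd ρ)) :=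
  (res ρ ⊤ (CS ρ (dd ρ)) (fun x _ _ hv => stable x hv)).comp (Subgroup.topEquiv (G := X)).symm.toMonoidHom

omit h in
theorem act_apply (x : X) (v : CS ρ (dd ρ)) : ((act ρ x v : CS ρ (dd ρ)) : U) = ρ x v := rfl

theorem act_ker : (act ρ).ker = dd ρ := by
  apply le_antisymm
  · refine le_dd inferInstance ?_
    intro x hx
    have hnN := h.norm
    have h1 : (act ρ).ker ⊓ N ≤ o2 N := by
      refine h.inf_le inferInstance ?_
      intro h2
      obtain ⟨n, hn, v, hv, hne⟩ := h.exists_ne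
      apply hne
      have h3 := h2 hn
      rw [MonoidHom.mem_ker] at h3
      have h4 := congrArg (fun f : MulAut (CS ρ (dd ρ)) => ((f ⟨v, hv⟩ : CS ρ (dd ρ)) : U)) h3
      exact h4
    have h2 : x ^ 2 ∈ (act ρ).ker ⊓ N := ⟨pow_mem hx 2, by rw [pow_two]; exact pow_mem_of_sup h.sup h.sq x⟩
    exact ⟨1, by rw [pow_one]; exact h.o2_le_ker (h1 h2)⟩
  · intro d hd
    rw [MonoidHom.mem_ker]
    ext v
    rw [act_apply]
    exact v.2 d hd

/-- the faithful action of `X / D` on `C_U(D)` -/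
def actQ [(dd ρ).Normal] (hk : (act ρ).ker = dd ρ) : X ⧸ dd ρ →* MulAut (CS ρ (dd ρ)) :=
  QuotientGroup.lift (dd ρ) (act ρ) (fun x hx => MonoidHom.mem_ker.1 (by rw [hk]; exact hx))

omit h in
theorem actQ_mk [(dd ρ).Normal] (hk : (act ρ).ker = dd ρ) (x : X) :
    actQ hk (QuotientGroup.mk' (dd ρ) x) = act ρ x := rfl

omit h in
theorem actQ_inj [(dd ρ).Normal] (hk : (act ρ).ker = dd ρ) : Function.Injective (actQ hk) := by
  rw [injective_iff_map_eq_one]
  intro q hq
  obtain ⟨x, rfl⟩ := QuotientGroup.mk'_surjective (dd ρ) q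
  rw [actQ_mk, ← MonoidHom.mem_ker, hk] at hq
  exact (QuotientGroup.eq_one_iff x).2 hq

omit h in
theorem core_eq_bot [(dd ρ).Normal] (E : Subgroup (X ⧸ dd ρ)) (hE : E.Normal) (h2 : IsPGroup 2 E) : E = ⊥ := by
  rw [eq_bot_iff]
  have h1 : E.comap (QuotientGroup.mk' (dd ρ)) ≤ dd ρ := by
    refine le_dd (hE.comap _) ?_
    intro x hx
    obtain ⟨k, hk⟩ := h2 ⟨_, hx⟩
    have h3 : (QuotientGroup.mk' (dd ρ) x) ^ 2 ^ k = 1 := congrArg Subtype.val hk
    rw [← map_pow] at h3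
    obtain ⟨l, hl⟩ := exists_pow_of_mem ((QuotientGroup.eq_one_iff _).1 h3)
    refine ⟨k + l, ?_⟩
    rw [pow_add, pow_mul]
    exact hl
  intro q hq
  obtain ⟨x, rfl⟩ := QuotientGroup.mk'_surjective (dd ρ) q
  rw [mem_bot]
  exact (QuotientGroup.eq_one_iff x).2 (h1 hq)

/-! ### the image of `N` and of `A` -/

variable [(dd ρ).Normal]

/-- normal subgroups of the image of `N` -/
theorem eq_of_normal {L : Subgroup (X ⧸ dd ρ)} (hL : L.Normal) (hL2 : ¬ IsPGroup 2 L)
    (hLN : L ≤ N.map (QuotientGroup.mk' (dd ρ))) : L = N.map (QuotientGroup.mk' (dd ρ)) := by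
  refine le_antisymm hLN ?_
  have h1 : ¬ (L.comap (QuotientGroup.mk' (dd ρ)) ⊓ N) ≤ dd ρ := by
    intro h2
    apply hL2
    have h3 : L = ⊥ := by
      rw [eq_bot_iff]
      intro q hq
      obtain ⟨n, hn, rfl⟩ := hLN hq
      rw [mem_bot]
      exact (QuotientGroup.eq_one_iff n).2 (h2 ⟨hq, hn⟩)
    rw [h3]; exact IsPGroup.of_bot
  have h2 : N ≤ L.comap (QuotientGroup.mk' (dd ρ)) := by
    by_contra hcon
    have h3 := h.inf_le (hL.comap (QuotientGroup.mk' (dd ρ))) hcon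
    exact h1 (h3.trans (h.o2_le_ker.trans ker_le_dd))
  rintro _ ⟨n, hn, rfl⟩
  exact h2 hn

/-- elements of odd order of `X / D` are in the image of `N` -/
theorem mem_map_of_odd {q : X ⧸ dd ρ} (hq : Odd (orderOf q)) : q ∈ N.map (QuotientGroup.mk' (dd ρ)) := by
  have hn := h.norm
  obtain ⟨x, rfl⟩ := QuotientGroup.mk'_surjective (dd ρ) q
  obtain ⟨k, hk⟩ := hq
  have h1 : (QuotientGroup.mk' (dd ρ) x * QuotientGroup.mk' (dd ρ) x) ^ (k + 1) = QuotientGroup.mk' (dd ρ) x := by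
    rw [← pow_two, ← pow_mul]
    have : 2 * (k + 1) = orderOf (QuotientGroup.mk' (dd ρ) x) + 1 := by omega
    rw [this, pow_succ, pow_orderOf_eq_one, one_mul]
  rw [← h1]
  refine pow_mem ?_ _
  exact ⟨x * x, pow_mem_of_sup h.sup h.sq x, by rw [map_mul]⟩

theorem relIndex_eq : Nat.card (N.map (QuotientGroup.mk' (dd ρ))) = (o2 N).relIndex N := by
  have h1 : Nat.card (N.map (QuotientGroup.mk' (dd ρ))) = (dd ρ).relIndex N := by
    have h2 := Subgroup.relIndex_ker N (QuotientGroup.mk' (dd ρ))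
    rw [QuotientGroup.ker_mk'] at h2
    exact h2.symm
  rw [h1, ← h.dd_inf_eq, inf_relIndex_right]

/-- `N / O₂(N)` is isomorphic to the image of `N` -/
theorem nonempty_equiv : Nonempty ((N ⧸ pCore 2 N) ≃* N.map (QuotientGroup.mk' (dd ρ))) := by
  have hn : (pCore 2 N).Normal := Lib.Cores.pCore_normal 2
  let f : N →* N.map (QuotientGroup.mk' (dd ρ)) :=
    ((QuotientGroup.mk' (dd ρ)).comp N.subtype).codRestrict _ (fun n => ⟨n, n.2, rfl⟩)
  have hf : Function.Surjective f := by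
    rintro ⟨_, n, hn, rfl⟩
    exact ⟨⟨n, hn⟩, rfl⟩
  have hker : f.ker = pCore 2 N := by
    ext n
    rw [MonoidHom.mem_ker]
    have h1 : f n = 1 ↔ (n : X) ∈ dd ρ := by
      rw [Subtype.ext_iff]
      exact QuotientGroup.eq_one_iff (n : X)
    rw [h1]
    constructor
    · intro h2
      have h3 : (n : X) ∈ o2 N := h.dd_inf_le ⟨h2, n.2⟩
      obtain ⟨m, hm, e⟩ := h3
      rwa [← Subtype.ext (show (m : X) = n from e)]
    · intro h2
      exact ker_le_dd (h.o2_le_ker ⟨n, h2, rfl⟩)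
  exact ⟨(QuotientGroup.quotientMulEquivOfEq hker.symm).trans (QuotientGroup.quotientKerEquivOfSurjective f hf)⟩

theorem sq_map : ∀ a ∈ A.map (QuotientGroup.mk' (dd ρ)), a * a = 1 := by
  rintro _ ⟨a, ha, rfl⟩
  rw [← map_mul, h.sq a ha, map_one]

theorem relIndex_le : (A ⊓ cq N).relIndex A ≤ Nat.card (A.map (QuotientGroup.mk' (dd ρ))) := by
  have h1 : Nat.card (A.map (QuotientGroup.mk' (dd ρ))) = (dd ρ).relIndex A := by
    have h2 := Subgroup.relIndex_ker A (QuotientGroup.mk' (dd ρ))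
    rw [QuotientGroup.ker_mk'] at h2
    exact h2.symm
  rw [h1, inf_relIndex_left]
  refine Nat.le_of_dvd (Nat.pos_of_ne_zero ?_) (relIndex_dvd_of_le_left A h.dd_le_cq)
  rw [Subgroup.relIndex]
  exact index_ne_zero_of_finite

omit h in
theorem CS_act (hk : (act ρ).ker = dd ρ) :
    CS (actQ hk) (A.map (QuotientGroup.mk' (dd ρ))) = (CS ρ A).subgroupOf (CS ρ (dd ρ)) := by
  ext v
  rw [mem_CS, mem_subgroupOf, mem_CS]
  constructor
  · intro h1 a ha
    have h2 := h1 _ ⟨a, ha, rfl⟩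
    rw [actQ_mk] at h2
    have h3 := congrArg Subtype.val h2
    rwa [act_apply] at h3
  · rintro h1 _ ⟨a, ha, rfl⟩
    rw [actQ_mk]
    apply Subtype.ext
    rw [act_apply]
    exact h1 a ha

omit h in
theorem index_CS_le (hk : (act ρ).ker = dd ρ) :
    (CS (actQ hk) (A.map (QuotientGroup.mk' (dd ρ)))).index ≤ (CS ρ A).index := by
  rw [CS_act]
  have h1 : (CS ρ A).relIndex (CS ρ (dd ρ)) ≤ (CS ρ A).relIndex ⊤ :=
    relIndex_le_of_le_right le_top (by rw [relIndex_top_right]; exact index_ne_zero_of_finite)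
  rwa [relIndex_top_right] at h1

theorem eq_of_simple {L : Subgroup (X ⧸ dd ρ)} (hL : L.Normal) (hs : IsSimpleGroup L) {x : X ⧸ dd ρ} (hx : x ∈ L)
    (hx1 : x ≠ 1) (hodd : Odd (orderOf x)) : L = N.map (QuotientGroup.mk' (dd ρ)) := by
  have hN : (N.map (QuotientGroup.mk' (dd ρ))).Normal := h.norm.map _ (QuotientGroup.mk'_surjective _)
  have hL2 : ¬ IsPGroup 2 L := by
    intro h2
    obtain ⟨k, hk⟩ := h2 ⟨x, hx⟩
    have h3 : x ^ 2 ^ k = 1 := congrArg Subtype.val hk
    have h4 : orderOf x ∣ 2 ^ k := orderOf_dvd_of_pow_eq_one h3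
    have h5 : Nat.Coprime (orderOf x) (2 ^ k) := Nat.Coprime.pow_right _ (Nat.coprime_two_right.2 hodd)
    exact hx1 (orderOf_eq_one_iff.1 (Nat.eq_one_of_dvd_coprimes h5 dvd_rfl h4))
  refine h.eq_of_normal hL hL2 ?_
  have h1 : ((N.map (QuotientGroup.mk' (dd ρ))).subgroupOf L).Normal := hN.subgroupOf L
  rcases hs.eq_bot_or_eq_top_of_normal _ h1 with h2 | h2
  · exfalso
    have h3 : (⟨x, hx⟩ : L) ∈ (N.map (QuotientGroup.mk' (dd ρ))).subgroupOf L :=
      mem_subgroupOf.2 (h.mem_map_of_odd hodd)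
    rw [h2, mem_bot] at h3
    exact hx1 (congrArg Subtype.val h3)
  · exact subgroupOf_eq_top.1 h2

omit h in
theorem exists_three {L : Subgroup (X ⧸ dd ρ)} (h3 : 3 ∣ Nat.card L) : ∃ x ∈ L, orderOf x = 3 := by
  have : Fact (Nat.Prime 3) := ⟨Nat.prime_three⟩
  obtain ⟨x, hx⟩ := exists_prime_orderOf_dvd_card' (G := L) 3 h3
  exact ⟨x, x.2, by rw [← hx, orderOf_coe]⟩

theorem eq_of_simple3 {L : Subgroup (X ⧸ dd ρ)} (hL : L.Normal) (hs : IsSimpleGroup L) (h3 : 3 ∣ Nat.card L) :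
    L = N.map (QuotientGroup.mk' (dd ρ)) := by
  obtain ⟨x, hx, hx3⟩ := exists_three h3
  refine h.eq_of_simple hL hs hx ?_ (by rw [hx3]; decide)
  rintro rfl
  rw [orderOf_one] at hx3
  omega

theorem isSimple_of {L : Subgroup (X ⧸ dd ρ)} (hs : IsSimpleGroup L)
    (hL : L = N.map (QuotientGroup.mk' (dd ρ))) : IsSimpleGroup (N ⧸ pCore 2 N) := by
  obtain ⟨e⟩ := h.nonempty_equiv
  subst hL
  exact e.isSimpleGroup

end Nd

omit [Finite X] in
theorem isSimple_sl {F : Type} [Field F] [Fintype F] [CharP F 2] (h4 : 4 ≤ Fintype.card F) :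
    IsSimpleGroup (Matrix.SpecialLinearGroup (Fin 2) F) := by
  have hs : IsSimpleGroup (Matrix.ProjectiveSpecialLinearGroup (Fin 2) F) :=
    TwoFusion.SLTwoFacts.isSimpleGroup_psl (by omega)
  obtain ⟨g⟩ := WeakTI.PslTwo.nonempty_equiv (F := F)
  exact g.isSimpleGroup

omit [Finite X] in
theorem three_dvd_sl {F : Type} [Field F] [Fintype F] [CharP F 2] :
    3 ∣ Nat.card (Matrix.SpecialLinearGroup (Fin 2) F) := by
  rw [Cfsg.Agent.ClassicalGeometry.PSL2Basic.card_SL2]
  obtain ⟨n, hn⟩ : ∃ n : ℕ, Fintype.card F = 2 ^ n := by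
    obtain ⟨n, -, hn⟩ := FiniteField.card F 2
    exact ⟨n, hn⟩
  rw [hn]
  refine Dvd.dvd.mul_left ?_ _
  have h1 : (2 ^ n) ^ 2 = 4 ^ n := by rw [← pow_mul, mul_comm, pow_mul]; norm_num
  rw [h1]
  have h2 := Nat.sub_dvd_pow_sub_pow 4 1 n
  rw [one_pow] at h2
  exact h2

/-- **(NOO)** -/
theorem noo (h : Nd ρ N A) (hF : ∀ (D : Subgroup X) [D.Normal], FFC (X ⧸ D)) :
    (A ⊓ cq N).relIndex A ≤ (CS ρ A).index ∨ ((o2 N).relIndex N = 168 ∧ IsSimpleGroup (N ⧸ pCore 2 N)) := by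
  by_contra hcon
  push Not at hcon
  obtain ⟨hlt, h168⟩ := hcon
  have hD := Nd.dd_normal (ρ := ρ)
  have hk := h.act_ker
  have h1 := h.relIndex_le
  have h2 := Nd.index_CS_le (A := A) hk
  have hV : ∀ v : CS ρ (Nd.dd ρ), v * v = 1 := fun v => Subtype.ext (h.sqU v)
  obtain ⟨B, hB, hB1, hbo, hlt'⟩ := exists_bo_lt (ρ := Nd.actQ hk) h.sq_map (by omega)
  have hout := hF (Nd.dd ρ) _ hV (Nd.actQ hk) (Nd.actQ_inj hk) Nd.core_eq_bot B hbo hB1
  rcases out_le hV (Nd.actQ_inj hk) hbo hout with h3 | h3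
  · omega
  · obtain ⟨L, hL, -, hs, hc⟩ := h3
    have h4 := h.eq_of_simple3 hL hs (by rw [hc]; norm_num)
    refine h168 ?_ (h.isSimple_of hs h4)
    rw [← h.relIndex_eq, ← h4, hc]

/-- **(NOO')** -/
theorem noo' (h : Nd ρ N A) (hF : ∀ (D : Subgroup X) [D.Normal], FFC (X ⧸ D))
    (hle : (CS ρ A).index ≤ (A ⊓ cq N).relIndex A) (hA : ¬ A ≤ cq N) : NCases N := by
  have hD := Nd.dd_normal (ρ := ρ)
  have hk := h.act_ker
  have h1 := h.relIndex_le
  have h2 := Nd.index_CS_le (A := A) hk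
  have hV : ∀ v : CS ρ (Nd.dd ρ), v * v = 1 := fun v => Subtype.ext (h.sqU v)
  have hne : A.map (QuotientGroup.mk' (Nd.dd ρ)) ≠ ⊥ := by
    intro h3
    apply hA
    rw [Subgroup.map_eq_bot_iff, QuotientGroup.ker_mk'] at h3
    exact h3.trans h.dd_le_cq
  obtain ⟨B, hB, hB1, hbo⟩ := exists_bo (ρ := Nd.actQ hk) h.sq_map hne (by omega)
  have hout := hF (Nd.dd ρ) _ hV (Nd.actQ hk) (Nd.actQ_inj hk) Nd.core_eq_bot B hbo hB1
  rcases hout with h3 | h3 | h3 | h3
  · obtain ⟨y, hy, hyn, -⟩ := h3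
    left
    have hyN : y ∈ N.map (QuotientGroup.mk' (Nd.dd ρ)) := h.mem_map_of_odd (by rw [hy]; decide)
    have h4 : zpowers y = N.map (QuotientGroup.mk' (Nd.dd ρ)) := by
      refine h.eq_of_normal hyn ?_ (by rwa [zpowers_le])
      intro h5
      obtain ⟨k, hk5⟩ := h5 ⟨y, mem_zpowers y⟩
      have h6 : y ^ 2 ^ k = 1 := congrArg Subtype.val hk5
      have h7 : 3 ∣ 2 ^ k := hy ▸ orderOf_dvd_of_pow_eq_one h6
      have h8 := Nat.Prime.dvd_of_dvd_pow Nat.prime_three h7
      omega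
    rw [← h.relIndex_eq, ← h4, Nat.card_zpowers, hy]
  · obtain ⟨L, hL, -, F, _, _, hch, h4, ⟨e⟩, -⟩ := h3
    right; left
    have hs : IsSimpleGroup L := by
      have := isSimple_sl h4
      exact e.isSimpleGroup
    have h5 : L = N.map (QuotientGroup.mk' (Nd.dd ρ)) :=
      h.eq_of_simple3 hL hs (by rw [Nat.card_congr e.toEquiv]; exact three_dvd_sl)
    obtain ⟨g⟩ := h.nonempty_equiv
    subst h5
    exact ⟨F, inferInstance, inferInstance, hch, h4, ⟨g.trans e⟩⟩
  · obtain ⟨K, -, e, hL, -⟩ := h3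
    right; right; left
    obtain ⟨L, hLd⟩ : ∃ L, L = (((alternatingGroup (Fin 5)).comap e.toMonoidHom).map K.subtype) := ⟨_, rfl⟩
    rw [← hLd] at hL
    have e1 : ((alternatingGroup (Fin 5)).comap e.toMonoidHom) ≃* L := by
      rw [hLd]
      exact Subgroup.equivMapOfInjective _ K.subtype K.subtype_injective
    have e2 : ((alternatingGroup (Fin 5)).comap e.toMonoidHom) ≃* alternatingGroup (Fin 5) :=
      (e.subgroupMap _).trans (MulEquiv.subgroupCongr (Subgroup.map_comap_eq_self_of_surjective e.surjective _))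
    have e3 : L ≃* alternatingGroup (Fin 5) := e1.symm.trans e2
    have hs5 : IsSimpleGroup (alternatingGroup (Fin 5)) := alternatingGroup.isSimpleGroup (by simp)
    have hs : IsSimpleGroup L := e3.isSimpleGroup
    have hc5 : Nat.card (alternatingGroup (Fin 5)) = 60 := by
      rw [nat_card_alternatingGroup, Nat.card_eq_fintype_card, Fintype.card_fin]
      rfl
    have hc : Nat.card L = 60 := by rw [Nat.card_congr e3.toEquiv, hc5]
    have h5 : L = N.map (QuotientGroup.mk' (Nd.dd ρ)) := h.eq_of_simple3 hL hs (by rw [hc]; norm_num)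
    obtain ⟨g⟩ := h.nonempty_equiv
    refine ⟨by rw [← h.relIndex_eq, ← h5, hc], ?_⟩
    rw [← h5] at g
    exact ⟨g.trans e3⟩
  · obtain ⟨L, hL, -, hs, hc⟩ := h3
    right; right; right
    have h4 := h.eq_of_simple3 hL hs (by rw [hc]; norm_num)
    exact ⟨by rw [← h.relIndex_eq, ← h4, hc], h.isSimple_of hs h4⟩

/-- `A` moves `U` if `A ≰ cq N` -/
theorem two_le (h : Nd ρ N A) (hA : ¬ A ≤ cq N) : 2 ≤ (CS ρ A).index := by
  have h1 : (CS ρ A).index ≠ 1 := by
    intro h1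
    apply hA
    intro a ha
    apply h.dd_le_cq
    apply Nd.ker_le_dd
    rw [MonoidHom.mem_ker]
    ext v
    have h2 : v ∈ CS ρ A := by rw [index_eq_one.1 h1]; exact mem_top v
    exact h2 a ha
  have h2 : (CS ρ A).index ≠ 0 := index_ne_zero_of_finite
  omega

end main

end Cfsg.Agent.OddCyclic.Emp3.Noo
end

private theorem dce_d653ed10fbf7 : _root_.True := by
  try have : _root_.True := by simp only [_root_.Cfsg.Agent.OddCyclic.Emp3.Out.four.congr_simp]
  exact _root_.True.intro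
end

-- part: OddCyclic/Emp3/NooG
section
set_option linter.all false
open scoped Cfsg.Agent.FastGrp

/-!
# (Empty), (III), section 3: (NOO) and (NOO') for sections of a group

`N`, `A`, `W`, `Y` subgroups of a finite group `G`; `N`, `A` normalise `W` and `Y`, `W/Y` is elementary abelian
(`Sit N A W Y`).  `cw W Y A = {w ∈ W | [A, w] ≤ Y}`.

* `Sit.noo` : `|A : A ∩ cq N| ≤ |W : cw W Y A|` or `|N : O₂(N)| = 168`;
* `Sit.noo'` : `|W : cw W Y A| ≤ |A : A ∩ cq N|` and `A ≰ cq N` give `NCases N`.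
-/

set_option autoImplicit false
set_option linter.unusedSectionVars false

namespace Cfsg.Agent.OddCyclic.Emp3.NooG

open Subgroup
open Cfsg.Agent.ZN (o2)
open Cfsg.Agent.ZN.Block (o2_isPGroup le_o2 o2_le)
open Cfsg.Agent.OddCyclic.T1Module Cfsg.Agent.OddCyclic.FFBasic Cfsg.Agent.OddCyclic.RedFFDefs
  Cfsg.Agent.OddCyclic.Emp3.Noo

universe u

variable {G : Type u} [Group G]

/-- `{w ∈ W | [A, w] ≤ Y}` -/
def cw (W Y A : Subgroup G) : Subgroup G where
  carrier := {w | w ∈ W ∧ w ∈ normalizer (Y : Set G) ∧ ∀ a ∈ A, a * w * a⁻¹ * w⁻¹ ∈ Y}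
  one_mem' := ⟨one_mem _, one_mem _, fun a _ => by
    have e : a * (1 : G) * a⁻¹ * 1⁻¹ = 1 := by group
    rw [e]; exact one_mem _⟩
  mul_mem' := by
    rintro v w ⟨hv, hv1, hv2⟩ ⟨hw, hw1, hw2⟩
    refine ⟨mul_mem hv hw, mul_mem hv1 hw1, fun a ha => ?_⟩
    have e : a * (v * w) * a⁻¹ * (v * w)⁻¹ = a * v * a⁻¹ * v⁻¹ * (v * (a * w * a⁻¹ * w⁻¹) * v⁻¹) := by group
    rw [e]
    exact mul_mem (hv2 a ha) ((mem_normalizer_iff.1 hv1 _).1 (hw2 a ha))
  inv_mem' := by
    rintro w ⟨hw, hw1, hw2⟩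
    refine ⟨inv_mem hw, inv_mem hw1, fun a ha => ?_⟩
    have e : a * w⁻¹ * a⁻¹ * w⁻¹⁻¹ = w⁻¹ * (a * w * a⁻¹ * w⁻¹)⁻¹ * w⁻¹⁻¹ := by group
    rw [e]
    exact (mem_normalizer_iff.1 (inv_mem hw1) _).1 (inv_mem (hw2 a ha))

theorem mem_cw {W Y A : Subgroup G} {w : G} :
    w ∈ cw W Y A ↔ w ∈ W ∧ w ∈ normalizer (Y : Set G) ∧ ∀ a ∈ A, a * w * a⁻¹ * w⁻¹ ∈ Y := Iff.rfl

theorem cw_le {W Y A : Subgroup G} : cw W Y A ≤ W := fun _ hw => hw.1

/-- `C_W(A) ≤ cw W Y A` -/
theorem le_cw {W Y A : Subgroup G} (h : W ≤ normalizer (Y : Set G)) : W ⊓ centralizer (A : Set G) ≤ cw W Y A := by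
  rintro w ⟨hw, hc⟩
  refine ⟨hw, h hw, fun a ha => ?_⟩
  have h1 : a * w = w * a := mem_centralizer_iff.1 hc a ha
  have e : a * w * a⁻¹ * w⁻¹ = 1 := by rw [h1]; group
  rw [e]
  exact one_mem _

theorem relIndex_cw_le [Finite G] {W Y A : Subgroup G} (h : W ≤ normalizer (Y : Set G)) :
    (cw W Y A).relIndex W ≤ (W ⊓ centralizer (A : Set G)).relIndex W := by
  refine Nat.le_of_dvd (Nat.pos_of_ne_zero ?_) (relIndex_dvd_of_le_left W (le_cw h))
  rw [Subgroup.relIndex]
  exact index_ne_zero_of_finite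

/-- `K` acts on the elementary abelian section `W / Y` -/
structure SecA (K W Y : Subgroup G) : Prop where
  YW : Y ≤ W
  WY : W ≤ normalizer (Y : Set G)
  sq : ∀ w ∈ W, w * w ∈ Y
  KW : K ≤ normalizer (W : Set G)
  KY : K ≤ normalizer (Y : Set G)

variable {K W Y : Subgroup G}

theorem SecA.normal (s : SecA K W Y) : (Y.subgroupOf W).Normal := normal_subgroupOf_of_le_normalizer s.WY

/-- `W / Y` -/
def UQ (_ : SecA K W Y) : Type u := ↥W ⧸ Y.subgroupOf W

instance (s : SecA K W Y) : Group (UQ s) :=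
  letI := s.normal
  inferInstanceAs (Group (↥W ⧸ Y.subgroupOf W))

/-- the class of an element of `W` -/
def mk (s : SecA K W Y) : W →* UQ s :=
  letI := s.normal
  QuotientGroup.mk' (Y.subgroupOf W)

theorem mk_surj (s : SecA K W Y) : Function.Surjective (mk s) := by
  have := s.normal
  exact QuotientGroup.mk'_surjective (Y.subgroupOf W)

theorem mk_ker (s : SecA K W Y) : (mk s).ker = Y.subgroupOf W := by
  have := s.normal
  exact QuotientGroup.ker_mk' (Y.subgroupOf W)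

theorem mk_eq_one (s : SecA K W Y) {w : W} : mk s w = 1 ↔ (w : G) ∈ Y := by
  rw [← MonoidHom.mem_ker, mk_ker, mem_subgroupOf]

theorem mk_eq (s : SecA K W Y) {v w : W} : mk s v = mk s w ↔ (v : G) * (w : G)⁻¹ ∈ Y := by
  rw [← mul_inv_eq_one, ← map_inv, ← map_mul, mk_eq_one]
  rfl

theorem uq_sq (s : SecA K W Y) (x : UQ s) : x * x = 1 := by
  obtain ⟨w, rfl⟩ := mk_surj s x
  rw [← map_mul, mk_eq_one]
  exact s.sq w w.2

instance (s : SecA K W Y) : CommGroup (UQ s) :=
  { (inferInstance : Group (UQ s)) with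
    mul_comm := by
      intro a b
      have h1 := uq_sq s (a * b)
      have h2 := uq_sq s a
      have h3 := uq_sq s b
      have e1 : a⁻¹ = a := inv_eq_of_mul_eq_one_left h2
      have e2 : b⁻¹ = b := inv_eq_of_mul_eq_one_left h3
      have e3 : (a * b)⁻¹ = a * b := inv_eq_of_mul_eq_one_left h1
      rw [mul_inv_rev, e1, e2] at e3
      exact e3.symm }

instance [Finite G] (s : SecA K W Y) : Finite (UQ s) := inferInstanceAs (Finite (↥W ⧸ Y.subgroupOf W))

theorem conjW (s : SecA K W Y) (k : K) (w : W) : (k : G) * w * (k : G)⁻¹ ∈ W :=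
  (mem_normalizer_iff.1 (s.KW k.2) w).1 w.2

/-- conjugation on `W` -/
def cjW (s : SecA K W Y) (k : K) : W →* W where
  toFun w := ⟨(k : G) * w * (k : G)⁻¹, conjW s k w⟩
  map_one' := by
    apply Subtype.ext
    show (k : G) * 1 * (k : G)⁻¹ = 1
    group
  map_mul' v w := by
    apply Subtype.ext
    show (k : G) * (v * w) * (k : G)⁻¹ = (k : G) * v * (k : G)⁻¹ * ((k : G) * w * (k : G)⁻¹)
    group

theorem cjW_one (s : SecA K W Y) (w : W) : cjW s 1 w = w := by
  apply Subtype.ext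
  show ((1 : K) : G) * w * ((1 : K) : G)⁻¹ = w
  simp

theorem cjW_mul (s : SecA K W Y) (k l : K) (w : W) : cjW s (k * l) w = cjW s k (cjW s l w) := by
  apply Subtype.ext
  show ((k * l : K) : G) * w * ((k * l : K) : G)⁻¹ = (k : G) * ((l : G) * w * (l : G)⁻¹) * (k : G)⁻¹
  push_cast
  group

/-- the action of an element of `K` on `W / Y` -/
noncomputable def actF (s : SecA K W Y) (k : K) : UQ s →* UQ s :=
  (mk s).liftOfSurjective (mk_surj s) ⟨(mk s).comp (cjW s k), by
    intro w hw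
    rw [MonoidHom.mem_ker, mk_eq_one] at hw
    rw [MonoidHom.mem_ker, MonoidHom.comp_apply, mk_eq_one]
    exact (mem_normalizer_iff.1 (s.KY k.2) w).1 hw⟩

theorem actF_mk (s : SecA K W Y) (k : K) (w : W) : actF s k (mk s w) = mk s (cjW s k w) :=
  MonoidHom.liftOfRightInverse_comp_apply _ _ _ _ _

/-- the action of `K` on `W / Y` -/
noncomputable def act (s : SecA K W Y) : K →* MulAut (UQ s) where
  toFun k :=
    { toFun := actF s k
      invFun := actF s k⁻¹
      left_inv := fun x => by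
        obtain ⟨w, rfl⟩ := mk_surj s x
        rw [actF_mk, actF_mk, ← cjW_mul, inv_mul_cancel, cjW_one]
      right_inv := fun x => by
        obtain ⟨w, rfl⟩ := mk_surj s x
        rw [actF_mk, actF_mk, ← cjW_mul, mul_inv_cancel, cjW_one]
      map_mul' := fun x y => map_mul _ x y }
  map_one' := by
    ext x
    obtain ⟨w, rfl⟩ := mk_surj s x
    show actF s 1 (mk s w) = mk s w
    rw [actF_mk, cjW_one]
  map_mul' k l := by
    ext x
    obtain ⟨w, rfl⟩ := mk_surj s x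
    show actF s (k * l) (mk s w) = actF s k (actF s l (mk s w))
    rw [actF_mk, actF_mk, actF_mk, cjW_mul]

theorem act_mk (s : SecA K W Y) (k : K) (w : W) : act s k (mk s w) = mk s (cjW s k w) := actF_mk s k w

theorem act_eq_iff (s : SecA K W Y) (k : K) (w : W) :
    act s k (mk s w) = mk s w ↔ (k : G) * w * (k : G)⁻¹ * (w : G)⁻¹ ∈ Y := by
  rw [act_mk, mk_eq]
  rfl

/-- `C_{W/Y}(A)` is the image of `cw W Y A` -/
theorem index_CS [Finite G] (s : SecA K W Y) {A : Subgroup G} (hA : A ≤ K) :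
    (CS (act s) (A.subgroupOf K)).index = (cw W Y A).relIndex W := by
  have h1 : (CS (act s) (A.subgroupOf K)).comap (mk s) = (cw W Y A).subgroupOf W := by
    ext w
    rw [mem_comap, mem_CS, mem_subgroupOf, mem_cw]
    constructor
    · intro h
      refine ⟨w.2, s.WY w.2, fun a ha => ?_⟩
      exact (act_eq_iff s ⟨a, hA ha⟩ w).1 (h ⟨a, hA ha⟩ (mem_subgroupOf.2 ha))
    · rintro ⟨-, -, h⟩ a ha
      exact (act_eq_iff s a w).2 (h a (mem_subgroupOf.1 ha))
  rw [Subgroup.relIndex, ← h1, index_comap_of_surjective _ (mk_surj s)]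

/-! ### the situation -/

/-- The setting of (NOO) in a group. -/
structure Sit (N A W Y : Subgroup G) : Prop where
  YW : Y ≤ W
  WY : W ≤ normalizer (Y : Set G)
  sqW : ∀ w ∈ W, w * w ∈ Y
  NW : N ≤ normalizer (W : Set G)
  NY : N ≤ normalizer (Y : Set G)
  AW : A ≤ normalizer (W : Set G)
  AY : A ≤ normalizer (Y : Set G)
  AN : A ≤ normalizer (N : Set G)
  sq : ∀ a ∈ A, a * a = 1
  min : ∀ K ≤ N, N ≤ normalizer (K : Set G) → IsPGroup 2 K ∨ K = N
  n2 : ¬ IsPGroup 2 N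
  triv : ∀ n ∈ o2 N, ∀ w ∈ W, n * w * n⁻¹ * w⁻¹ ∈ Y
  ne : ∃ n ∈ N, ∃ w ∈ W, n * w * n⁻¹ * w⁻¹ ∉ Y

/-- `O₂(N)` computed in a subgroup -/
theorem o2_subgroupOf {N K : Subgroup G} (h : N ≤ K) : o2 (N.subgroupOf K) = (o2 N).subgroupOf K := by
  apply le_antisymm
  · intro x hx
    rw [mem_subgroupOf]
    have h1 : (o2 (N.subgroupOf K)).map K.subtype ≤ o2 N := by
      refine le_o2 ((o2_isPGroup _).map _) ?_ ?_
      · rintro _ ⟨y, hy, rfl⟩
        exact mem_subgroupOf.1 (o2_le _ hy)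
      · refine ZN.Block.le_normalizer_of_forall ?_
        rintro n hn _ ⟨y, hy, rfl⟩
        exact ⟨(⟨n, h hn⟩ * y * ⟨n, h hn⟩⁻¹ :), ZN.Block.o2_conj (mem_subgroupOf.2 hn) hy, rfl⟩
    exact h1 ⟨x, hx, rfl⟩
  · refine le_o2 (o2_isPGroup N).comap_subtype ?_ ?_
    · intro x hx
      exact mem_subgroupOf.2 (o2_le N (mem_subgroupOf.1 hx))
    · refine ZN.Block.le_normalizer_of_forall ?_
      intro n hn x hx
      exact mem_subgroupOf.2 (ZN.Block.o2_conj (mem_subgroupOf.1 hn) (mem_subgroupOf.1 hx))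

theorem quot_equiv {N K : Subgroup G} (h : N ≤ K) :
    Nonempty ((N.subgroupOf K ⧸ pCore 2 (N.subgroupOf K)) ≃* (N ⧸ pCore 2 N)) := by
  have h1 : (pCore 2 N).Normal := Lib.Cores.pCore_normal 2
  have h2 : (pCore 2 (N.subgroupOf K)).Normal := Lib.Cores.pCore_normal 2
  exact ⟨QuotientGroup.congr _ _ (Subgroup.subgroupOfEquivOfLe h)
    (Lib.Cores.map_equiv_pCore (Subgroup.subgroupOfEquivOfLe h) 2)⟩

namespace Sit

variable {N A : Subgroup G}

theorem secA (h : Sit N A W Y) : SecA (N ⊔ A) W Y where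
  YW := h.YW
  WY := h.WY
  sq := h.sqW
  KW := sup_le h.NW h.AW
  KY := sup_le h.NY h.AY

theorem normal (h : Sit N A W Y) : (N.subgroupOf (N ⊔ A)).Normal :=
  normal_subgroupOf_of_le_normalizer (sup_le le_normalizer h.AN)

theorem sup_eq : N.subgroupOf (N ⊔ A) ⊔ A.subgroupOf (N ⊔ A) = ⊤ := by
  rw [← Subgroup.subgroupOf_sup le_sup_left le_sup_right, subgroupOf_self]

/-- the abstract situation -/
theorem nd (h : Sit N A W Y) : Nd (act h.secA) (N.subgroupOf (N ⊔ A)) (A.subgroupOf (N ⊔ A)) where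
  sqU := uq_sq h.secA
  norm := h.normal
  sup := sup_eq
  sq := by
    rintro a ha
    exact Subtype.ext (h.sq a (mem_subgroupOf.1 ha))
  min := by
    intro K hK hn
    have h1 : K.map (N ⊔ A).subtype ≤ N := by
      rintro _ ⟨x, hx, rfl⟩
      exact mem_subgroupOf.1 (hK hx)
    have h2 : N ≤ normalizer ((K.map (N ⊔ A).subtype : Subgroup G) : Set G) := by
      refine ZN.Block.le_normalizer_of_forall ?_
      rintro n hn' _ ⟨x, hx, rfl⟩
      refine ⟨⟨n, le_sup_left (a := N) hn'⟩ * x * ⟨n, le_sup_left (a := N) hn'⟩⁻¹, ?_, rfl⟩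
      exact (mem_normalizer_iff.1 (hn (mem_subgroupOf.2 hn')) x).1 hx
    rcases h.min _ h1 h2 with h3 | h3
    · left
      exact h3.of_injective ((N ⊔ A).subtype.subgroupMap K) (by
        intro x y hxy
        have h4 := congrArg Subtype.val hxy
        exact Subtype.ext (Subtype.ext h4))
    · right
      refine le_antisymm hK ?_
      intro x hx
      have h4 : (x : G) ∈ K.map (N ⊔ A).subtype := by rw [h3]; exact mem_subgroupOf.1 hx
      obtain ⟨y, hy, e⟩ := h4
      rwa [← Subtype.ext (show (y : G) = x from e)]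
  n2 := by
    intro h1
    apply h.n2
    exact h1.of_equiv (Subgroup.subgroupOfEquivOfLe le_sup_left)
  triv := by
    intro n hn x
    obtain ⟨w, rfl⟩ := mk_surj h.secA x
    rw [o2_subgroupOf le_sup_left, mem_subgroupOf] at hn
    exact (act_eq_iff h.secA n w).2 (h.triv n hn w w.2)
  ne := by
    obtain ⟨n, hn, w, hw, hne⟩ := h.ne
    refine ⟨⟨n, le_sup_left (a := N) hn⟩, mem_subgroupOf.2 hn, NooG.mk h.secA ⟨w, hw⟩, fun h1 => hne ?_⟩
    exact (act_eq_iff h.secA ⟨n, le_sup_left (a := N) hn⟩ ⟨w, hw⟩).1 h1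

theorem cq_subgroupOf (h : Sit N A W Y) : A.subgroupOf (N ⊔ A) ⊓ cq (N.subgroupOf (N ⊔ A)) =
    (A ⊓ cq N).subgroupOf (N ⊔ A) := by
  ext x
  rw [mem_inf, mem_subgroupOf, mem_subgroupOf, mem_inf, mem_cq, mem_cq, o2_subgroupOf le_sup_left]
  constructor
  · rintro ⟨h1, -, h3⟩
    refine ⟨h1, normalizer_le_o2 N (h.AN h1), fun n hn => ?_⟩
    exact mem_subgroupOf.1 (h3 ⟨n, le_sup_left (a := N) hn⟩ (mem_subgroupOf.2 hn))
  · rintro ⟨h1, h2, h3⟩
    refine ⟨h1, ?_, fun n hn => mem_subgroupOf.2 (h3 n (mem_subgroupOf.1 hn))⟩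
    refine ZN.Block.mem_normalizer_of ?_ ?_
    · intro m hm
      exact mem_subgroupOf.2 ((mem_normalizer_iff.1 h2 m).1 (mem_subgroupOf.1 hm))
    · intro m hm
      have := (mem_normalizer_iff.1 (inv_mem h2) m).1 (mem_subgroupOf.1 hm)
      rw [inv_inv] at this
      exact mem_subgroupOf.2 this

theorem relIndex_cq (h : Sit N A W Y) :
    (A.subgroupOf (N ⊔ A) ⊓ cq (N.subgroupOf (N ⊔ A))).relIndex (A.subgroupOf (N ⊔ A)) =
      (A ⊓ cq N).relIndex A := by
  rw [h.cq_subgroupOf, relIndex_subgroupOf le_sup_right]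

theorem relIndex_o2 : (o2 (N.subgroupOf (N ⊔ A))).relIndex (N.subgroupOf (N ⊔ A)) = (o2 N).relIndex N := by
  rw [o2_subgroupOf le_sup_left, relIndex_subgroupOf le_sup_left]

variable [Finite G]

/-- **(NOO)** -/
theorem noo (h : Sit N A W Y) (hF : ∀ (D : Subgroup ↥(N ⊔ A)) [D.Normal], FFC (↥(N ⊔ A) ⧸ D)) :
    (A ⊓ cq N).relIndex A ≤ (cw W Y A).relIndex W ∨
      ((o2 N).relIndex N = 168 ∧ IsSimpleGroup (N ⧸ pCore 2 N)) := by
  obtain ⟨e⟩ := quot_equiv (N := N) (K := N ⊔ A) le_sup_left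
  rcases Noo.noo h.nd hF with h1 | ⟨h1, h2⟩
  · left
    rwa [h.relIndex_cq, index_CS h.secA le_sup_right] at h1
  · right
    rw [relIndex_o2] at h1
    exact ⟨h1, e.symm.isSimpleGroup⟩

/-- **(NOO')** -/
theorem noo' (h : Sit N A W Y) (hF : ∀ (D : Subgroup ↥(N ⊔ A)) [D.Normal], FFC (↥(N ⊔ A) ⧸ D))
    (hle : (cw W Y A).relIndex W ≤ (A ⊓ cq N).relIndex A) (hA : ¬ A ≤ cq N) : NCases N := by
  obtain ⟨e⟩ := quot_equiv (N := N) (K := N ⊔ A) le_sup_left
  have h1 := Noo.noo' h.nd hF (by rwa [h.relIndex_cq, index_CS h.secA le_sup_right]) (by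
    intro h1
    apply hA
    intro a ha
    have h2 : (⟨a, le_sup_right (a := N) ha⟩ : ↥(N ⊔ A)) ∈
        A.subgroupOf (N ⊔ A) ⊓ cq (N.subgroupOf (N ⊔ A)) := ⟨mem_subgroupOf.2 ha, h1 (mem_subgroupOf.2 ha)⟩
    rw [h.cq_subgroupOf, mem_subgroupOf] at h2
    exact h2.2)
  rcases h1 with h1 | ⟨F, iF, iF', hc, h4, ⟨g⟩⟩ | ⟨h1, ⟨g⟩⟩ | ⟨h1, h2⟩
  · left
    rwa [relIndex_o2] at h1
  · right; left
    exact ⟨F, iF, iF', hc, h4, ⟨e.symm.trans g⟩⟩
  · right; right; left
    rw [relIndex_o2] at h1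
    exact ⟨h1, ⟨e.symm.trans g⟩⟩
  · right; right; right
    rw [relIndex_o2] at h1
    exact ⟨h1, e.symm.isSimpleGroup⟩

theorem two_le (h : Sit N A W Y) (hA : ¬ A ≤ cq N) : 2 ≤ (cw W Y A).relIndex W := by
  have h1 := Noo.two_le h.nd (by
    intro h1
    apply hA
    intro a ha
    have h2 : (⟨a, le_sup_right (a := N) ha⟩ : ↥(N ⊔ A)) ∈
        A.subgroupOf (N ⊔ A) ⊓ cq (N.subgroupOf (N ⊔ A)) := ⟨mem_subgroupOf.2 ha, h1 (mem_subgroupOf.2 ha)⟩
    rw [h.cq_subgroupOf, mem_subgroupOf] at h2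
    exact h2.2)
  rwa [index_CS h.secA le_sup_right] at h1

end Sit

end Cfsg.Agent.OddCyclic.Emp3.NooG
end

-- part: OddCyclic/Emp3/Seven
section
set_option linter.all false
open scoped Cfsg.Agent.FastGrp

/-!
# (Empty), (III), section 4: facts on `L₃(2)` = a simple group of order 168

* `exists_inv_three` : every automorphism of order 2 inverts an element of order 3;
* `card_le_four` : elementary abelian 2-groups of automorphisms have order at most 4;
* `bar` : the action of `N_G(N)` on `N / O₂(N)`; `bar_eq_one`;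
* `exists_three` : `a ∈ N_G(N)`, `a² = 1`, `a ∉ cq N`, `N / O₂(N)` simple of order 168: `a` inverts an `x ∈ N` of order 3;
* `relIndex_le_four` : `|A : A ∩ cq N| ≤ 4`.
-/

set_option autoImplicit false
set_option linter.unusedSectionVars false

namespace Cfsg.Agent.OddCyclic.Emp3.Seven

open Subgroup Matrix
open Cfsg.Agent.ZN (o2)
open Cfsg.Agent.ZN.Block (o2_isPGroup le_o2 o2_le)
open Cfsg.Agent.Lib.SL2Mat Cfsg.Agent.OddCyclic.FFPslMat Cfsg.Agent.OddCyclic.PGLTorus
open Cfsg.Agent.OddCyclic.Emp3.Noo Cfsg.Agent.OddCyclic.Emp3.NooG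

instance fact_seven : Fact (Nat.Prime 7) := ⟨by norm_num⟩

theorem two_ne : (2 : ZMod 7) ≠ 0 := by decide

theorem three_ne : (3 : ZMod 7) ≠ 0 := by decide

section aut

variable {L : Type*} [Group L] [Finite L]

theorem exists_rep (hs : IsSimpleGroup L) (hc : Nat.card L = 168) : Nonempty (Cfsg.Agent.GH.L2Aut.Rep (ZMod 7) L) := by
  obtain ⟨e⟩ := Cfsg.Agent.S0495.result (G := L) hc (F := ZMod 7) (ZMod.card 7)
  exact ⟨Cfsg.Agent.GH.L2Aut.Rep.ofEquiv (F := ZMod 7) two_ne e⟩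

theorem exists_mat (R : Cfsg.Agent.GH.L2Aut.Rep (ZMod 7) L) {α : MulAut L} (h1 : α ≠ 1)
    (h2 : α * α = 1) : ∃ γ : GL (Fin 2) (ZMod 7), γ.1.trace = 0 ∧ R.gl γ = α := by
  obtain ⟨γ, hγ⟩ := R.mem_PGL.1 (mem_PGL_of_prime R (by simp; norm_num) α)
  refine ⟨γ, ?_, hγ.symm⟩
  apply trace_of_sq R
  · rw [← hγ]; exact h1
  · rw [← hγ]; exact h2

/-- every automorphism of order 2 inverts an element of order 3 -/
theorem exists_inv_three (hs : IsSimpleGroup L) (hc : Nat.card L = 168) {α : MulAut L} (h1 : α ≠ 1)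
    (h2 : α * α = 1) : ∃ x : L, orderOf x = 3 ∧ α x = x⁻¹ := by
  have : Fact (Nat.Prime 3) := ⟨Nat.prime_three⟩
  obtain ⟨R⟩ := exists_rep hs hc
  obtain ⟨γ, hγ0, hγ⟩ := exists_mat R h1 h2
  obtain ⟨x, hx, hx'⟩ := inv_exists R.two hγ0 (FFPsl.det_ne γ) 1
  obtain ⟨h3, h4⟩ := order_three_one R three_ne hx
  refine ⟨R.π x, orderOf_eq_prime h3 h4, ?_⟩
  have h5 := gl_inv R hγ0 hx'
  rwa [hγ] at h5

theorem orth (R : Cfsg.Agent.GH.L2Aut.Rep (ZMod 7) L) {γ δ : GL (Fin 2) (ZMod 7)}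
    (h1 : R.gl (γ * δ) ≠ 1) (h2 : R.gl (γ * δ) * R.gl (γ * δ) = 1) : (γ.1 * δ.1).trace = 0 :=
  trace_of_sq R (g := γ * δ) h1 h2

theorem card_le_four (hs : IsSimpleGroup L) (hc : Nat.card L = 168) {A : Subgroup (MulAut L)}
    (hA : ∀ a ∈ A, a * a = 1) : Nat.card A ≤ 4 := by
  obtain ⟨R⟩ := exists_rep hs hc
  by_contra hcon
  push Not at hcon
  obtain ⟨a, ha, ha1, -, -, -⟩ := JInner.exists_notin A hcon 1 1 1 1
  obtain ⟨b, hb, hb1, hba, -, -⟩ := JInner.exists_notin A hcon 1 a 1 1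
  obtain ⟨c, hc, hc1, hca, hcb, hcab⟩ := JInner.exists_notin A hcon 1 a b (a * b)
  have hinv : ∀ x ∈ A, x⁻¹ = x := fun x hx => inv_eq_of_mul_eq_one_left (hA x hx)
  have hne : ∀ x ∈ A, ∀ y ∈ A, x ≠ y → x * y ≠ 1 := by
    intro x hx y hy hxy h1
    apply hxy
    rw [← hinv x hx]
    exact (eq_inv_of_mul_eq_one_right h1).symm ▸ rfl
  obtain ⟨γ, hγ0, hγ⟩ := exists_mat R ha1 (hA a ha)
  obtain ⟨δ, hδ0, hδ⟩ := exists_mat R hb1 (hA b hb)
  obtain ⟨ε, hε0, hε⟩ := exists_mat R hc1 (hA c hc)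
  have key : ∀ {x y : MulAut L} (hx : x ∈ A) (hy : y ∈ A) (hxy : x * y ≠ 1) {γ δ : GL (Fin 2) (ZMod 7)}
      (hγ : R.gl γ = x) (hδ : R.gl δ = y), (γ.1 * δ.1).trace = 0 := by
    intro x y hx hy hxy γ δ hγ hδ
    refine orth R ?_ ?_
    · rw [map_mul, hγ, hδ]; exact hxy
    · rw [map_mul, hγ, hδ]; exact hA _ (mul_mem hx hy)
  have h1 := key ha hb (hne a ha b hb hba.symm) hγ hδ
  have h2 := key ha hc (hne a ha c hc hca.symm) hγ hε
  have h3 := key hb hc (hne b hb c hc hcb.symm) hδ hε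
  have h4 := key (mul_mem ha hb) hc (hne (a * b) (mul_mem ha hb) c hc hcab.symm)
    (γ := γ * δ) (δ := ε) (by rw [map_mul, hγ, hδ]) hε
  exact no_three hγ0 hδ0 hε0 h1 h2 h3 h4 R.two

end aut

/-! ### the action on `N / O₂(N)` -/

section bar

/-- the automorphism of `N / O₂(N)` -/
noncomputable def barAut (N : Type*) [Group N] : MulAut N →* MulAut (N ⧸ pCore 2 N) :=
  letI : (pCore 2 N).Normal := Lib.Cores.pCore_normal 2
  { toFun := fun α => QuotientGroup.congr (pCore 2 N) (pCore 2 N) α (Lib.Cores.map_equiv_pCore α 2)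
    map_one' := by
      ext x
      obtain ⟨n, rfl⟩ := QuotientGroup.mk_surjective x
      rfl
    map_mul' := fun α β => by
      ext x
      obtain ⟨n, rfl⟩ := QuotientGroup.mk_surjective x
      rfl }

variable {G : Type*} [Group G] {N : Subgroup G}

/-- the action of `N_G(N)` on `N / O₂(N)` -/
noncomputable def bar (N : Subgroup G) : ↥(normalizer (N : Set G)) →* MulAut (N ⧸ pCore 2 N) :=
  (barAut N).comp N.normalizerMonoidHom

theorem mem_o2_iff (n : N) : (n : G) ∈ o2 N ↔ n ∈ pCore 2 N := by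
  constructor
  · rintro ⟨m, hm, e⟩
    rwa [← Subtype.ext (show (m : G) = n from e)]
  · intro h
    exact ⟨n, h, rfl⟩

theorem bar_mk (g : ↥(normalizer (N : Set G))) (n : N) :
    bar N g (QuotientGroup.mk n) = QuotientGroup.mk (⟨(g : G) * n * (g : G)⁻¹,
      (mem_normalizer_iff.1 g.2 n).1 n.2⟩ : N) := rfl

theorem mk_eq_iff (m n : N) : (QuotientGroup.mk m : N ⧸ pCore 2 N) = QuotientGroup.mk n ↔ (m : G) * (n : G)⁻¹ ∈ o2 N := by
  have hn : (pCore 2 N).Normal := Lib.Cores.pCore_normal 2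
  rw [← mul_inv_eq_one, ← QuotientGroup.mk_inv, ← QuotientGroup.mk_mul, QuotientGroup.eq_one_iff, ← mem_o2_iff]
  rfl

theorem bar_eq_one {g : ↥(normalizer (N : Set G))} : bar N g = 1 ↔ (g : G) ∈ cq N := by
  constructor
  · intro h
    refine mem_cq_of g.2 fun n hn => ?_
    have h1 := congrArg (fun β : MulAut (N ⧸ pCore 2 N) => β (QuotientGroup.mk (⟨n, hn⟩ : N))) h
    simp only [MulAut.one_apply] at h1
    rw [bar_mk, mk_eq_iff] at h1
    exact h1
  · intro h
    ext x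
    obtain ⟨n, rfl⟩ := QuotientGroup.mk_surjective x
    rw [bar_mk, MulAut.one_apply, mk_eq_iff]
    exact h.2 n n.2

variable [Finite G]

/-- `a` inverts an element of order 3 of `N` -/
theorem exists_three (hs : IsSimpleGroup (N ⧸ pCore 2 N)) (hc : (o2 N).relIndex N = 168) {a : G}
    (ha : a ∈ normalizer (N : Set G)) (ha2 : a * a = 1) (hac : a ∉ cq N) :
    ∃ x ∈ N, orderOf x = 3 ∧ a * x * a⁻¹ = x⁻¹ := by
  have hn : (pCore 2 N).Normal := Lib.Cores.pCore_normal 2
  have hcard : Nat.card (N ⧸ pCore 2 N) = 168 := by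
    rw [← hc]
    have h1 : (o2 N).subgroupOf N = pCore 2 N := by
      ext n
      rw [mem_subgroupOf, mem_o2_iff]
    rw [Subgroup.relIndex, h1, Subgroup.index]
  have hb1 : bar N ⟨a, ha⟩ ≠ 1 := fun h => hac (bar_eq_one.1 h)
  have hb2 : bar N ⟨a, ha⟩ * bar N ⟨a, ha⟩ = 1 := by
    rw [← map_mul]
    have e : (⟨a, ha⟩ : ↥(normalizer (N : Set G))) * ⟨a, ha⟩ = 1 := Subtype.ext ha2
    rw [e, map_one]
  obtain ⟨xb, hx3, hxi⟩ := exists_inv_three hs hcard hb1 hb2
  obtain ⟨⟨n, hnN⟩, rfl⟩ := QuotientGroup.mk_surjective xb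
  rw [bar_mk] at hxi
  -- `c = [a, n]`
  have hai : a⁻¹ = a := inv_eq_of_mul_eq_one_left ha2
  have hcN : a * n * a⁻¹ * n⁻¹ ∈ N := mul_mem ((mem_normalizer_iff.1 ha n).1 hnN) (inv_mem hnN)
  obtain ⟨c, hcdef⟩ : ∃ c : G, c = a * n * a⁻¹ * n⁻¹ := ⟨_, rfl⟩
  rw [← hcdef] at hcN
  have hcinv : a * c * a⁻¹ = c⁻¹ := by
    rw [hcdef]
    have e1 : a * (a * n * a⁻¹ * n⁻¹) * a⁻¹ = (a * a) * n * a⁻¹ * n⁻¹ * a⁻¹ := by group
    have e2 : (a * n * a⁻¹ * n⁻¹)⁻¹ = n * a * n⁻¹ * a⁻¹ := by group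
    rw [e1, e2, ha2, one_mul, hai]
  have hcm : (QuotientGroup.mk (⟨c, hcN⟩ : N) : N ⧸ pCore 2 N) = QuotientGroup.mk (⟨n, hnN⟩ : N) := by
    have h1 : (⟨c, hcN⟩ : N) = ⟨a * n * a⁻¹, (mem_normalizer_iff.1 ha n).1 hnN⟩ * (⟨n, hnN⟩ : N)⁻¹ :=
      Subtype.ext hcdef
    rw [h1, QuotientGroup.mk_mul, QuotientGroup.mk_inv]
    have h2 : (QuotientGroup.mk (⟨a * n * a⁻¹, (mem_normalizer_iff.1 ha n).1 hnN⟩ : N) : N ⧸ pCore 2 N) =
        (QuotientGroup.mk (⟨n, hnN⟩ : N))⁻¹ := hxi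
    rw [h2]
    have h3 : (QuotientGroup.mk (⟨n, hnN⟩ : N) : N ⧸ pCore 2 N) ^ 3 = 1 := by rw [← hx3]; exact pow_orderOf_eq_one _
    rw [pow_succ, pow_two] at h3
    rw [← _root_.mul_inv_rev]
    exact inv_eq_of_mul_eq_one_right h3
  -- `c ^ 3` is a 2-element
  have hc3 : c ^ 3 ∈ o2 N := by
    have h1 : (⟨c, hcN⟩ : N) ^ 3 ∈ pCore 2 N := by
      rw [← QuotientGroup.eq_one_iff, QuotientGroup.mk_pow, hcm, ← hx3]
      exact pow_orderOf_eq_one _
    exact (mem_o2_iff ((⟨c, hcN⟩ : N) ^ 3)).2 h1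
  obtain ⟨k, hk⟩ := o2_isPGroup N ⟨_, hc3⟩
  have hk1 : (c ^ 3) ^ 2 ^ k = 1 := congrArg Subtype.val hk
  have h4k : 4 ^ k % 3 = 1 := by
    rw [Nat.pow_mod]; norm_num
  have hx1 : (c ^ 4 ^ k) ^ 3 = 1 := by
    have e : (c ^ 4 ^ k) ^ 3 = ((c ^ 3) ^ 2 ^ k) ^ 2 ^ k := by
      rw [← pow_mul, ← pow_mul, ← pow_mul]
      congr 1
      have : 4 ^ k = 2 ^ k * 2 ^ k := by rw [← mul_pow]; norm_num
      rw [this]; ring
    rw [e, hk1, one_pow]
  have hxN : c ^ 4 ^ k ∈ N := pow_mem hcN _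
  have hxm : (QuotientGroup.mk (⟨c ^ 4 ^ k, hxN⟩ : N) : N ⧸ pCore 2 N) = QuotientGroup.mk (⟨n, hnN⟩ : N) := by
    have h1 : (⟨c ^ 4 ^ k, hxN⟩ : N) = (⟨c, hcN⟩ : N) ^ 4 ^ k := rfl
    rw [h1, QuotientGroup.mk_pow, hcm, ← pow_mod_orderOf, hx3, h4k, pow_one]
  refine ⟨c ^ 4 ^ k, hxN, ?_, ?_⟩
  · have : Fact (Nat.Prime 3) := ⟨Nat.prime_three⟩
    refine orderOf_eq_prime hx1 fun h0 => ?_
    have h1 : (⟨c ^ 4 ^ k, hxN⟩ : N) = 1 := Subtype.ext h0
    rw [h1, QuotientGroup.mk_one] at hxm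
    rw [← hxm, orderOf_one] at hx3
    omega
  · have h1 : a * c ^ 4 ^ k * a⁻¹ = (a * c * a⁻¹) ^ 4 ^ k := by rw [conj_pow]
    rw [h1, hcinv, inv_pow]

theorem relIndex_le_four (hs : IsSimpleGroup (N ⧸ pCore 2 N)) (hc : (o2 N).relIndex N = 168) {A : Subgroup G}
    (hA : A ≤ normalizer (N : Set G)) (hA2 : ∀ a ∈ A, a * a = 1) : (A ⊓ cq N).relIndex A ≤ 4 := by
  have hcard : Nat.card (N ⧸ pCore 2 N) = 168 := by
    rw [← hc]
    have h1 : (o2 N).subgroupOf N = pCore 2 N := by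
      ext n
      rw [mem_subgroupOf, mem_o2_iff]
    rw [Subgroup.relIndex, h1, Subgroup.index]
  have h1 := card_le_four hs hcard (A := (A.subgroupOf (normalizer (N : Set G))).map (bar N)) (by
    rintro _ ⟨a, ha, rfl⟩
    rw [← map_mul]
    have e : a * a = 1 := Subtype.ext (hA2 a (mem_subgroupOf.1 ha))
    rw [e, map_one])
  have h2 : (bar N).ker.relIndex (A.subgroupOf (normalizer (N : Set G))) =
      Nat.card ((A.subgroupOf (normalizer (N : Set G))).map (bar N)) := Subgroup.relIndex_ker _ _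
  rw [← h2] at h1
  have h3 : (bar N).ker = (cq N ⊓ normalizer (N : Set G)).subgroupOf (normalizer (N : Set G)) := by
    ext g
    rw [MonoidHom.mem_ker, bar_eq_one, mem_subgroupOf, mem_inf]
    exact ⟨fun h => ⟨h, g.2⟩, fun h => h.1⟩
  rw [h3, relIndex_subgroupOf hA] at h1
  rw [inf_relIndex_left]
  have h4 : (cq N ⊓ normalizer (N : Set G)).relIndex A = (cq N).relIndex A := by
    rw [← inf_relIndex_right, inf_assoc, inf_eq_right.2 hA, inf_relIndex_right]
  rwa [h4] at h1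

end bar

end Cfsg.Agent.OddCyclic.Emp3.Seven
end
end
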